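import Groth.Agent.Lib.Helper7.Hensel.Iff

/-!
# Henselian local rings versus henselian pairs, and rigidity of unramified maps
-/

open Polynomial

namespace Groth.Agent.Helper7.Hensel

universe u v w

theorem henselianLocalRing_of_henselianRing {R : Type*} [CommRing R] [IsLocalRing R]
    (h : HenselianRing R (IsLocalRing.maximalIdeal R)) : HenselianLocalRing R where
  is_henselian f hf a₀ h₁ h₂ := h.is_henselian f hf a₀ h₁ (h₂.map _)

theorem Gabber.of_henselianLocalRing (R : Type u) [CommRing R] [HenselianLocalRing R] :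
    Gabber R (IsLocalRing.maximalIdeal R) :=
  Gabber.of_henselianRing inferInstance

theorem henselianLocalRing_of_gabber {R : Type u} [CommRing R] [IsLocalRing R]
    (h : Gabber R (IsLocalRing.maximalIdeal R)) : HenselianLocalRing R :=
  henselianLocalRing_of_henselianRing h.henselianRing

/-- **Rigidity**: two algebra maps out of an unramified algebra which agree modulo an ideal
contained in the Jacobson radical are equal. -/
theorem algHom_eq_of_formallyUnramified {R : Type u} {E : Type v} {B : Type w} [CommRing R]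
    [CommRing E] [CommRing B] [Algebra R E] [Algebra R B] [Algebra.FormallyUnramified R E]
    [Algebra.FiniteType R E] (J₀ : Ideal B) (hJ : J₀ ≤ Ideal.jacobson ⊥)
    (φ₁ φ₂ : E →ₐ[R] B) (h : ∀ x, φ₁ x - φ₂ x ∈ J₀) : φ₁ = φ₂ := by
  classical
  obtain ⟨s, hs⟩ := Algebra.FiniteType.out (R := R) (A := E)
  let J : Ideal B := Ideal.span ((fun x => φ₁ x - φ₂ x) '' (s : Set E))
  have hJfg : J.FG := ⟨s.image (fun x => φ₁ x - φ₂ x), by simp [J]⟩
  have hmem : ∀ x, φ₁ x - φ₂ x ∈ J := by
    intro x
    have hx : x ∈ Algebra.adjoin R (s : Set E) := by rw [hs]; trivial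
    induction hx using Algebra.adjoin_induction with
    | mem x hx => exact Ideal.subset_span ⟨x, hx, rfl⟩
    | algebraMap r => simp
    | add x y _ _ hx hy =>
      have : φ₁ (x + y) - φ₂ (x + y) = (φ₁ x - φ₂ x) + (φ₁ y - φ₂ y) := by
        rw [map_add, map_add]; ring
      rw [this]; exact J.add_mem hx hy
    | mul x y _ _ hx hy =>
      have : φ₁ (x * y) - φ₂ (x * y) = φ₁ x * (φ₁ y - φ₂ y) + (φ₁ x - φ₂ x) * φ₂ y := by
        rw [map_mul, map_mul]; ring
      rw [this]
      exact J.add_mem (J.mul_mem_left _ hy) (J.mul_mem_right _ hx)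
  have hJle : J ≤ J₀ := Ideal.span_le.mpr (by rintro _ ⟨x, -, rfl⟩; exact h x)
  -- the two maps agree modulo `J ^ 2`
  have hsq : (Ideal.Quotient.mkₐ R (J ^ 2)).comp φ₁ = (Ideal.Quotient.mkₐ R (J ^ 2)).comp φ₂ := by
    refine Algebra.FormallyUnramified.ext (I := J.map (Ideal.Quotient.mk (J ^ 2))) ⟨2, ?_⟩ ?_
    · rw [← Ideal.map_pow, Ideal.zero_eq_bot, Ideal.map_quotient_self]
    · intro x
      rw [Ideal.Quotient.eq]
      show Ideal.Quotient.mk (J ^ 2) (φ₁ x) - Ideal.Quotient.mk (J ^ 2) (φ₂ x) ∈ _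
      rw [← map_sub]
      exact Ideal.mem_map_of_mem _ (hmem x)
  have hle : J ≤ J • J := by
    refine Ideal.span_le.mpr ?_
    rintro _ ⟨x, -, rfl⟩
    have := AlgHom.congr_fun hsq x
    simp only [AlgHom.comp_apply, Ideal.Quotient.mkₐ_eq_mk] at this
    rw [Ideal.Quotient.eq] at this
    rw [smul_eq_mul, ← pow_two]
    exact this
  have hbot : J = ⊥ :=
    Submodule.eq_bot_of_le_smul_of_le_jacobson_bot J J hJfg hle (hJle.trans hJ)
  ext x
  have := hmem x
  rw [hbot, Ideal.mem_bot, sub_eq_zero] at this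
  exact this

end Groth.Agent.Helper7.Hensel
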