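import Groth.Agent.Lib.Helper7.Hensel.Integral
import Groth.Agent.Lib.Helper7.Hensel.Local

/-!
# Finite local algebras over henselian local rings
-/

namespace Groth.Agent.Helper7.Hensel

universe u

/-- In a finite algebra `S` over a local ring `R`, every element of the Jacobson radical of `S`
has a power in `𝔪_R S`. -/
theorem exists_pow_mem_map_maximalIdeal_of_mem_jacobson {R S : Type*} [CommRing R] [CommRing S]
    [IsLocalRing R] [Algebra R S] [Module.Finite R S] (x : S)
    (hx : x ∈ Ideal.jacobson (⊥ : Ideal S)) :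
    ∃ n : ℕ, x ^ n ∈ (IsLocalRing.maximalIdeal R).map (algebraMap R S) := by
  have hfin : Module.Finite (R ⧸ IsLocalRing.maximalIdeal R)
      (S ⧸ (IsLocalRing.maximalIdeal R).map (algebraMap R S)) :=
    Module.Finite.of_restrictScalars_finite R _ _
  let _ : Field (R ⧸ IsLocalRing.maximalIdeal R) := Ideal.Quotient.field _
  have hart : IsArtinianRing (S ⧸ (IsLocalRing.maximalIdeal R).map (algebraMap R S)) :=
    IsArtinianRing.of_finite (R ⧸ IsLocalRing.maximalIdeal R) _
  set J := (IsLocalRing.maximalIdeal R).map (algebraMap R S) with hJ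
  obtain ⟨n, hn⟩ := IsArtinianRing.isNilpotent_jacobson_bot (R := S ⧸ J)
  have hmem : Ideal.Quotient.mk J x ∈ Ideal.jacobson (⊥ : Ideal (S ⧸ J)) := by
    rw [Ideal.mem_jacobson_bot]
    intro y
    obtain ⟨s, rfl⟩ := Ideal.Quotient.mk_surjective y
    have := (Ideal.mem_jacobson_bot.mp hx) s
    have h2 := this.map (Ideal.Quotient.mk J)
    simpa using h2
  refine ⟨n, ?_⟩
  rw [← Ideal.Quotient.eq_zero_iff_mem, map_pow]
  have : Ideal.Quotient.mk J x ^ n ∈ Ideal.jacobson (⊥ : Ideal (S ⧸ J)) ^ n :=
    Ideal.pow_mem_pow hmem n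
  rw [hn] at this
  exact this

theorem map_maximalIdeal_le_maximalIdeal {R S : Type*} [CommRing R] [CommRing S]
    [IsLocalRing R] [IsLocalRing S] [Algebra R S] [Algebra.IsIntegral R S] :
    (IsLocalRing.maximalIdeal R).map (algebraMap R S) ≤ IsLocalRing.maximalIdeal S := by
  rw [Ideal.map_le_iff_le_comap]
  have hmax : ((IsLocalRing.maximalIdeal S).comap (algebraMap R S)).IsMaximal :=
    Ideal.isMaximal_comap_of_isIntegral_of_isMaximal (IsLocalRing.maximalIdeal S)
  rw [IsLocalRing.eq_maximalIdeal hmax]

/-- A local ring which is finite over a henselian local ring is henselian. -/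
theorem henselianLocalRing_of_finite (R : Type u) [CommRing R] [HenselianLocalRing R]
    (S : Type u) [CommRing S] [IsLocalRing S] [Algebra R S] [Module.Finite R S] :
    HenselianLocalRing S := by
  apply henselianLocalRing_of_gabber
  have hG : Gabber S ((IsLocalRing.maximalIdeal R).map (algebraMap R S)) :=
    (Gabber.of_henselianLocalRing R).of_isIntegral
  refine hG.of_le_of_nil map_maximalIdeal_le_maximalIdeal fun x hx => ?_
  apply exists_pow_mem_map_maximalIdeal_of_mem_jacobson
  rw [IsLocalRing.jacobson_eq_maximalIdeal ⊥ bot_ne_top]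
  exact hx

end Groth.Agent.Helper7.Hensel
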