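import Groth.Agent.Lib.Helper7.Hensel.Basic

/-!
# Complete orthogonal idempotents from pairwise separation of maximal ideals
-/

namespace Groth.Agent.Helper7.Hensel

theorem mem_jacobson_bot_of_forall_mem {S : Type*} [CommRing S] (x : S)
    (h : ∀ M : Ideal S, M.IsMaximal → x ∈ M) : x ∈ Ideal.jacobson (⊥ : Ideal S) := by
  rw [Ideal.jacobson, Ideal.mem_sInf]
  intro M hM
  exact h M hM.2

theorem exists_completeOrthogonalIdempotents_of_separated (S : Type*) [CommRing S]
    [Fintype (MaximalSpectrum S)]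
    (hsep : ∀ M₁ M₂ : MaximalSpectrum S, M₁ ≠ M₂ →
      ∃ e : S, IsIdempotentElem e ∧ e ∈ M₁.asIdeal ∧ 1 - e ∈ M₂.asIdeal) :
    ∃ e : MaximalSpectrum S → S, CompleteOrthogonalIdempotents e ∧
      (∀ M, 1 - e M ∈ M.asIdeal) ∧ ∀ M M' : MaximalSpectrum S, M' ≠ M → e M ∈ M'.asIdeal := by
  classical
  choose ε hε₁ hε₂ hε₃ using hsep
  -- `g M M'` is an idempotent in `M'` and congruent to `1` modulo `M`
  let g : MaximalSpectrum S → MaximalSpectrum S → S :=
    fun M M' => if h : M' = M then 1 else ε M' M h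
  have hg_idem : ∀ M M', IsIdempotentElem (g M M') := by
    intro M M'
    show IsIdempotentElem (if h : M' = M then 1 else ε M' M h)
    split_ifs with h
    · exact IsIdempotentElem.one
    · exact hε₁ M' M h
  have hg_mem : ∀ M M', M' ≠ M → g M M' ∈ M'.asIdeal := by
    intro M M' h
    show (if h : M' = M then 1 else ε M' M h) ∈ _
    rw [dif_neg h]
    exact hε₂ M' M h
  have hg_notMem : ∀ M M', g M M' ∉ M.asIdeal := by
    intro M M' hmem
    have hmem' : (if h : M' = M then 1 else ε M' M h) ∈ M.asIdeal := hmem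
    split_ifs at hmem' with h
    · exact M.isMaximal.ne_top ((Ideal.eq_top_iff_one _).mpr hmem')
    · apply M.isMaximal.ne_top
      rw [Ideal.eq_top_iff_one]
      have := M.asIdeal.add_mem hmem' (hε₃ M' M h)
      simpa using this
  let e : MaximalSpectrum S → S := fun M => ∏ M', g M M'
  have he_idem : ∀ M, IsIdempotentElem (e M) := by
    intro M
    exact Finset.prod_induction _ IsIdempotentElem (fun a b ha hb => ha.mul hb)
      IsIdempotentElem.one (fun M' _ => hg_idem M M')
  have he_mem : ∀ M M' : MaximalSpectrum S, M' ≠ M → e M ∈ M'.asIdeal := by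
    intro M M' h
    have : M'.asIdeal.IsPrime := M'.isMaximal.isPrime
    exact Ideal.IsPrime.prod_mem_iff.mpr ⟨M', Finset.mem_univ _, hg_mem M M' h⟩
  have he_notMem : ∀ M, e M ∉ M.asIdeal := by
    intro M hmem
    have : M.asIdeal.IsPrime := M.isMaximal.isPrime
    obtain ⟨M', -, hM'⟩ := Ideal.IsPrime.prod_mem_iff.mp hmem
    exact hg_notMem M M' hM'
  have he_one_sub : ∀ M, 1 - e M ∈ M.asIdeal := by
    intro M
    have h0 : e M * (1 - e M) ∈ M.asIdeal := by
      have : e M * (1 - e M) = 0 := by rw [mul_sub, mul_one, (he_idem M).eq, sub_self]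
      rw [this]; exact M.asIdeal.zero_mem
    exact (M.isMaximal.isPrime.mem_or_mem h0).resolve_left (he_notMem M)
  have he_ortho : Pairwise (fun M M' => e M * e M' = 0) := by
    intro M M' hne
    apply eq_zero_of_isIdempotentElem_of_mem_jacobson ((he_idem M).mul (he_idem M'))
    apply mem_jacobson_bot_of_forall_mem
    intro N hN
    by_cases h : (⟨N, hN⟩ : MaximalSpectrum S) = M
    · have : e M' ∈ N := he_mem M' ⟨N, hN⟩ (by rw [h]; exact hne)
      exact N.mul_mem_left _ this
    · have : e M ∈ N := he_mem M ⟨N, hN⟩ h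
      exact N.mul_mem_right _ this
  have he_orth : OrthogonalIdempotents e := ⟨he_idem, he_ortho⟩
  refine ⟨e, ⟨he_orth, ?_⟩, he_one_sub, he_mem⟩
  have hidem : IsIdempotentElem (1 - ∑ M, e M) :=
    (he_orth.isIdempotentElem_sum (s := Finset.univ)).one_sub
  have hzero : 1 - ∑ M, e M = 0 := by
    apply eq_zero_of_isIdempotentElem_of_mem_jacobson hidem
    apply mem_jacobson_bot_of_forall_mem
    intro N hN
    have hsplit : 1 - ∑ M, e M
        = (1 - e ⟨N, hN⟩) - ∑ M ∈ Finset.univ.erase (⟨N, hN⟩ : MaximalSpectrum S), e M := by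
      rw [← Finset.add_sum_erase Finset.univ e (Finset.mem_univ (⟨N, hN⟩ : MaximalSpectrum S))]
      ring
    rw [hsplit]
    refine N.sub_mem (he_one_sub ⟨N, hN⟩) (N.sum_mem fun M hM => ?_)
    exact he_mem M ⟨N, hN⟩ (Finset.ne_of_mem_erase hM).symm
  exact (sub_eq_zero.mp hzero).symm

/-- The quotient by `1 - e` is local if `e` is congruent to `1` modulo the maximal ideal `M` and
lies in all other maximal ideals. -/
theorem isLocalRing_quotient_of_idempotent {S : Type*} [CommRing S] (M : Ideal S)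
    [hM : M.IsMaximal] (e : S) (h1 : 1 - e ∈ M)
    (h2 : ∀ M' : Ideal S, M'.IsMaximal → M' ≠ M → e ∈ M') :
    IsLocalRing (S ⧸ Ideal.span {1 - e}) := by
  have hsurj : Function.Surjective (Ideal.Quotient.mk (Ideal.span {1 - e})) :=
    Ideal.Quotient.mk_surjective
  have hle : Ideal.span {1 - e} ≤ M := (Ideal.span_singleton_le_iff_mem M).mpr h1
  have hcomap : (M.map (Ideal.Quotient.mk (Ideal.span {1 - e}))).comap
      (Ideal.Quotient.mk (Ideal.span {1 - e})) = M := by
    rw [Ideal.comap_map_of_surjective _ hsurj, ← RingHom.ker_eq_comap_bot, Ideal.mk_ker,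
      sup_eq_left]
    exact hle
  have hmax : (M.map (Ideal.Quotient.mk (Ideal.span {1 - e}))).IsMaximal := by
    refine (Ideal.map_eq_top_or_isMaximal_of_surjective _ hsurj hM).resolve_left fun htop => ?_
    rw [htop, Ideal.comap_top] at hcomap
    exact hM.ne_top hcomap.symm
  refine IsLocalRing.of_unique_max_ideal ⟨_, hmax, fun N hN => ?_⟩
  have hNmax : (N.comap (Ideal.Quotient.mk (Ideal.span {1 - e}))).IsMaximal :=
    Ideal.comap_isMaximal_of_surjective _ hsurj
  have hmem : 1 - e ∈ N.comap (Ideal.Quotient.mk (Ideal.span {1 - e})) := by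
    rw [Ideal.mem_comap, Ideal.Quotient.eq_zero_iff_mem.mpr (Ideal.mem_span_singleton_self _)]
    exact N.zero_mem
  have heq : N.comap (Ideal.Quotient.mk (Ideal.span {1 - e})) = M := by
    by_contra hne
    have := h2 _ hNmax hne
    apply hNmax.ne_top
    rw [Ideal.eq_top_iff_one]
    have h3 := Ideal.add_mem _ hmem this
    simpa using h3
  rw [← Ideal.map_comap_of_surjective _ hsurj N, heq]

end Groth.Agent.Helper7.Hensel
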