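import Groth.Agent.Lib.Helper7.Hensel.FiniteDecomp
import Groth.Agent.Lib.Helper7.Hensel.SemiLocalIdem

/-!
# Finite algebras over henselian local rings are products of local rings: main statement
-/

namespace Groth.Agent.Helper7.Hensel

universe u

theorem exists_idempotents_local (R : Type u) [CommRing R] [HenselianLocalRing R]
    (S : Type u) [CommRing S] [Algebra R S] [Module.Finite R S] [Fintype (MaximalSpectrum S)] :
    ∃ e : MaximalSpectrum S → S, CompleteOrthogonalIdempotents e ∧
      (∀ M, 1 - e M ∈ M.asIdeal) ∧ (∀ M M' : MaximalSpectrum S, M' ≠ M → e M ∈ M'.asIdeal) ∧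
      ∀ M, IsLocalRing (S ⧸ Ideal.span {1 - e M}) := by
  obtain ⟨e, he, h1, h2⟩ := exists_completeOrthogonalIdempotents_of_separated S (by
    intro M₁ M₂ hne
    have := M₁.isMaximal
    have := M₂.isMaximal
    exact exists_idempotent_mem_of_ne R S M₁.asIdeal M₂.asIdeal
      (fun h => hne (MaximalSpectrum.ext h)))
  refine ⟨e, he, h1, h2, fun M => ?_⟩
  have := M.isMaximal
  exact isLocalRing_quotient_of_idempotent M.asIdeal (e M) (h1 M)
    (fun M' hM' hne => h2 M ⟨M', hM'⟩ (fun h => hne (congrArg MaximalSpectrum.asIdeal h)))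

/-- A finite algebra over a henselian local ring is a finite product of local rings. -/
theorem exists_ringEquiv_pi_local (R : Type u) [CommRing R] [HenselianLocalRing R]
    (S : Type u) [CommRing S] [Algebra R S] [Module.Finite R S] :
    ∃ (ι : Type u) (_ : Fintype ι) (A : ι → Type u) (_ : ∀ i, CommRing (A i)),
      (∀ i, IsLocalRing (A i)) ∧ Nonempty (S ≃+* (∀ i, A i)) := by
  have := finite_maximalSpectrum R S
  have hft : Fintype (MaximalSpectrum S) := Fintype.ofFinite _
  obtain ⟨e, he, -, -, hloc⟩ := exists_idempotents_local R S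
  exact ⟨MaximalSpectrum S, hft, fun M => S ⧸ Ideal.span {1 - e M}, fun _ => inferInstance, hloc,
    ⟨RingEquiv.ofBijective _ he.bijective_pi⟩⟩

end Groth.Agent.Helper7.Hensel
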