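import Mathlib

/-!
# Small auxiliary lemmas for the Henselian-pair development
-/

namespace Groth.Agent.Helper7.Hensel

universe u v w

theorem isUnit_of_isUnit_mk {A : Type*} [CommRing A] {I : Ideal A}
    (hjac : I ≤ Ideal.jacobson ⊥) (a : A) (h : IsUnit (Ideal.Quotient.mk I a)) : IsUnit a := by
  obtain ⟨u, hu⟩ := h
  obtain ⟨a', ha'⟩ := Ideal.Quotient.mk_surjective (↑u⁻¹ : A ⧸ I)
  have h1 : a * a' - 1 ∈ I := by
    rw [← Ideal.Quotient.eq_zero_iff_mem, map_sub, map_mul, map_one, ha', ← hu, Units.mul_inv,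
      sub_self]
  have h2 : IsUnit ((a * a' - 1) * 1 + 1) := Ideal.mem_jacobson_bot.mp (hjac h1) 1
  have h3 : (a * a' - 1) * 1 + 1 = a * a' := by ring
  rw [h3] at h2
  exact isUnit_of_mul_isUnit_left h2

theorem isUnit_of_sub_one_mem {A : Type*} [CommRing A] {I : Ideal A}
    (hjac : I ≤ Ideal.jacobson ⊥) (a : A) (h : a - 1 ∈ I) : IsUnit a := by
  have h2 : IsUnit ((a - 1) * 1 + 1) := Ideal.mem_jacobson_bot.mp (hjac h) 1
  have h3 : (a - 1) * 1 + 1 = a := by ring
  rwa [h3] at h2

theorem eq_zero_of_isIdempotentElem_of_mem_jacobson {A : Type*} [CommRing A] {e : A}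
    (he : IsIdempotentElem e) (h : e ∈ Ideal.jacobson (⊥ : Ideal A)) : e = 0 := by
  have h2 : IsUnit (e * (-1) + 1) := Ideal.mem_jacobson_bot.mp h (-1)
  have h3 : e * (e * (-1) + 1) = 0 := by
    have : e * (e * (-1) + 1) = -(e * e) + e := by ring
    rw [this, he.eq]; ring
  exact (h2.mul_left_eq_zero).mp h3

/-- A surjective étale algebra map `A → E₁` whose kernel lies in the Jacobson radical is
injective. -/
theorem injective_of_etale_of_surjective_of_ker_le_jacobson {A : Type u} {E₁ : Type v}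
    [CommRing A] [CommRing E₁] [Algebra A E₁] [Algebra.Etale A E₁]
    (hsurj : Function.Surjective (algebraMap A E₁))
    (hker : RingHom.ker (algebraMap A E₁) ≤ Ideal.jacobson ⊥) :
    Function.Injective (algebraMap A E₁) := by
  have hidem : IsIdempotentElem (RingHom.ker (algebraMap A E₁)) :=
    (Algebra.FormallySmooth.iff_of_surjective hsurj).mp inferInstance
  have hfg : (RingHom.ker (algebraMap A E₁)).FG := by
    have := Algebra.FinitePresentation.ker_fG_of_surjective (Algebra.ofId A E₁) hsurj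
    exact this
  obtain ⟨e, he, hKe⟩ := (Ideal.isIdempotentElem_iff_of_fg _ hfg).mp hidem
  have hemem : e ∈ RingHom.ker (algebraMap A E₁) := by
    rw [hKe]; exact Ideal.mem_span_singleton_self e
  have he0 : e = 0 := eq_zero_of_isIdempotentElem_of_mem_jacobson he (hker hemem)
  rw [RingHom.injective_iff_ker_eq_bot, hKe, he0]
  simp

/-- Descending membership in `I E` to `I B` along a localisation `E = B[1/Δ]`. -/
theorem exists_pow_mul_mem_of_mem_map {A : Type u} {B : Type v} {E : Type w} [CommRing A]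
    [CommRing B] [CommRing E] [Algebra A B] [Algebra B E] [Algebra A E] [IsScalarTower A B E]
    (Δ : B) [IsLocalization.Away Δ E] (I : Ideal A) (z : B)
    (hz : algebraMap B E z ∈ I.map (algebraMap A E)) :
    ∃ N : ℕ, Δ ^ N * z ∈ I.map (algebraMap A B) := by
  have h1 : I.map (algebraMap A E) = (I.map (algebraMap A B)).map (algebraMap B E) := by
    rw [Ideal.map_map, ← IsScalarTower.algebraMap_eq]
  rw [h1, IsLocalization.mem_map_algebraMap_iff (Submonoid.powers Δ)] at hz
  obtain ⟨⟨j, ⟨_, n, rfl⟩⟩, hj⟩ := hz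
  rw [← map_mul, IsLocalization.eq_iff_exists (Submonoid.powers Δ)] at hj
  obtain ⟨⟨_, m, rfl⟩, hm⟩ := hj
  simp only at hm
  refine ⟨m + n, ?_⟩
  have : Δ ^ (m + n) * z = Δ ^ m * (z * Δ ^ n) := by ring
  rw [this, hm]
  exact Ideal.mul_mem_left _ _ j.2

end Groth.Agent.Helper7.Hensel
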