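import Mathlib

/-!
# Gabber's criterion and lifting of rank-one idempotents in finite algebras
-/

open Polynomial

namespace Groth.Agent.Helper7.Hensel

universe u v

/-- Gabber's condition: `I` lies in the Jacobson radical and every polynomial
`T^n (T - 1) + p` with `p` of degree `≤ n` and coefficients in `I` has a root in `1 + I`. -/
def Gabber (A : Type u) [CommRing A] (I : Ideal A) : Prop :=
  I ≤ Ideal.jacobson ⊥ ∧ ∀ (n : ℕ), 0 < n → ∀ p : A[X], p.natDegree ≤ n → (∀ i, p.coeff i ∈ I) →
    ∃ α : A, α - 1 ∈ I ∧ (X ^ n * (X - 1) + p).IsRoot α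

theorem Gabber.of_henselianRing {A : Type u} [CommRing A] {I : Ideal A} (h : HenselianRing A I) :
    Gabber A I := by
  refine ⟨h.jac, fun n hn p hp hpI => ?_⟩
  rcases subsingleton_or_nontrivial A with hA | hA
  · exact ⟨1, by simp, Subsingleton.elim _ _⟩
  have hmonic : (X ^ n * (X - 1) + p : A[X]).Monic := by
    have h1 : (X ^ n * (X - 1) : A[X]).Monic := (monic_X_pow n).mul (monic_X_sub_C 1)
    have hd : (X ^ n * (X - 1) : A[X]).natDegree = n + 1 := by
      have := ((monic_X_pow (R := A) n).natDegree_mul (monic_X_sub_C (1 : A)))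
      rw [natDegree_X_pow, natDegree_X_sub_C, map_one] at this
      exact this
    apply h1.add_of_left
    rw [degree_eq_natDegree h1.ne_zero, hd]
    exact lt_of_le_of_lt degree_le_natDegree (by exact_mod_cast Nat.lt_succ_of_le hp)
  have hp1 : p.eval 1 ∈ I := by
    rw [eval_eq_sum_range]
    exact Ideal.sum_mem _ fun i _ => Ideal.mul_mem_right _ _ (hpI i)
  have hp1' : p.derivative.eval 1 ∈ I := by
    rw [eval_eq_sum_range]
    refine Ideal.sum_mem _ fun i _ => Ideal.mul_mem_right _ _ ?_
    rw [coeff_derivative]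
    exact Ideal.mul_mem_right _ _ (hpI _)
  obtain ⟨a, ha, ha1⟩ := h.is_henselian _ hmonic 1 (by simpa using hp1) (by
    have : (derivative (X ^ n * (X - 1) + p : A[X])).eval 1 = 1 + p.derivative.eval 1 := by
      simp [derivative_mul, derivative_X_pow]
    rw [this, map_add, map_one, Ideal.Quotient.eq_zero_iff_mem.mpr hp1', add_zero]
    exact isUnit_one)
  exact ⟨a, ha1, ha⟩

/-- Cayley–Hamilton for a matrix representing an endomorphism on a spanning family. -/
theorem aeval_charpoly_of_represents {ι : Type*} [Fintype ι] [DecidableEq ι] {A : Type*}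
    [CommRing A] {M : Type*} [AddCommGroup M] [Module A M] (b : ι → M)
    (hb : Submodule.span A (Set.range b) = ⊤) (Mx : Matrix ι ι A) (f : Module.End A M)
    (h : Mx.Represents b f) : aeval f Mx.charpoly = 0 := by
  have := Matrix.isRepresentation.eq_toEnd_of_represents A b hb ⟨Mx, f, h⟩ h
  rw [← this, Polynomial.aeval_algHom_apply, ← map_zero (Matrix.isRepresentation.toEnd A b hb)]
  congr 1
  ext1
  rw [Polynomial.aeval_subalgebra_coe, Matrix.aeval_self_charpoly, Subalgebra.coe_zero]

theorem aeval_mem_map_of_coeff_mem {A B : Type*} [CommRing A] [CommRing B] [Algebra A B]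
    (I : Ideal A) (b : B) (p : A[X]) (hp : ∀ i, p.coeff i ∈ I) :
    aeval b p ∈ I.map (algebraMap A B) := by
  rw [aeval_eq_sum_range]
  refine Ideal.sum_mem _ fun i _ => ?_
  rw [Algebra.smul_def]
  exact Ideal.mul_mem_right _ _ (Ideal.mem_map_of_mem _ (hp i))

/-- If `(b - α) w = 0` then `R(b) w = R(α) w` for every polynomial `R`. -/
theorem aeval_mul_eq_eval_smul {A B : Type*} [CommRing A] [CommRing B] [Algebra A B]
    (b w : B) (α : A) (h : b * w = α • w) (R : A[X]) : aeval b R * w = eval α R • w := by
  have hpow : ∀ k : ℕ, b ^ k * w = α ^ k • w := by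
    intro k
    induction k with
    | zero => simp
    | succ k ih =>
      rw [pow_succ, mul_assoc, h, mul_smul_comm, ih, smul_smul, pow_succ, mul_comm]
  induction R using Polynomial.induction_on' with
  | add p q hp hq => rw [map_add, add_mul, hp, hq, eval_add, add_smul]
  | monomial k r =>
    rw [aeval_monomial, eval_monomial, mul_assoc, hpow, ← Algebra.smul_def, smul_smul]

/-- **Rank-one idempotent lifting** under Gabber's condition. -/
theorem exists_idempotent_of_rankOne {A : Type u} {B : Type v} [CommRing A] [CommRing B]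
    [Algebra A B] [Module.Finite A B] (I : Ideal A) (hG : Gabber A I) (b : B)
    (hb : ∀ x : B, ∃ a : A, b * x - a • b ∈ I.map (algebraMap A B))
    (hbb : b * b - b ∈ I.map (algebraMap A B)) :
    ∃ e : B, IsIdempotentElem e ∧ e - b ∈ I.map (algebraMap A B) := by
  classical
  rcases subsingleton_or_nontrivial A with hA | hA
  · have : Subsingleton B := Module.subsingleton A B
    exact ⟨0, Subsingleton.elim _ _, by rw [Subsingleton.elim (0 - b) 0]; exact zero_mem _⟩
  set J := I.map (algebraMap A B) with hJ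
  obtain ⟨d, x₀, hx₀⟩ := Module.Finite.exists_fin (R := A) (M := B)
  -- generators `y 0 = b`, `y 1 = 1`, then `x₀`
  let y : Fin (d + 2) → B := Fin.cons b (Fin.cons 1 x₀)
  have hy : Submodule.span A (Set.range y) = ⊤ := by
    rw [eq_top_iff, ← hx₀]
    apply Submodule.span_mono
    rintro _ ⟨i, rfl⟩
    exact ⟨i.succ.succ, by simp [y]⟩
  let a : Fin (d + 2) → A := Fin.cases 1 (fun j => (hb (y j.succ)).choose)
  have ha : ∀ j, b * y j - a j • b ∈ J := by
    intro j
    refine Fin.cases ?_ (fun j => ?_) j
    · simpa [y, a] using hbb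
    · exact (hb (y j.succ)).choose_spec
  have hsmul : (I • (⊤ : Submodule A B)) = J.restrictScalars A := Ideal.smul_top_eq_map I
  have hz : ∀ j, b * y j - a j • b ∈ LinearMap.range (Ideal.finsuppTotal (Fin (d + 2)) B I y) := by
    intro j
    rw [Ideal.range_finsuppTotal, hy, hsmul]
    exact ha j
  choose c hc using hz
  let Mx : Matrix (Fin (d + 2)) (Fin (d + 2)) A :=
    fun i j => (if i = 0 then a j else 0) + (c j i : A)
  have hrep : Mx.Represents y (Algebra.lmul A B b) := by
    rw [Matrix.represents_iff']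
    intro j
    have h1 := hc j
    rw [Ideal.finsuppTotal_apply_eq_of_fintype] at h1
    simp only [Mx, add_smul, Finset.sum_add_distrib, ite_smul, zero_smul,
      Finset.sum_ite_eq', Finset.mem_univ, if_true, h1]
    simp [y]
  have hCH : aeval b Mx.charpoly = 0 := by
    have h1 := aeval_charpoly_of_represents y hy Mx _ hrep
    rw [Polynomial.aeval_algHom_apply] at h1
    have h2 := congrArg (fun f : Module.End A B => f 1) h1
    simpa using h2
  -- reduction mod `I`
  let mk := Ideal.Quotient.mk I
  have hmap : Mx.map mk = fun i j => if i = 0 then mk (a j) else 0 := by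
    ext i j
    simp only [Matrix.map_apply, Mx, map_add]
    rw [Ideal.Quotient.eq_zero_iff_mem.mpr (c j i).2, add_zero]
    split_ifs <;> simp
  have hupper : (Mx.map mk).IsUpperTriangular := by
    intro i j hij
    rw [hmap]
    have : i ≠ 0 := by
      intro h0
      rw [h0] at hij
      exact absurd hij (Fin.not_lt_zero j)
    simp [this]
  have hchar : Mx.charpoly.map mk = X ^ (d + 1) * (X - 1) := by
    rw [← Matrix.charpoly_map, Matrix.charpoly_of_isUpperTriangular _ hupper, Fin.prod_univ_succ]
    have h0 : (Mx.map mk) 0 0 = 1 := by rw [hmap]; simp [a]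
    have hs : ∀ i : Fin (d + 1), (Mx.map mk) i.succ i.succ = 0 := by
      intro i; rw [hmap]; simp [Fin.succ_ne_zero]
    simp only [h0, hs, map_one, map_zero, sub_zero, Finset.prod_const, Finset.card_univ,
      Fintype.card_fin]
    ring
  set χ := Mx.charpoly with hχ
  have hχm : χ.Monic := Matrix.charpoly_monic Mx
  have hχd : χ.natDegree = d + 2 := by
    rw [hχ, Matrix.charpoly_natDegree_eq_dim, Fintype.card_fin]
  set p := χ - X ^ (d + 1) * (X - 1) with hp
  have hq : (X ^ (d + 1) * (X - 1) : A[X]).Monic := (monic_X_pow _).mul (monic_X_sub_C 1)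
  have hqd : (X ^ (d + 1) * (X - 1) : A[X]).natDegree = d + 2 := by
    have := ((monic_X_pow (R := A) (d + 1)).natDegree_mul (monic_X_sub_C (1 : A)))
    rw [natDegree_X_pow, natDegree_X_sub_C, map_one] at this
    exact this
  have hpI : ∀ i, p.coeff i ∈ I := by
    intro i
    rw [← Ideal.Quotient.eq_zero_iff_mem, ← coeff_map, hp, Polynomial.map_sub, hchar]
    simp
  have hpd : p.natDegree ≤ d + 1 := by
    by_cases hp0 : p = 0
    · rw [hp0]; simp
    have h1 : p.degree < χ.degree := by
      rw [hp]
      apply degree_sub_lt_left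
      · rw [degree_eq_natDegree hχm.ne_zero, degree_eq_natDegree hq.ne_zero, hχd, hqd]
      · exact hχm.ne_zero
      · rw [hχm.leadingCoeff, hq.leadingCoeff]
    rw [degree_eq_natDegree hχm.ne_zero, hχd, degree_eq_natDegree hp0] at h1
    have : p.natDegree < d + 2 := by exact_mod_cast h1
    omega
  obtain ⟨α, hα1, hαroot⟩ := hG.2 (d + 1) (Nat.succ_pos d) p hpd hpI
  have hχeq : X ^ (d + 1) * (X - 1) + p = χ := by rw [hp]; ring
  rw [hχeq] at hαroot
  set Q := χ /ₘ (X - C α) with hQ
  have hχQ : (X - C α) * Q = χ := mul_divByMonic_eq_iff_isRoot.mpr hαroot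
  have hmkα : mk α = 1 := by
    rw [← sub_eq_zero, ← map_one mk, ← map_sub]
    exact Ideal.Quotient.eq_zero_iff_mem.mpr hα1
  have hQmap : Q.map mk = X ^ (d + 1) := by
    have h1 : (X - C (1 : A ⧸ I)) * Q.map mk = (X - C 1) * X ^ (d + 1) := by
      have := congrArg (Polynomial.map mk) hχQ
      rw [Polynomial.map_mul, Polynomial.map_sub, map_X, map_C, hmkα, hchar] at this
      rw [this, C_1]; ring
    exact (monic_X_sub_C (1 : A ⧸ I)).isRegular.left h1
  have hQα : eval α Q - 1 ∈ I := by
    rw [← Ideal.Quotient.eq_zero_iff_mem, map_sub, map_one]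
    have : mk (eval α Q) = eval (mk α) (Q.map mk) := by
      rw [eval_map, eval, hom_eval₂, RingHom.comp_id]
    rw [this, hQmap, hmkα]
    simp
  have hu : IsUnit (eval α Q) := by
    have := Ideal.mem_jacobson_bot.mp (hG.1 hQα) 1
    simpa using this
  obtain ⟨u, hu⟩ := hu
  set w := aeval b Q with hw
  have hbw : b * w = α • w := by
    have h1 : aeval b ((X - C α) * Q) = 0 := by rw [hχQ]; exact hCH
    rw [map_mul, map_sub, aeval_X, aeval_C, sub_mul, sub_eq_zero] at h1
    rw [h1, Algebra.smul_def]
  have hww : w * w = eval α Q • w := aeval_mul_eq_eval_smul b w α hbw Q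
  refine ⟨(↑u⁻¹ : A) • w, ?_, ?_⟩
  · unfold IsIdempotentElem
    rw [smul_mul_smul_comm, hww, ← hu, smul_smul, mul_assoc, Units.inv_mul, mul_one]
  · -- congruence
    have h1 : w - b ^ (d + 1) ∈ J := by
      have : w - b ^ (d + 1) = aeval b (Q - X ^ (d + 1)) := by
        rw [map_sub, map_pow, aeval_X]
      rw [this]
      apply aeval_mem_map_of_coeff_mem
      intro i
      rw [← Ideal.Quotient.eq_zero_iff_mem, ← coeff_map, Polynomial.map_sub, hQmap]
      simp
    have h2 : ∀ k : ℕ, b ^ (k + 1) - b ∈ J := by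
      intro k
      induction k with
      | zero => simp
      | succ k ih =>
        have : b ^ (k + 1 + 1) - b = b * (b ^ (k + 1) - b) + (b * b - b) := by ring
        rw [this]
        exact J.add_mem (J.mul_mem_left _ ih) hbb
    have h3 : (↑u⁻¹ : A) - 1 ∈ I := by
      have : (↑u⁻¹ : A) - 1 = -(↑u⁻¹ : A) * (eval α Q - 1) := by
        rw [← hu]
        linear_combination Units.inv_mul u
      rw [this]
      exact I.mul_mem_left _ hQα
    have h4 : (↑u⁻¹ : A) • w - b
        = algebraMap A B ((↑u⁻¹ : A) - 1) * w + (w - b ^ (d + 1)) + (b ^ (d + 1) - b) := by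
      rw [Algebra.smul_def, map_sub, map_one]; ring
    rw [h4]
    exact J.add_mem (J.add_mem (J.mul_mem_right _ (Ideal.mem_map_of_mem _ h3)) h1) (h2 d)

end Groth.Agent.Helper7.Hensel
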