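import Mathlib
import Groth.Agent.Lib.Helper7.Hensel.RankOne
import Groth.Agent.Lib.Helper7.Hensel.Basic
import Groth.Agent.Lib.Helper7.CAlg.EtaleSection

/-!
# Retractions of étale algebras of the form `B[1/Δ]`, `B` finite, under Gabber's condition
-/

open Polynomial

namespace Groth.Agent.Helper7.Hensel

universe u v w

/-- Step A: from a section `s : E = B[1/Δ] → A/I` produce `b ∈ B` with `s b = 1` and
`(a - x) b ∈ I B` whenever `s x = a mod I`. -/
theorem exists_elem_finite {A : Type u} [CommRing A] (I : Ideal A) (hjac : I ≤ Ideal.jacobson ⊥)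
    (B : Type v) [CommRing B] [Algebra A B] [Module.Finite A B] (Δ : B)
    (E : Type w) [CommRing E] [Algebra B E] [Algebra A E] [IsScalarTower A B E]
    [IsLocalization.Away Δ E] [Algebra.FormallyUnramified A E] [Algebra.EssFiniteType A E]
    (s : E →ₐ[A] A ⧸ I) :
    ∃ b : B, s (algebraMap B E b) = 1 ∧ ∀ (x : B) (a : A),
      s (algebraMap B E x) = Ideal.Quotient.mk I a →
        (algebraMap A B a - x) * b ∈ I.map (algebraMap A B) := by
  classical
  obtain ⟨g, hg1, hg2⟩ := Groth.Agent.Helper7.EtaleSection.exists_elem I s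
  obtain ⟨⟨y, ⟨_, k, rfl⟩⟩, hy⟩ := IsLocalization.surj (Submonoid.powers Δ) g
  simp only at hy
  -- hy : g * algebraMap (Δ ^ k) = algebraMap y
  obtain ⟨δ, hδ⟩ := Ideal.Quotient.mk_surjective (s (algebraMap B E Δ))
  have hΔu : IsUnit (algebraMap B E Δ) := IsLocalization.Away.algebraMap_isUnit Δ
  have hδu : IsUnit δ := isUnit_of_isUnit_mk hjac δ (by rw [hδ]; exact hΔu.map s)
  obtain ⟨δu, rfl⟩ := hδu
  obtain ⟨d, x₀, hx₀⟩ := Module.Finite.exists_fin (R := A) (M := B)
  have hgen : ∀ j : Fin d, ∃ (a : A) (N : ℕ), s (algebraMap B E (x₀ j)) = Ideal.Quotient.mk I a ∧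
      Δ ^ N * ((algebraMap A B a - x₀ j) * y) ∈ I.map (algebraMap A B) := by
    intro j
    obtain ⟨a, ha⟩ := Ideal.Quotient.mk_surjective (s (algebraMap B E (x₀ j)))
    have h1 := hg2 (algebraMap B E (x₀ j)) a ha.symm
    have h2 : algebraMap B E ((algebraMap A B a - x₀ j) * y) ∈ I.map (algebraMap A E) := by
      rw [map_mul, ← hy, map_sub, ← IsScalarTower.algebraMap_apply, ← mul_assoc]
      exact Ideal.mul_mem_right _ _ h1
    obtain ⟨N, hN⟩ := exists_pow_mul_mem_of_mem_map Δ I _ h2
    exact ⟨a, N, ha.symm, hN⟩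
  choose a N ha hN using hgen
  let M := ∑ j, N j
  have hM : ∀ j, N j ≤ M := fun j => Finset.single_le_sum (fun _ _ => Nat.zero_le _) (Finset.mem_univ j)
  let b : B := algebraMap A B (↑(δu⁻¹ ^ (M + k)) : A) * (Δ ^ M * y)
  have hsy : s (algebraMap B E y) = Ideal.Quotient.mk I (↑δu : A) ^ k := by
    rw [← hy, map_mul, hg1, one_mul, map_pow, map_pow, hδ]
  have hsb : s (algebraMap B E b) = 1 := by
    simp only [b, map_mul, map_pow, hsy, ← hδ]
    rw [← IsScalarTower.algebraMap_apply, AlgHom.commutes, Ideal.Quotient.algebraMap_eq,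
      ← map_pow, ← map_pow, ← map_mul, ← map_mul, ← pow_add, Units.val_pow_eq_pow_val,
      ← mul_pow, Units.inv_mul, one_pow, map_one]
  refine ⟨b, hsb, ?_⟩
  -- the key property on generators
  have hgen' : ∀ j, (algebraMap A B (a j) - x₀ j) * b ∈ I.map (algebraMap A B) := by
    intro j
    have : (algebraMap A B (a j) - x₀ j) * b = algebraMap A B (↑(δu⁻¹ ^ (M + k)) : A) *
        Δ ^ (M - N j) * (Δ ^ N j * ((algebraMap A B (a j) - x₀ j) * y)) := by
      have hpow : Δ ^ M = Δ ^ (M - N j) * Δ ^ N j := by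
        rw [← pow_add, Nat.sub_add_cancel (hM j)]
      simp only [b, hpow]; ring
    rw [this]
    exact Ideal.mul_mem_left _ _ (hN j)
  -- extend by linearity
  have hall : ∀ x : B, ∃ a' : A, s (algebraMap B E x) = Ideal.Quotient.mk I a' ∧
      (algebraMap A B a' - x) * b ∈ I.map (algebraMap A B) := by
    intro x
    have hx : x ∈ Submodule.span A (Set.range x₀) := by rw [hx₀]; trivial
    induction hx using Submodule.span_induction with
    | mem x hx =>
      obtain ⟨j, rfl⟩ := hx
      exact ⟨a j, ha j, hgen' j⟩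
    | zero => exact ⟨0, by simp, by simp⟩
    | add x y _ _ hx hy =>
      obtain ⟨ax, hax, hax'⟩ := hx
      obtain ⟨ay, hay, hay'⟩ := hy
      refine ⟨ax + ay, by simp [hax, hay], ?_⟩
      have : (algebraMap A B (ax + ay) - (x + y)) * b
          = (algebraMap A B ax - x) * b + (algebraMap A B ay - y) * b := by
        rw [map_add]; ring
      rw [this]
      exact Ideal.add_mem _ hax' hay'
    | smul r x _ hx =>
      obtain ⟨ax, hax, hax'⟩ := hx
      refine ⟨r * ax, ?_, ?_⟩
      · rw [Algebra.smul_def, map_mul, map_mul, ← IsScalarTower.algebraMap_apply, AlgHom.commutes,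
          hax, map_mul]
        rfl
      · have : (algebraMap A B (r * ax) - r • x) * b
            = algebraMap A B r * ((algebraMap A B ax - x) * b) := by
          rw [map_mul, Algebra.smul_def]; ring
        rw [this]
        exact Ideal.mul_mem_left _ _ hax'
  intro x a' hxa'
  obtain ⟨a₀, ha₀, ha₀'⟩ := hall x
  have hdiff : a' - a₀ ∈ I := by
    rw [← Ideal.Quotient.eq, ← hxa', ha₀]
  have : (algebraMap A B a' - x) * b
      = algebraMap A B (a' - a₀) * b + (algebraMap A B a₀ - x) * b := by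
    rw [map_sub]; ring
  rw [this]
  exact Ideal.add_mem _ (Ideal.mul_mem_right _ _ (Ideal.mem_map_of_mem _ hdiff)) ha₀'

/-- **Retraction lemma**: under Gabber's condition, an étale algebra of the form `E = B[1/Δ]`
with `B` module-finite, equipped with a section modulo `I`, has an `A`-algebra retraction
lifting it. -/
theorem exists_retraction_of_finite {A : Type u} [CommRing A] (I : Ideal A) (hG : Gabber A I)
    (B : Type v) [CommRing B] [Algebra A B] [Module.Finite A B] (Δ : B)
    (E : Type w) [CommRing E] [Algebra B E] [Algebra A E] [IsScalarTower A B E]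
    [IsLocalization.Away Δ E] [Algebra.Etale A E] (s : E →ₐ[A] A ⧸ I) :
    ∃ τ : E →ₐ[A] A, (Ideal.Quotient.mkₐ A I).comp τ = s := by
  classical
  have hjac := hG.1
  obtain ⟨b, hsb, hb⟩ := exists_elem_finite I hjac B Δ E s
  set JB := I.map (algebraMap A B) with hJB
  let σB : B →ₐ[A] A ⧸ I := s.comp (IsScalarTower.toAlgHom A B E)
  have hσB : ∀ x, σB x = s (algebraMap B E x) := fun x => rfl
  have hσJ : ∀ z ∈ JB, σB z = 0 := by
    intro z hz
    have hle : JB ≤ RingHom.ker σB.toRingHom := by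
      rw [hJB, Ideal.map_le_iff_le_comap]
      intro i hi
      simp only [Ideal.mem_comap, RingHom.mem_ker, AlgHom.toRingHom_eq_coe, RingHom.coe_coe,
        AlgHom.commutes]
      exact Ideal.Quotient.eq_zero_iff_mem.mpr hi
    exact hle hz
  -- rank-one idempotent lifting
  have hb1 : ∀ x : B, ∃ a : A, b * x - a • b ∈ JB := by
    intro x
    obtain ⟨a, ha⟩ := Ideal.Quotient.mk_surjective (σB x)
    refine ⟨a, ?_⟩
    have h1 := hb x a ha.symm
    have : b * x - a • b = -((algebraMap A B a - x) * b) := by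
      rw [Algebra.smul_def]; ring
    rw [this]
    exact JB.neg_mem h1
  have hbb : b * b - b ∈ JB := by
    have h1 := hb b 1 (by rw [hsb, map_one])
    have : b * b - b = -((algebraMap A B 1 - b) * b) := by rw [map_one]; ring
    rw [this]
    exact JB.neg_mem h1
  obtain ⟨e, he, heb⟩ := exists_idempotent_of_rankOne I hG b hb1 hbb
  have hσe : σB e = 1 := by
    have : σB e = σB b + σB (e - b) := by rw [← map_add]; congr 1; ring
    rw [this, hσJ _ heb, add_zero, hσB, hsb]
  have he2 : ∀ (x : B) (a : A), σB x = Ideal.Quotient.mk I a →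
      (algebraMap A B a - x) * e ∈ JB := by
    intro x a hxa
    have : (algebraMap A B a - x) * e
        = (algebraMap A B a - x) * b + (algebraMap A B a - x) * (e - b) := by ring
    rw [this]
    exact JB.add_mem (hb x a hxa) (JB.mul_mem_left _ heb)
  -- the quotient `E₁ = E / (1 - e')`
  set e' := algebraMap B E e with he'
  have he'i : IsIdempotentElem e' := he.map (algebraMap B E)
  let K₁ : Ideal E := Ideal.span {1 - e'}
  have hloc : IsLocalization.Away e' (E ⧸ K₁) :=
    IsLocalization.Away.quotient_of_isIdempotentElem he'i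
  have hEt1 : Algebra.Etale E (E ⧸ K₁) := Algebra.Etale.of_isLocalizationAway e'
  have hEt2 : Algebra.Etale A (E ⧸ K₁) := Algebra.Etale.comp A E _
  have hsK : ∀ z ∈ K₁, s z = 0 := by
    intro z hz
    obtain ⟨c, rfl⟩ := Ideal.mem_span_singleton'.mp hz
    rw [map_mul, map_sub, map_one, he', ← hσB, hσe, sub_self, mul_zero]
  let s₁ : E ⧸ K₁ →ₐ[A] A ⧸ I := Ideal.Quotient.liftₐ K₁ s hsK
  have hs₁ : ∀ z : E, s₁ (Ideal.Quotient.mk K₁ z) = s z := fun z => rfl
  -- `B / (1 - e)` is generated by `1`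
  let KB : Ideal B := Ideal.span {1 - e}
  have hNak : (⊤ : Submodule A (B ⧸ KB)) ≤ LinearMap.range (Algebra.linearMap A (B ⧸ KB)) := by
    apply Submodule.le_of_le_smul_of_le_jacobson_bot Module.Finite.fg_top hjac
    intro z _
    obtain ⟨x, rfl⟩ := Ideal.Quotient.mk_surjective z
    obtain ⟨a, ha⟩ := Ideal.Quotient.mk_surjective (σB x)
    have h1 := he2 x a ha.symm
    have h2 : Ideal.Quotient.mk KB x = algebraMap A (B ⧸ KB) a
        + Ideal.Quotient.mk KB (-((algebraMap A B a - x) * e)) := by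
      have h3 : algebraMap A (B ⧸ KB) a = Ideal.Quotient.mk KB (algebraMap A B a) := rfl
      rw [h3, ← map_add, Ideal.Quotient.eq]
      have : x - (algebraMap A B a + -((algebraMap A B a - x) * e))
          = -(algebraMap A B a - x) * (1 - e) := by ring
      rw [this]
      exact Ideal.mul_mem_left _ _ (Ideal.mem_span_singleton_self _)
    rw [h2]
    refine Submodule.add_mem_sup ⟨a, rfl⟩ ?_
    have h4 : -((algebraMap A B a - x) * e) ∈ I • (⊤ : Submodule A B) := by
      rw [Ideal.smul_top_eq_map]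
      exact JB.neg_mem h1
    have h5 := Submodule.mem_map_of_mem (f := (Ideal.Quotient.mkₐ A KB).toLinearMap) h4
    rw [Submodule.map_smul''] at h5
    exact Submodule.smul_mono le_rfl le_top h5
  have hBgen : ∀ x : B, ∃ a : A, Ideal.Quotient.mk K₁ (algebraMap B E x) = algebraMap A (E ⧸ K₁) a := by
    intro x
    obtain ⟨a, ha⟩ := hNak (Submodule.mem_top (x := Ideal.Quotient.mk KB x))
    refine ⟨a, ?_⟩
    have h1 : Ideal.Quotient.mk KB (algebraMap A B a) = Ideal.Quotient.mk KB x := ha
    rw [Ideal.Quotient.eq] at h1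
    obtain ⟨c, hc⟩ := Ideal.mem_span_singleton'.mp h1
    have h3 : algebraMap A (E ⧸ K₁) a = Ideal.Quotient.mk K₁ (algebraMap A E a) := rfl
    rw [h3, eq_comm, Ideal.Quotient.eq, IsScalarTower.algebraMap_apply A B E, ← map_sub, ← hc,
      map_mul, map_sub, map_one]
    exact Ideal.mul_mem_left _ _ (Ideal.mem_span_singleton_self _)
  have hsurj : Function.Surjective (algebraMap A (E ⧸ K₁)) := by
    intro z
    obtain ⟨z, rfl⟩ := Ideal.Quotient.mk_surjective z
    obtain ⟨⟨x, ⟨_, j, rfl⟩⟩, hx⟩ := IsLocalization.surj (Submonoid.powers Δ) z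
    simp only at hx
    obtain ⟨ax, hax⟩ := hBgen x
    obtain ⟨aΔ, haΔ⟩ := hBgen Δ
    have hΔu : IsUnit (algebraMap B E Δ) := IsLocalization.Away.algebraMap_isUnit Δ
    have haΔu : IsUnit aΔ := by
      apply isUnit_of_isUnit_mk hjac
      have : Ideal.Quotient.mk I aΔ = s (algebraMap B E Δ) := by
        have := congrArg s₁ haΔ
        rw [hs₁, AlgHom.commutes] at this
        exact this.symm
      rw [this]
      exact hΔu.map s
    obtain ⟨u, rfl⟩ := haΔu
    refine ⟨ax * ↑(u⁻¹ ^ j), ?_⟩
    have h1 := congrArg (Ideal.Quotient.mk K₁) hx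
    rw [map_mul, map_pow, map_pow, haΔ, hax] at h1
    rw [map_mul, ← h1, mul_assoc, ← map_pow, ← map_mul, Units.val_pow_eq_pow_val, ← mul_pow,
      Units.mul_inv, one_pow, map_one, mul_one]
  have hker : RingHom.ker (algebraMap A (E ⧸ K₁)) ≤ Ideal.jacobson ⊥ := by
    refine le_trans ?_ hjac
    intro a ha
    rw [RingHom.mem_ker] at ha
    have := congrArg s₁ ha
    rw [AlgHom.commutes, map_zero] at this
    exact Ideal.Quotient.eq_zero_iff_mem.mp this
  have hinj := injective_of_etale_of_surjective_of_ker_le_jacobson hsurj hker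
  let equiv : A ≃ₐ[A] (E ⧸ K₁) := AlgEquiv.ofBijective (Algebra.ofId A (E ⧸ K₁)) ⟨hinj, hsurj⟩
  refine ⟨equiv.symm.toAlgHom.comp (Ideal.Quotient.mkₐ A K₁), ?_⟩
  ext x
  simp only [AlgHom.comp_apply, Ideal.Quotient.mkₐ_eq_mk]
  set a := equiv.symm (Ideal.Quotient.mk K₁ x) with ha
  have h1 : algebraMap A (E ⧸ K₁) a = Ideal.Quotient.mk K₁ x := equiv.apply_symm_apply _
  have h2 := congrArg s₁ h1
  rw [AlgHom.commutes, hs₁] at h2
  exact h2

end Groth.Agent.Helper7.Hensel
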