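import Mathlib
import Groth.Agent.Lib.Helper7.Hensel.Retraction
import Groth.Agent.Lib.Helper7.CAlg.MonicFactorLift

/-!
# Gabber's condition implies lifting of coprime monic factorisations
-/

open Polynomial

namespace Groth.Agent.Helper7.Hensel

universe u

theorem Gabber.exists_factorization {A : Type u} [CommRing A] {I : Ideal A} (hG : Gabber A I)
    (f : A[X]) (hf : f.Monic) (g₀ h₀ : (A ⧸ I)[X]) (hg : g₀.Monic) (hh : h₀.Monic)
    (hcop : IsCoprime g₀ h₀) (hfgh : f.map (Ideal.Quotient.mk I) = g₀ * h₀) :
    ∃ g h : A[X], g.Monic ∧ h.Monic ∧ IsCoprime g h ∧ f = g * h ∧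
      g.map (Ideal.Quotient.mk I) = g₀ ∧ h.map (Ideal.Quotient.mk I) = h₀ := by
  classical
  rcases subsingleton_or_nontrivial (A ⧸ I) with hsub | hnt
  · have hI : I = ⊤ := Ideal.Quotient.subsingleton_iff.mp hsub
    have h1 : (1 : A) ∈ Ideal.jacobson (⊥ : Ideal A) := hG.1 (hI ▸ Submodule.mem_top)
    have hA : Subsingleton A := by
      have := Ideal.mem_jacobson_bot.mp h1 (-1)
      have h0 : (1 : A) * (-1) + 1 = 0 := by ring
      rw [h0] at this
      exact (subsingleton_or_nontrivial A).resolve_right fun _ => not_isUnit_zero this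
    exact ⟨f, 1, hf, monic_one, isCoprime_one_right, by simp, Subsingleton.elim _ _,
      Subsingleton.elim _ _⟩
  · set n := f.natDegree with hn'
    set m := g₀.natDegree with hm'
    set k := h₀.natDegree with hk'
    have hn : n = m + k := by
      have h1 : (f.map (Ideal.Quotient.mk I)).natDegree = n := hf.natDegree_map _
      rw [hfgh, hg.natDegree_mul hh] at h1
      exact h1.symm
    let p : MonicDegreeEq A n := .mk f hf rfl
    let q : { q : MonicDegreeEq (A ⧸ I) m × MonicDegreeEq (A ⧸ I) k //
        q.1.1 * q.2.1 = p.1.map (algebraMap A (A ⧸ I)) ∧ IsCoprime q.1.1 q.2.1 } :=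
      ⟨(.mk g₀ hg rfl, .mk h₀ hh rfl), hfgh.symm, hcop⟩
    let s : UniversalCoprimeFactorizationRing m k hn p →ₐ[A] A ⧸ I :=
      (UniversalCoprimeFactorizationRing.homEquiv (A ⧸ I) m k hn p).symm q
    have hs : (UniversalCoprimeFactorizationRing.homEquiv (A ⧸ I) m k hn p) s = q :=
      Equiv.apply_symm_apply _ _
    have hs1 : (UniversalCoprimeFactorizationRing.factor₁ m k hn p).1.map s.toRingHom = g₀ := by
      rw [← Groth.Agent.Helper7.MonicFactorLift.homEquiv_fst, hs]; rfl
    have hs2 : (UniversalCoprimeFactorizationRing.factor₂ m k hn p).1.map s.toRingHom = h₀ := by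
      rw [← Groth.Agent.Helper7.MonicFactorLift.homEquiv_snd, hs]; rfl
    have hmul : f.map (algebraMap A (UniversalCoprimeFactorizationRing m k hn p)) =
        (UniversalCoprimeFactorizationRing.factor₁ m k hn p).1 *
          (UniversalCoprimeFactorizationRing.factor₂ m k hn p).1 := by
      rw [UniversalCoprimeFactorizationRing.factor₁_mul_factor₂]
      rfl
    obtain ⟨τ, hτ⟩ := exists_retraction_of_finite I hG (UniversalFactorizationRing m k hn p)
      (UniversalFactorizationRing.presentation m k hn p).jacobian
      (UniversalCoprimeFactorizationRing m k hn p) s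
    have hτ' : (Ideal.Quotient.mk I).comp τ.toRingHom = s.toRingHom := by
      ext x
      exact congrArg (fun φ => φ x) hτ
    refine ⟨(UniversalCoprimeFactorizationRing.factor₁ m k hn p).1.map τ.toRingHom,
      (UniversalCoprimeFactorizationRing.factor₂ m k hn p).1.map τ.toRingHom,
      (UniversalCoprimeFactorizationRing.factor₁ m k hn p).monic.map _,
      (UniversalCoprimeFactorizationRing.factor₂ m k hn p).monic.map _, ?_, ?_, ?_, ?_⟩
    · exact (UniversalCoprimeFactorizationRing.isCoprime_factor₁_factor₂ m k hn p).map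
        (Polynomial.mapRingHom τ.toRingHom)
    · rw [← Polynomial.map_mul, ← hmul, Polynomial.map_map]
      have : τ.toRingHom.comp (algebraMap A (UniversalCoprimeFactorizationRing m k hn p))
          = RingHom.id A := by
        ext a; simp
      rw [this, Polynomial.map_id]
    · rw [Polynomial.map_map, hτ', hs1]
    · rw [Polynomial.map_map, hτ', hs2]

end Groth.Agent.Helper7.Hensel
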