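import Mathlib
import Groth.Agent.Lib.Helper7.Hensel.Factor

/-!
# Equivalence of Mathlib's `HenselianRing` with factor lifting and Gabber's criterion
-/

open Polynomial

namespace Groth.Agent.Helper7.Hensel

universe u

/-- The factor-lifting property (Stacks' definition of a henselian pair, without the Jacobson
radical condition). -/
def FactorLift (A : Type u) [CommRing A] (I : Ideal A) : Prop :=
  ∀ f : A[X], f.Monic → ∀ g₀ h₀ : (A ⧸ I)[X], g₀.Monic → h₀.Monic →
    IsCoprime g₀ h₀ → f.map (Ideal.Quotient.mk I) = g₀ * h₀ →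
    ∃ g h : A[X], g.Monic ∧ h.Monic ∧ f = g * h ∧
      g.map (Ideal.Quotient.mk I) = g₀ ∧ h.map (Ideal.Quotient.mk I) = h₀

theorem subsingleton_of_top_le_jacobson {A : Type u} [CommRing A] {I : Ideal A}
    (hjac : I ≤ Ideal.jacobson ⊥) (hI : I = ⊤) : Subsingleton A := by
  have h1 : (1 : A) ∈ Ideal.jacobson (⊥ : Ideal A) := hjac (hI ▸ Submodule.mem_top)
  have := Ideal.mem_jacobson_bot.mp h1 (-1)
  have h0 : (1 : A) * (-1) + 1 = 0 := by ring
  rw [h0] at this
  exact (subsingleton_or_nontrivial A).resolve_right fun _ => not_isUnit_zero this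

theorem isCoprime_X_sub_C_of_isUnit_eval {R : Type*} [CommRing R] (c : R) (q : R[X])
    (h : IsUnit (q.eval c)) : IsCoprime (X - C c) q := by
  obtain ⟨u, hu⟩ := h
  have h1 : q %ₘ (X - C c) + (X - C c) * (q /ₘ (X - C c)) = q := modByMonic_add_div q _
  rw [modByMonic_X_sub_C_eq_C_eval, ← hu] at h1
  generalize q /ₘ (X - C c) = r at h1
  refine ⟨-C (↑u⁻¹ : R) * r, C (↑u⁻¹ : R), ?_⟩
  have h2 : C (↑u⁻¹ : R) * C (↑u : R) = 1 := by rw [← C_mul, Units.inv_mul, C_1]
  rw [← h1]
  linear_combination h2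

theorem henselianRing_of_factorLift {A : Type u} [CommRing A] {I : Ideal A}
    (hjac : I ≤ Ideal.jacobson ⊥) (hF : FactorLift A I) : HenselianRing A I := by
  refine ⟨hjac, fun f hf a₀ h₁ h₂ => ?_⟩
  rcases subsingleton_or_nontrivial (A ⧸ I) with hsub | hnt
  · have := subsingleton_of_top_le_jacobson hjac (Ideal.Quotient.subsingleton_iff.mp hsub)
    exact ⟨a₀, Subsingleton.elim _ _, by rw [sub_self]; exact zero_mem _⟩
  set mk := Ideal.Quotient.mk I with hmk
  have hev : ∀ (r : A[X]) (a : A), (r.map mk).eval (mk a) = mk (r.eval a) := by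
    intro r a
    rw [eval_map, eval₂_at_apply]
  set fb := f.map mk with hfb
  have hfbm : fb.Monic := hf.map mk
  have hroot : fb.IsRoot (mk a₀) := by
    rw [IsRoot, hfb, hev]
    exact Ideal.Quotient.eq_zero_iff_mem.mpr h₁
  set q := fb /ₘ (X - C (mk a₀)) with hq
  have hfq : (X - C (mk a₀)) * q = fb := mul_divByMonic_eq_iff_isRoot.mpr hroot
  have hqm : q.Monic := by
    have := hfq ▸ hfbm
    exact (monic_X_sub_C (mk a₀)).of_mul_monic_left this
  have hqa : q.eval (mk a₀) = mk (f.derivative.eval a₀) := by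
    have h1 : fb.derivative.eval (mk a₀) = q.eval (mk a₀) := by
      rw [← hfq, derivative_mul]
      simp
    rw [← h1, hfb, derivative_map, hev]
  have hcop : IsCoprime (X - C (mk a₀)) q :=
    isCoprime_X_sub_C_of_isUnit_eval _ _ (hqa ▸ h₂)
  obtain ⟨g, h, hg, hh, hfgh, hg0, hh0⟩ := hF f hf _ _ (monic_X_sub_C _) hqm hcop hfq.symm
  have hgd : g.natDegree = 1 := by
    have := hg.natDegree_map mk
    rw [hg0, natDegree_X_sub_C] at this
    exact this.symm
  have hgX : g = X + C (g.coeff 0) := hg.eq_X_add_C hgd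
  have hg0' : mk (g.coeff 0) = -mk a₀ := by
    have := congrArg (fun r => r.coeff 0) hg0
    simpa using this
  refine ⟨-g.coeff 0, ?_, ?_⟩
  · rw [IsRoot, hfgh, eval_mul]
    have : g.eval (-g.coeff 0) = 0 := by
      rw [hgX]; simp
    rw [this, zero_mul]
  · rw [← Ideal.Quotient.eq_zero_iff_mem, map_sub, map_neg]
    change -mk (g.coeff 0) - mk a₀ = 0
    rw [hg0']; ring

theorem Gabber.factorLift {A : Type u} [CommRing A] {I : Ideal A} (hG : Gabber A I) :
    FactorLift A I := by
  intro f hf g₀ h₀ hg hh hcop hfgh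
  obtain ⟨g, h, hgm, hhm, -, hmul, h1, h2⟩ := hG.exists_factorization f hf g₀ h₀ hg hh hcop hfgh
  exact ⟨g, h, hgm, hhm, hmul, h1, h2⟩

theorem Gabber.henselianRing {A : Type u} [CommRing A] {I : Ideal A} (hG : Gabber A I) :
    HenselianRing A I :=
  henselianRing_of_factorLift hG.1 hG.factorLift

theorem henselianRing_iff_gabber {A : Type u} [CommRing A] {I : Ideal A} :
    HenselianRing A I ↔ Gabber A I :=
  ⟨Gabber.of_henselianRing, Gabber.henselianRing⟩

/-- Uniqueness of the root in Gabber's criterion. -/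
theorem gabber_root_unique {A : Type u} [CommRing A] {I : Ideal A}
    (hjac : I ≤ Ideal.jacobson ⊥) (n : ℕ) (p : A[X]) (hpI : ∀ i, p.coeff i ∈ I) (α β : A)
    (hα : α - 1 ∈ I) (hβ : β - 1 ∈ I) (hαr : (X ^ n * (X - 1) + p).IsRoot α)
    (hβr : (X ^ n * (X - 1) + p).IsRoot β) : α = β := by
  set F := (X ^ n * (X - 1) + p : A[X]) with hF
  obtain ⟨k, hk⟩ := F.binomExpansion α (β - α)
  have h1 : α + (β - α) = β := by ring
  rw [h1, hβr.eq_zero, hαr.eq_zero, zero_add] at hk
  have h2 : (F.derivative.eval α + k * (β - α)) * (β - α) = 0 := by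
    rw [hk]; ring
  set mk := Ideal.Quotient.mk I
  have hmkα : mk α = 1 := by
    rw [← sub_eq_zero, ← map_one mk, ← map_sub]
    exact Ideal.Quotient.eq_zero_iff_mem.mpr hα
  have hpmap : p.map mk = 0 := by
    ext i
    rw [coeff_map, coeff_zero]
    exact Ideal.Quotient.eq_zero_iff_mem.mpr (hpI i)
  have h3 : mk (F.derivative.eval α) = 1 := by
    have : mk (F.derivative.eval α) = (F.derivative.map mk).eval (mk α) := by
      rw [eval_map, eval₂_at_apply]
    rw [this, ← derivative_map, hF, Polynomial.map_add, hpmap, hmkα]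
    simp [derivative_mul, derivative_X_pow]
  have h4 : β - α ∈ I := by
    have : β - α = (β - 1) - (α - 1) := by ring
    rw [this]; exact I.sub_mem hβ hα
  have h5 : (F.derivative.eval α + k * (β - α)) - 1 ∈ I := by
    rw [← Ideal.Quotient.eq_zero_iff_mem, map_sub, map_add, h3, map_one,
      Ideal.Quotient.eq_zero_iff_mem.mpr (I.mul_mem_left k h4)]
    ring
  have hu := isUnit_of_sub_one_mem hjac _ h5
  have := (hu.mul_right_eq_zero).mp h2
  exact (sub_eq_zero.mp this).symm

end Groth.Agent.Helper7.Hensel
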