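import Mathlib
import Groth.Agent.Lib.Helper7.Hensel.Iff
import Groth.Agent.Lib.Helper7.CAlg.IdempotentLift

/-!
# Idempotents lift uniquely along `B → B/IB` for integral algebras over a Henselian pair
-/

open Polynomial

namespace Groth.Agent.Helper7.Hensel

universe u v

/-- For `B` integral over `A` and `I ≤ Jac(A)`, the ideal `IB` lies in `Jac(B)`. -/
theorem map_le_jacobson_of_isIntegral {A : Type u} {B : Type v} [CommRing A] [CommRing B]
    [Algebra A B] [Algebra.IsIntegral A B] {I : Ideal A} (hjac : I ≤ Ideal.jacobson ⊥) :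
    I.map (algebraMap A B) ≤ Ideal.jacobson ⊥ := by
  rw [Ideal.jacobson, le_sInf_iff]
  rintro m ⟨-, hm⟩
  rw [Ideal.map_le_iff_le_comap]
  have hmax : (m.comap (algebraMap A B)).IsMaximal :=
    Ideal.isMaximal_comap_of_isIntegral_of_isMaximal (R := A) m
  refine hjac.trans ?_
  rw [Ideal.jacobson]
  exact sInf_le ⟨bot_le, hmax⟩

/-- Two idempotents congruent modulo an ideal contained in the Jacobson radical are equal. -/
theorem idempotent_eq_of_sub_mem_jacobson {B : Type*} [CommRing B] {e e' : B}
    (he : IsIdempotentElem e) (he' : IsIdempotentElem e')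
    (h : e - e' ∈ Ideal.jacobson (⊥ : Ideal B)) : e = e' := by
  set x := e - e' with hx
  have h3 : x * (1 - x * x) = 0 := by
    have h1 : e * e = e := he
    have h2 : e' * e' = e' := he'
    have : x * (1 - x * x) = (e - e') - (e * e * e - 3 * (e * e) * e' + 3 * e * (e' * e') - e' * e' * e') := by
      rw [hx]; ring
    rw [this, h1, h2, h1, h2]; ring
  have hu : IsUnit (1 - x * x) := by
    have := Ideal.mem_jacobson_bot.mp h (-x)
    have h4 : x * -x + 1 = 1 - x * x := by ring
    rwa [h4] at this
  have := (hu.mul_left_eq_zero).mp h3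
  exact sub_eq_zero.mp this

/-- Existence of idempotent lifts for integral algebras under Gabber's condition. -/
theorem Gabber.exists_idempotent_lift {A : Type u} {B : Type u} [CommRing A] [CommRing B]
    [Algebra A B] [Algebra.IsIntegral A B] {I : Ideal A} (hG : Gabber A I)
    (ebar : B ⧸ I.map (algebraMap A B)) (he : IsIdempotentElem ebar) :
    ∃ e : B, IsIdempotentElem e ∧ Ideal.Quotient.mk _ e = ebar := by
  classical
  rcases subsingleton_or_nontrivial A with hA | hA
  · have : Subsingleton B := Module.subsingleton A B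
    exact ⟨0, Subsingleton.elim _ _, Subsingleton.elim _ _⟩
  obtain ⟨b₀, hb₀⟩ := Ideal.Quotient.mk_surjective ebar
  have hc : b₀ ^ 2 - b₀ ∈ (I.map (algebraMap A B)) := by
    rw [← Ideal.Quotient.eq, map_pow, hb₀, pow_two]
    exact he
  obtain ⟨P, d, hP, hPc, hPI⟩ :=
    Groth.Agent.Helper7.IdempotentLift.exists_monic_map_eq_X_pow I _ hc
  set D := d + 1 with hD
  have hq : (X ^ 2 - X : A[X]).Monic :=
    monic_X_pow_sub (degree_X_le.trans_lt (by norm_num))
  have hqdeg : (X ^ 2 - X : A[X]).natDegree ≠ 0 := by
    rw [natDegree_sub_eq_left_of_natDegree_lt (by rw [natDegree_X_pow, natDegree_X]; norm_num),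
      natDegree_X_pow]
    norm_num
  set f := P.comp (X ^ 2 - X) with hf
  have hfm : f.Monic := hP.comp hq hqdeg
  have hfb : aeval b₀ f = 0 := by
    rw [hf, aeval_comp]
    simpa using hPc
  have hfmap : f.map (Ideal.Quotient.mk I) = X ^ D * (X - C 1) ^ D := by
    rw [hf, Polynomial.map_comp, hPI, X_pow_comp, ← mul_pow]
    congr 1
    simp only [Polynomial.map_sub, Polynomial.map_pow, map_X, map_one]
    ring
  have hcop : IsCoprime (X ^ D : (A ⧸ I)[X]) ((X - C 1) ^ D) :=
    IsCoprime.pow ⟨1, -1, by rw [C_1]; ring⟩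
  obtain ⟨g, h, hg, hh, ⟨u, v, huv⟩, hmul, e1, e2⟩ :=
    hG.exists_factorization f hfm _ _ (monic_X_pow D) ((monic_X_sub_C 1).pow D) hcop hfmap
  set β := b₀
  refine ⟨aeval β (u * g), ?_, ?_⟩
  · have h1 : aeval β (u * g) + aeval β (v * h) = 1 := by
      rw [← map_add, huv, map_one]
    have h2 : aeval β (u * g) * aeval β (v * h) = 0 := by
      rw [← map_mul]
      have : u * g * (v * h) = u * v * (g * h) := by ring
      rw [this, ← hmul, map_mul, hfb, mul_zero]
    have h3 : aeval β (v * h) = 1 - aeval β (u * g) := by rw [← h1]; ring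
    rw [h3, mul_sub, mul_one, sub_eq_zero] at h2
    exact h2.symm
  · let π := Ideal.Quotient.mk (I.map (algebraMap A B))
    have hββ : π β * π β = π β := by
      rw [← map_mul, Ideal.Quotient.eq, ← pow_two]
      exact hc
    let ψ : A →+* B ⧸ (I.map (algebraMap A B)) := π.comp (algebraMap A B)
    have hψ : ∀ a ∈ I, ψ a = 0 := by
      intro a ha
      exact Ideal.Quotient.eq_zero_iff_mem.mpr (Ideal.mem_map_of_mem _ ha)
    let ψbar : A ⧸ I →+* B ⧸ (I.map (algebraMap A B)) := Ideal.Quotient.lift _ ψ hψ
    have hψbar : ψbar.comp (Ideal.Quotient.mk _) = ψ := by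
      ext a; rfl
    have hev : ∀ r : A[X], π (aeval β r) = eval₂ ψ (π β) r := by
      intro r
      rw [aeval_def, hom_eval₂]
    have hev' : ∀ r : A[X], eval₂ ψ (π β) r
        = eval₂ ψbar (π β) (r.map (Ideal.Quotient.mk _)) := by
      intro r
      rw [eval₂_map, hψbar]
    have hgβ : π (aeval β g) = π β := by
      rw [hev, hev', e1, eval₂_pow, eval₂_X, hD, pow_succ]
      have : ∀ n : ℕ, π β ^ n * π β = π β := by
        intro n
        induction n with
        | zero => simp
        | succ n ih => rw [pow_succ, mul_assoc, hββ, ih]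
      exact this d
    have hhβ : π (aeval β h) = (π β - 1) ^ D := by
      rw [hev, hev', e2]
      simp [eval₂_pow, eval₂_sub, eval₂_X, eval₂_one]
    have hkey : π (aeval β u) * π β + π (aeval β v) * (π β - 1) ^ D = 1 := by
      have h0 := congrArg π (congrArg (aeval β) huv)
      simp only [map_add, map_mul, map_one] at h0
      rw [hgβ, hhβ] at h0
      exact h0
    have hzero : (π β - 1) ^ D * π β = 0 := by
      rw [hD, pow_succ, mul_assoc, sub_mul, one_mul, hββ, sub_self, mul_zero]
    have hfinal : π (aeval β u) * π β = π β := by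
      have := congrArg (fun z => z * π β) hkey
      simp only [add_mul, one_mul, mul_assoc, hββ, hzero, mul_zero, add_zero] at this
      exact this
    change π (aeval β (u * g)) = ebar
    rw [map_mul, map_mul, hgβ, hfinal, hb₀]

/-- Idempotents lift bijectively along `B → B/IB` for integral `B` under Gabber's condition. -/
theorem Gabber.bijOn_idempotents {A : Type u} {B : Type u} [CommRing A] [CommRing B]
    [Algebra A B] [Algebra.IsIntegral A B] {I : Ideal A} (hG : Gabber A I) :
    Set.BijOn (Ideal.Quotient.mk (Ideal.map (algebraMap A B) I))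
      {e : B | IsIdempotentElem e} {e | IsIdempotentElem e} := by
  refine ⟨fun e he => he.map _, ?_, ?_⟩
  · intro e he e' he' hee'
    apply idempotent_eq_of_sub_mem_jacobson he he'
    exact map_le_jacobson_of_isIntegral hG.1 (Ideal.Quotient.eq.mp hee')
  · intro ebar hebar
    obtain ⟨e, he, hee⟩ := hG.exists_idempotent_lift ebar hebar
    exact ⟨e, he, hee⟩

end Groth.Agent.Helper7.Hensel
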