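import Mathlib
import Groth.Agent.Lib.Helper7.Hensel.IdemLift

/-!
# Idempotent lifting for finite algebras implies Henselian
-/

open Polynomial

namespace Groth.Agent.Helper7.Hensel

universe u v

/-- Nakayama-type lemma: if `B` is module-finite, `e` idempotent and `B e` is generated by `e`
modulo `I`, then `B e = A e`. -/
theorem exists_smul_eq_mul_of_idempotent {A : Type u} {B : Type v} [CommRing A] [CommRing B]
    [Algebra A B] [Module.Finite A B] (I : Ideal A) (hjac : I ≤ Ideal.jacobson ⊥) (e : B)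
    (he : IsIdempotentElem e)
    (h : ∀ z : B, ∃ a : A, (algebraMap A B a - z) * e ∈ I.map (algebraMap A B)) :
    ∀ z : B, ∃ a : A, z * e = a • e := by
  set JB := I.map (algebraMap A B) with hJB
  let KB : Ideal B := Ideal.span {1 - e}
  have hNak : (⊤ : Submodule A (B ⧸ KB)) ≤ LinearMap.range (Algebra.linearMap A (B ⧸ KB)) := by
    apply Submodule.le_of_le_smul_of_le_jacobson_bot Module.Finite.fg_top hjac
    intro z _
    obtain ⟨x, rfl⟩ := Ideal.Quotient.mk_surjective z
    obtain ⟨a, h1⟩ := h x
    have h2 : Ideal.Quotient.mk KB x = algebraMap A (B ⧸ KB) a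
        + Ideal.Quotient.mk KB (-((algebraMap A B a - x) * e)) := by
      have h3 : algebraMap A (B ⧸ KB) a = Ideal.Quotient.mk KB (algebraMap A B a) := rfl
      rw [h3, ← map_add, Ideal.Quotient.eq]
      have : x - (algebraMap A B a + -((algebraMap A B a - x) * e))
          = -(algebraMap A B a - x) * (1 - e) := by ring
      rw [this]
      exact Ideal.mul_mem_left _ _ (Ideal.mem_span_singleton_self _)
    rw [h2]
    refine Submodule.add_mem_sup ⟨a, rfl⟩ ?_
    have h4 : -((algebraMap A B a - x) * e) ∈ I • (⊤ : Submodule A B) := by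
      rw [Ideal.smul_top_eq_map]
      exact JB.neg_mem h1
    have h5 := Submodule.mem_map_of_mem (f := (Ideal.Quotient.mkₐ A KB).toLinearMap) h4
    rw [Submodule.map_smul''] at h5
    exact Submodule.smul_mono le_rfl le_top h5
  intro z
  obtain ⟨a, ha⟩ := hNak (Submodule.mem_top (x := Ideal.Quotient.mk KB z))
  refine ⟨a, ?_⟩
  have h1 : Ideal.Quotient.mk KB (algebraMap A B a) = Ideal.Quotient.mk KB z := ha
  rw [Ideal.Quotient.eq] at h1
  obtain ⟨c, hc⟩ := Ideal.mem_span_singleton'.mp h1
  have h2 : (algebraMap A B a - z) * e = 0 := by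
    rw [← hc, mul_assoc, sub_mul, one_mul, he.eq, sub_self, mul_zero]
  rw [Algebra.smul_def]
  have : z * e = algebraMap A B a * e - (algebraMap A B a - z) * e := by ring
  rw [this, h2, sub_zero]

theorem monic_gabber_poly {A : Type u} [CommRing A] [Nontrivial A] (n : ℕ) (p : A[X])
    (hp : p.natDegree ≤ n) : (X ^ n * (X - 1) + p : A[X]).Monic := by
  have h1 : (X ^ n * (X - 1) : A[X]).Monic := (monic_X_pow n).mul (monic_X_sub_C 1)
  have hd : (X ^ n * (X - 1) : A[X]).natDegree = n + 1 := by
    have := ((monic_X_pow (R := A) n).natDegree_mul (monic_X_sub_C (1 : A)))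
    rw [natDegree_X_pow, natDegree_X_sub_C, map_one] at this
    exact this
  apply h1.add_of_left
  rw [degree_eq_natDegree h1.ne_zero, hd]
  exact lt_of_le_of_lt degree_le_natDegree (by exact_mod_cast Nat.lt_succ_of_le hp)

/-- Idempotent lifting (bijectively) for all module-finite algebras implies Gabber's condition. -/
theorem gabber_of_bijOn_idempotents {A : Type u} [CommRing A] (I : Ideal A)
    (h : ∀ (B : Type u) [CommRing B] [Algebra A B], Module.Finite A B →
      Set.BijOn (Ideal.Quotient.mk (Ideal.map (algebraMap A B) I))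
        {e : B | IsIdempotentElem e} {e | IsIdempotentElem e}) : Gabber A I := by
  classical
  have hjac : I ≤ Ideal.jacobson ⊥ := by
    intro a ha
    rw [Ideal.mem_jacobson_bot]
    intro y
    set t := a * y + 1 with ht
    have hB := h (A ⧸ Ideal.span {t}) inferInstance
    have htop : I.map (algebraMap A (A ⧸ Ideal.span {t})) = ⊤ := by
      rw [Ideal.eq_top_iff_one]
      have h1 : algebraMap A (A ⧸ Ideal.span {t}) (-(a * y)) = 1 := by
        rw [eq_comm, ← sub_eq_zero, ← map_one (algebraMap A (A ⧸ Ideal.span {t})), ← map_sub]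
        have : (1 : A) - -(a * y) = t := by rw [ht]; ring
        rw [this]
        exact Ideal.Quotient.eq_zero_iff_mem.mpr (Ideal.mem_span_singleton_self t)
      rw [← h1]
      exact Ideal.mem_map_of_mem _ (I.neg_mem (I.mul_mem_right _ ha))
    have h01 : (0 : A ⧸ Ideal.span {t}) = 1 := by
      apply hB.injOn (IsIdempotentElem.zero) (IsIdempotentElem.one)
      rw [Ideal.Quotient.eq, htop]
      trivial
    have : Ideal.span {t} = ⊤ := by
      rw [Ideal.eq_top_iff_one, ← Ideal.Quotient.eq_zero_iff_mem, map_one]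
      exact h01.symm
    exact Ideal.span_singleton_eq_top.mp this
  refine ⟨hjac, fun n hn p hp hpI => ?_⟩
  rcases subsingleton_or_nontrivial A with hA | hA
  · exact ⟨1, by simp, Subsingleton.elim _ _⟩
  obtain ⟨F, hF⟩ : ∃ F : A[X], F = X ^ n * (X - 1) + p := ⟨_, rfl⟩
  have hFm : F.Monic := hF ▸ monic_gabber_poly n p hp
  have hFd : F.natDegree = n + 1 := by
    have h1 : (X ^ n * (X - 1) : A[X]).Monic := (monic_X_pow n).mul (monic_X_sub_C 1)
    have hd : (X ^ n * (X - 1) : A[X]).natDegree = n + 1 := by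
      have := ((monic_X_pow (R := A) n).natDegree_mul (monic_X_sub_C (1 : A)))
      rw [natDegree_X_pow, natDegree_X_sub_C, map_one] at this
      exact this
    rw [hF, natDegree_add_eq_left_of_natDegree_lt (by rw [hd]; omega), hd]
  let B := AdjoinRoot F
  have hfin : Module.Finite A B := hFm.finite_adjoinRoot
  set x : B := AdjoinRoot.root F with hx
  have hFx : aeval x F = 0 := by
    rw [hx, AdjoinRoot.aeval_eq, AdjoinRoot.mk_self]
  set JB := I.map (algebraMap A B) with hJB
  have hpx : aeval x p ∈ JB := aeval_mem_map_of_coeff_mem I x p hpI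
  have hxn : x ^ n * (x - 1) ∈ JB := by
    have h0 := congrArg (aeval x) hF
    simp only [map_add, map_mul, map_pow, map_sub, aeval_X, map_one] at h0
    have : x ^ n * (x - 1) = aeval x F - aeval x p := by
      rw [h0]; ring
    rw [this, hFx, zero_sub]
    exact JB.neg_mem hpx
  -- `x^n` is idempotent modulo `JB`
  have hpow : ∀ k : ℕ, x ^ (n + k) - x ^ n ∈ JB := by
    intro k
    induction k with
    | zero => simp
    | succ k ih =>
      have : x ^ (n + (k + 1)) - x ^ n = x * (x ^ (n + k) - x ^ n) + x ^ n * (x - 1) := by ring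
      rw [this]
      exact JB.add_mem (JB.mul_mem_left _ ih) hxn
  have hidem : IsIdempotentElem (Ideal.Quotient.mk JB (x ^ n)) := by
    unfold IsIdempotentElem
    rw [← map_mul, Ideal.Quotient.eq, ← pow_add]
    exact hpow n
  obtain ⟨e, he, hee⟩ := (h B hfin).surjOn hidem
  have hee' : e - x ^ n ∈ JB := Ideal.Quotient.eq.mp hee
  -- evaluation at `1` modulo `I`
  have hF1 : eval₂ (algebraMap A (A ⧸ I)) 1 F = 0 := by
    rw [hF, eval₂_add, eval₂_mul, eval₂_sub, eval₂_X, eval₂_one, sub_self, mul_zero, zero_add,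
      eval₂_eq_sum_range]
    refine Finset.sum_eq_zero fun i _ => ?_
    rw [Ideal.Quotient.algebraMap_eq, Ideal.Quotient.eq_zero_iff_mem.mpr (hpI i), zero_mul]
  let ev : B →ₐ[A] A ⧸ I := AdjoinRoot.liftAlgHom F (Algebra.ofId A (A ⧸ I)) 1 hF1
  have hevx : ev x = 1 := by
    rw [hx]; exact AdjoinRoot.liftAlgHom_root _ _ _ _
  have hevJ : ∀ z ∈ JB, ev z = 0 := by
    intro z hz
    have hle : JB ≤ RingHom.ker ev.toRingHom := by
      rw [hJB, Ideal.map_le_iff_le_comap]
      intro i hi
      simp only [Ideal.mem_comap, RingHom.mem_ker, AlgHom.toRingHom_eq_coe, RingHom.coe_coe,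
        AlgHom.commutes]
      exact Ideal.Quotient.eq_zero_iff_mem.mpr hi
    exact hle hz
  have heve : ev e = 1 := by
    have : ev e = ev (x ^ n) + ev (e - x ^ n) := by rw [← map_add]; congr 1; ring
    rw [this, hevJ _ hee', map_pow, hevx, one_pow, add_zero]
  -- `B e` is generated by `e` modulo `I`
  have hgen : ∀ z : B, ∃ a : A, (algebraMap A B a - z) * e ∈ JB := by
    intro z
    obtain ⟨r, rfl⟩ := AdjoinRoot.mk_surjective z
    refine ⟨r.eval 1, ?_⟩
    have h1 : AdjoinRoot.mk F r = aeval x r := by rw [hx, AdjoinRoot.aeval_eq]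
    rw [h1]
    -- work modulo JB
    rw [← Ideal.Quotient.eq_zero_iff_mem, map_mul, map_sub, hee]
    let π := Ideal.Quotient.mkₐ A JB
    have h2 : π x * π (x ^ n) = (1 : A) • π (x ^ n) := by
      rw [one_smul, ← map_mul, ← sub_eq_zero, ← map_sub]
      have : x * x ^ n - x ^ n = x ^ n * (x - 1) := by ring
      rw [this]
      exact Ideal.Quotient.eq_zero_iff_mem.mpr hxn
    have h3 := aeval_mul_eq_eval_smul (π x) (π (x ^ n)) 1 h2 r
    have h4 : π (aeval x r) = aeval (π x) r := (aeval_algHom_apply π x r).symm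
    change (π (algebraMap A B (eval 1 r)) - π (aeval x r)) * π (x ^ n) = 0
    rw [h4, sub_mul, h3, AlgHom.commutes, Algebra.smul_def, sub_self]
  have hAe := exists_smul_eq_mul_of_idempotent I hjac e he hgen
  obtain ⟨α, hα⟩ := hAe x
  -- a coordinate functional detecting `e`
  let pb := AdjoinRoot.powerBasis' hFm
  have hdim : pb.dim = n + 1 := by rw [AdjoinRoot.powerBasis'_dim, hFd]
  let idx : Fin pb.dim := ⟨n, by rw [hdim]; omega⟩
  let ℓ : B →ₗ[A] A := (pb.basis.coord idx)
  have hℓx : ℓ (x ^ n) = 1 := by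
    have : x ^ n = pb.basis idx := by
      rw [PowerBasis.basis_eq_pow]
      simp [pb, idx, hx]
    rw [this]
    simp only [ℓ, Module.Basis.coord_apply, Module.Basis.repr_self, Finsupp.single_eq_same]
  have hℓJ : ∀ z ∈ JB, ℓ z ∈ I := by
    intro z hz
    have hz' : z ∈ I • (⊤ : Submodule A B) := by
      rw [Ideal.smul_top_eq_map]; exact hz
    have := Submodule.mem_map_of_mem (f := ℓ) hz'
    rw [Submodule.map_smul''] at this
    have h2 : I • Submodule.map ℓ ⊤ ≤ I := by
      rw [Submodule.smul_le]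
      intro r hr m _
      exact I.mul_mem_right _ hr
    exact h2 this
  have hℓe : IsUnit (ℓ e) := by
    apply isUnit_of_sub_one_mem hjac
    have : ℓ e - 1 = ℓ (e - x ^ n) := by rw [map_sub, hℓx]
    rw [this]
    exact hℓJ _ hee'
  have hfaith : ∀ a : A, a • e = 0 → a = 0 := by
    intro a ha
    have := congrArg ℓ ha
    rw [map_smul, map_zero, smul_eq_mul] at this
    exact (hℓe.mul_left_eq_zero).mp this
  refine ⟨α, ?_, ?_⟩
  · have h1 := congrArg ev hα
    rw [map_mul, hevx, heve, map_smul, heve, one_mul, Algebra.smul_def, mul_one] at h1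
    rw [← Ideal.Quotient.eq_zero_iff_mem, map_sub, map_one, ← Ideal.Quotient.algebraMap_eq, ← h1,
      sub_self]
  · have h1 := aeval_mul_eq_eval_smul x e α hα F
    rw [hFx, zero_mul] at h1
    rw [← hF]
    exact hfaith _ h1.symm

end Groth.Agent.Helper7.Hensel
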