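import Mathlib

/-!
# A global form of Zariski's main theorem along a section

For a finite type `A`-algebra `E` which is quasi-finite at all primes and a ring map
`s : E → C` which is surjective on `A`, there is `Δ : E` with `s Δ = 1`, a module-finite
subalgebra `S' ⊆ E` containing `Δ` and `S'[1/Δ] ≃ E[1/Δ]`.
-/

namespace Groth.Agent.Helper7.Hensel

universe u v

set_option backward.isDefEq.respectTransparency false in
/-- Copy of Mathlib's `ZariskisMainProperty.exists_fg_and_exists_notMem_and_awayMap_bijective`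
with an explicit element. -/
theorem exists_fg_subalgebra_awayMap_bijective {R : Type u} {S : Type v} [CommRing R] [CommRing S]
    [Algebra R S] [Algebra.FiniteType R S] (r : S) (hr : IsIntegral R r)
    (hrm : ∀ x : S, ∃ m : ℕ, IsIntegral R (r ^ m * x)) :
    ∃ S' : Subalgebra R S, S'.toSubmodule.FG ∧ ∃ r' : S',
      r'.1 = r ∧ Function.Bijective (Localization.awayMap S'.val.toRingHom r') := by
  classical
  obtain ⟨s, hs⟩ := Algebra.FiniteType.out (R := R) (A := S)
  choose m hm using hrm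
  let t := insert r { r ^ m x * x | x ∈ s }
  let r' : Algebra.adjoin R t := ⟨r, Algebra.subset_adjoin (by simp [t])⟩
  refine ⟨Algebra.adjoin R t, fg_adjoin_of_finite ?_ ?_, ?_⟩
  · simp only [t, Set.finite_insert]
    exact s.finite_toSet.image (fun x ↦ r ^ m x * x)
  · rintro a (rfl | ⟨x, hx, rfl⟩); exacts [hr, hm _]
  refine ⟨r', rfl,
    IsLocalization.map_injective_of_injective _ _ _ Subtype.val_injective, ?_⟩
  have : (IsScalarTower.toAlgHom R S _).range ≤
      (Localization.awayMapₐ (Algebra.adjoin R t).val r').range := by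
    rw [← Algebra.map_top, ← hs, Subalgebra.map_le, Algebra.adjoin_le_iff]
    intro x hx
    suffices ∃ a ∈ Algebra.adjoin R t, ∃ n, r ^ n ∈ Algebra.adjoin R t ∧
        ∃ k, r ^ k * a = r ^ k * (x * r ^ n) by
      simpa [(IsLocalization.mk'_surjective (.powers r')).exists,
        (IsLocalization.mk'_surjective (.powers r)).forall, Localization.awayMapₐ,
        IsLocalization.Away.map, IsLocalization.map_mk', Submonoid.mem_powers_iff,
        Subtype.ext_iff, IsLocalization.mk'_eq_iff_eq_mul, ← map_mul, ← map_pow,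
        IsLocalization.eq_iff_exists (.powers r), Subalgebra.val]
    exact ⟨_, Algebra.subset_adjoin (Set.mem_insert_of_mem _ ⟨x, hx, mul_comm _ _⟩),
      m x, pow_mem r'.2 _, 1, rfl⟩
  intro x
  obtain ⟨x, ⟨_, n, rfl⟩, rfl⟩ := IsLocalization.exists_mk'_eq
    (.powers ((Algebra.adjoin R t).val.toRingHom r')) x
  obtain ⟨y, hy : Localization.awayMap _ _ _ = _⟩ := this ⟨x, rfl⟩
  refine ⟨y * Localization.Away.invSelf _ ^ n, ?_⟩
  simp only [map_mul, map_pow, hy]
  simp [Localization.Away.invSelf, Localization.awayMap, ← Algebra.smul_def,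
    IsLocalization.Away.map, IsLocalization.map_mk', Localization.mk_eq_mk',
    ← IsLocalization.mk'_pow]

/-- The set of `r` which are integral and such that a power of `r` multiplies every element
into the integral closure is closed under addition. -/
theorem zmt_add {A E : Type*} [CommRing A] [CommRing E] [Algebra A E] {r₁ r₂ : E}
    (h₁ : IsIntegral A r₁) (h₂ : IsIntegral A r₂) (x : E) (m₁ m₂ : ℕ)
    (hx₁ : IsIntegral A (r₁ ^ m₁ * x)) (hx₂ : IsIntegral A (r₂ ^ m₂ * x)) :
    IsIntegral A ((r₁ + r₂) ^ (m₁ + m₂) * x) := by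
  rw [add_pow, Finset.sum_mul]
  refine IsIntegral.sum _ fun i hi => ?_
  rw [Finset.mem_range] at hi
  by_cases h : m₁ ≤ i
  · have : r₁ ^ i * r₂ ^ (m₁ + m₂ - i) * ((m₁ + m₂).choose i : E) * x
        = ((m₁ + m₂).choose i : E) * (r₁ ^ (i - m₁) * r₂ ^ (m₁ + m₂ - i)) * (r₁ ^ m₁ * x) := by
      have : r₁ ^ i = r₁ ^ (i - m₁) * r₁ ^ m₁ := by rw [← pow_add, Nat.sub_add_cancel h]
      rw [this]; ring
    rw [this]
    exact ((isIntegral_natCast _).mul ((h₁.pow _).mul (h₂.pow _))).mul hx₁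
  · have hj : m₂ ≤ m₁ + m₂ - i := by omega
    have : r₁ ^ i * r₂ ^ (m₁ + m₂ - i) * ((m₁ + m₂).choose i : E) * x
        = ((m₁ + m₂).choose i : E) * (r₁ ^ i * r₂ ^ (m₁ + m₂ - i - m₂)) * (r₂ ^ m₂ * x) := by
      have : r₂ ^ (m₁ + m₂ - i) = r₂ ^ (m₁ + m₂ - i - m₂) * r₂ ^ m₂ := by
        rw [← pow_add, Nat.sub_add_cancel hj]
      rw [this]; ring
    rw [this]
    exact ((isIntegral_natCast _).mul ((h₁.pow _).mul (h₂.pow _))).mul hx₂

/-- Global choice of the element `Δ` of Zariski's main theorem along a section. -/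
theorem exists_integral_elem_section {A : Type u} {E : Type v} [CommRing A] [CommRing E]
    [Algebra A E] [Algebra.FiniteType A E]
    (hqf : ∀ (q : Ideal E) [q.IsPrime], Algebra.QuasiFiniteAt A q)
    {C : Type*} [CommRing C] [Algebra A C] (s : E →ₐ[A] C)
    (hC : Function.Surjective (algebraMap A C)) :
    ∃ Δ : E, s Δ = 1 ∧ IsIntegral A Δ ∧ ∀ x : E, ∃ m : ℕ, IsIntegral A (Δ ^ m * x) := by
  classical
  let T : Submodule A E :=
    { carrier := {r | IsIntegral A r ∧ ∀ x : E, ∃ m : ℕ, IsIntegral A (r ^ m * x)}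
      zero_mem' := ⟨isIntegral_zero, fun x => ⟨1, by simp [isIntegral_zero]⟩⟩
      add_mem' := by
        rintro r₁ r₂ ⟨h₁, h₁'⟩ ⟨h₂, h₂'⟩
        refine ⟨h₁.add h₂, fun x => ?_⟩
        obtain ⟨m₁, hm₁⟩ := h₁' x
        obtain ⟨m₂, hm₂⟩ := h₂' x
        exact ⟨m₁ + m₂, zmt_add h₁ h₂ x m₁ m₂ hm₁ hm₂⟩
      smul_mem' := by
        rintro a r ⟨h₁, h₁'⟩
        refine ⟨?_, fun x => ?_⟩
        · rw [Algebra.smul_def]; exact isIntegral_algebraMap.mul h₁
        · obtain ⟨m, hm⟩ := h₁' x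
          refine ⟨m, ?_⟩
          have : (a • r) ^ m * x = algebraMap A E (a ^ m) * (r ^ m * x) := by
            rw [Algebra.smul_def, mul_pow, map_pow]; ring
          rw [this]
          exact isIntegral_algebraMap.mul hm }
  have hTspan : ∀ c ∈ Ideal.span (s '' (T : Set E)), ∃ r ∈ T, s r = c := by
    intro c hc
    induction hc using Submodule.span_induction with
    | mem c hc => obtain ⟨r, hr, rfl⟩ := hc; exact ⟨r, hr, rfl⟩
    | zero => exact ⟨0, T.zero_mem, map_zero s⟩
    | add c₁ c₂ _ _ h₁ h₂ =>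
      obtain ⟨r₁, hr₁, rfl⟩ := h₁
      obtain ⟨r₂, hr₂, rfl⟩ := h₂
      exact ⟨r₁ + r₂, T.add_mem hr₁ hr₂, map_add s _ _⟩
    | smul c c' _ h =>
      obtain ⟨r, hr, rfl⟩ := h
      obtain ⟨a, rfl⟩ := hC c
      refine ⟨a • r, T.smul_mem a hr, ?_⟩
      rw [map_smul, Algebra.smul_def, smul_eq_mul]
  have htop : Ideal.span (s '' (T : Set E)) = ⊤ := by
    by_contra hne
    obtain ⟨n, hn, hle⟩ := Ideal.exists_le_maximal _ hne
    have hnp : n.IsPrime := hn.isPrime
    let q := n.comap s.toRingHom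
    have hq : q.IsPrime := Ideal.comap_isPrime s.toRingHom n
    have := hqf q
    obtain ⟨r, hrq, hr1, hr2⟩ := Algebra.zariskisMainProperty_iff.mp
      (Algebra.ZariskisMainProperty.of_finiteType (R := A) q)
    apply hrq
    show s r ∈ n
    exact hle (Ideal.subset_span ⟨r, ⟨hr1, hr2⟩, rfl⟩)
  obtain ⟨Δ, hΔ, hsΔ⟩ := hTspan 1 (htop ▸ Submodule.mem_top)
  exact ⟨Δ, hsΔ, hΔ.1, hΔ.2⟩

end Groth.Agent.Helper7.Hensel
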