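import Groth.Agent.Lib.Helper7.Hensel.Retraction
import Groth.Agent.Lib.Helper7.Hensel.GlobalZMT

/-!
# Lifting sections of étale algebras over a henselian pair
-/

namespace Groth.Agent.Helper7.Hensel

universe u

theorem Gabber.exists_lift_of_etale {A : Type u} [CommRing A] {I : Ideal A} (hG : Gabber A I)
    (E : Type u) [CommRing E] [Algebra A E] [Algebra.Etale A E] (s : E →ₐ[A] A ⧸ I) :
    ∃ τ : E →ₐ[A] A, (Ideal.Quotient.mkₐ A I).comp τ = s := by
  have hqf : ∀ (q : Ideal E) [q.IsPrime], Algebra.QuasiFiniteAt A q := fun q _ => inferInstance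
  obtain ⟨Δ, hsΔ, hΔint, hΔm⟩ := exists_integral_elem_section hqf s Ideal.Quotient.mk_surjective
  obtain ⟨S', hfg, Δ', hΔ', hbij⟩ := exists_fg_subalgebra_awayMap_bijective Δ hΔint hΔm
  have : Module.Finite A S' := ⟨(Submodule.fg_top _).mpr hfg⟩
  let e : Localization.Away Δ' ≃ₐ[A] Localization.Away (S'.val Δ') :=
    AlgEquiv.ofBijective (Localization.awayMapₐ S'.val Δ') hbij
  have h1 : Algebra.Etale E (Localization.Away (S'.val Δ')) :=
    Algebra.Etale.of_isLocalizationAway (S'.val Δ')
  have h2 : Algebra.Etale A (Localization.Away (S'.val Δ')) := Algebra.Etale.comp A E _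
  have h3 : Algebra.Etale A (Localization.Away Δ') := Algebra.Etale.of_equiv e.symm
  -- extend `s` to the localization
  have hunit : IsUnit (s (S'.val Δ')) := by
    have : S'.val Δ' = Δ := hΔ'
    rw [this, hsΔ]; exact isUnit_one
  let s' : Localization.Away (S'.val Δ') →ₐ[A] A ⧸ I :=
    IsLocalization.liftAlgHom (M := Submonoid.powers (S'.val Δ')) (f := s) (by
      rintro ⟨_, n, rfl⟩
      show IsUnit (s (S'.val Δ' ^ n))
      rw [map_pow]
      exact hunit.pow n)
  obtain ⟨τ', hτ'⟩ := exists_retraction_of_finite I hG S' Δ' (Localization.Away Δ')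
    (s'.comp e.toAlgHom)
  refine ⟨(τ'.comp e.symm.toAlgHom).comp (IsScalarTower.toAlgHom A E _), ?_⟩
  rw [← AlgHom.comp_assoc, ← AlgHom.comp_assoc, hτ']
  ext x
  show s' (e (e.symm (algebraMap E _ x))) = s x
  rw [AlgEquiv.apply_symm_apply]
  exact IsLocalization.lift_eq _ x

end Groth.Agent.Helper7.Hensel
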