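import Groth.Agent.Lib.Helper7.Hensel.IdemLift
import Groth.Agent.Lib.Helper7.Hensel.IdemConverse

/-!
# Henselian pairs: enlarging the ideal inside its radical, and integral extensions
-/

namespace Groth.Agent.Helper7.Hensel

universe u

/-- If `(A, I)` is henselian and `I ≤ I' ≤ √I`, then `(A, I')` is henselian. -/
theorem Gabber.of_le_of_nil {A : Type u} [CommRing A] {I I' : Ideal A} (hG : Gabber A I)
    (hle : I ≤ I') (hnil : ∀ x ∈ I', ∃ n : ℕ, x ^ n ∈ I) : Gabber A I' := by
  have hjac' : I' ≤ Ideal.jacobson ⊥ := by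
    intro x hx
    obtain ⟨n, hn⟩ := hnil x hx
    have h1 : x ^ n ∈ Ideal.jacobson (⊥ : Ideal A) := hG.1 hn
    rw [Ideal.jacobson, Ideal.mem_sInf] at h1 ⊢
    intro M hM
    exact hM.2.isPrime.mem_of_pow_mem n (h1 hM)
  apply gabber_of_bijOn_idempotents
  intro B _ _ hfin
  have hint : Algebra.IsIntegral A B := inferInstance
  refine ⟨fun e he => he.map _, ?_, ?_⟩
  · intro e he e' he' hee
    apply idempotent_eq_of_sub_mem_jacobson he he'
    exact map_le_jacobson_of_isIntegral hjac' (Ideal.Quotient.eq.mp hee)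
  · intro ebar hebar
    have hJ : I.map (algebraMap A B) ≤ I'.map (algebraMap A B) := Ideal.map_mono hle
    have hrad : I'.map (algebraMap A B) ≤ (I.map (algebraMap A B)).radical := by
      rw [Ideal.map_le_iff_le_comap]
      intro x hx
      obtain ⟨n, hn⟩ := hnil x hx
      exact ⟨n, by rw [← map_pow]; exact Ideal.mem_map_of_mem _ hn⟩
    have hker : ∀ y ∈ RingHom.ker (Ideal.Quotient.factor hJ), IsNilpotent y := by
      intro y hy
      obtain ⟨b, rfl⟩ := Ideal.Quotient.mk_surjective y
      rw [RingHom.mem_ker, Ideal.Quotient.factor_mk, Ideal.Quotient.eq_zero_iff_mem] at hy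
      obtain ⟨n, hn⟩ := hrad hy
      exact ⟨n, by rw [← map_pow]; exact Ideal.Quotient.eq_zero_iff_mem.mpr hn⟩
    obtain ⟨ε, hε, hεe⟩ := exists_isIdempotentElem_eq_of_ker_isNilpotent
      (Ideal.Quotient.factor hJ) hker ebar
      (by obtain ⟨y, hy⟩ := Ideal.Quotient.factor_surjective hJ ebar; exact ⟨y, hy⟩) hebar
    obtain ⟨e, he, hee⟩ := hG.exists_idempotent_lift (B := B) ε hε
    refine ⟨e, he, ?_⟩
    rw [← hεe, ← hee, Ideal.Quotient.factor_mk]

/-- An integral extension of a henselian pair is a henselian pair. -/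
theorem Gabber.of_isIntegral {A B : Type u} [CommRing A] [CommRing B] [Algebra A B]
    [Algebra.IsIntegral A B] {I : Ideal A} (hG : Gabber A I) :
    Gabber B (I.map (algebraMap A B)) := by
  apply gabber_of_bijOn_idempotents
  intro C _ _ hfin
  let _ : Algebra A C := ((algebraMap B C).comp (algebraMap A B)).toAlgebra
  have : IsScalarTower A B C := IsScalarTower.of_algebraMap_eq (fun _ => rfl)
  have : Algebra.IsIntegral B C := inferInstance
  have : Algebra.IsIntegral A C := Algebra.IsIntegral.trans B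
  have := hG.bijOn_idempotents (B := C)
  rw [Ideal.map_map]
  exact this

end Groth.Agent.Helper7.Hensel
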