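import Mathlib
import Groth.Agent.Lib.Helper7.Hensel.IdemConverse
import Groth.Agent.Lib.Helper7.Hensel.Integral
import Groth.Agent.Lib.Helper7.Hensel.Iff

/-!
# Henselian pairs only depend on the radical of the ideal
-/

namespace Groth.Agent.Helper7.Hensel

universe u

/-- If `(A, K)` is henselian and `K' ≤ K` then `(A, K')` is henselian. -/
theorem Gabber.of_le {A : Type u} [CommRing A] {K K' : Ideal A} (hG : Gabber A K)
    (hle : K' ≤ K) : Gabber A K' := by
  apply gabber_of_bijOn_idempotents
  intro B _ _ hfin
  have hjacB : K.map (algebraMap A B) ≤ Ideal.jacobson ⊥ := map_le_jacobson_of_isIntegral hG.1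
  have hleB : K'.map (algebraMap A B) ≤ K.map (algebraMap A B) := Ideal.map_mono hle
  refine ⟨fun e he => he.map _, ?_, ?_⟩
  · intro e he e' he' hee'
    apply idempotent_eq_of_sub_mem_jacobson he he'
    exact hjacB (hleB (Ideal.Quotient.eq.mp hee'))
  · intro ebar hebar
    obtain ⟨b₀, rfl⟩ := Ideal.Quotient.mk_surjective ebar
    have hb₀ : IsIdempotentElem (Ideal.Quotient.mk (K.map (algebraMap A B)) b₀) := by
      have h1 : b₀ * b₀ - b₀ ∈ K'.map (algebraMap A B) := by
        rw [← Ideal.Quotient.eq, map_mul]
        exact hebar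
      show _ * _ = _
      rw [← map_mul, Ideal.Quotient.eq]
      exact hleB h1
    obtain ⟨e, he, hee⟩ := hG.exists_idempotent_lift (B := B) _ hb₀
    refine ⟨e, he, ?_⟩
    apply idempotent_eq_of_sub_mem_jacobson (he.map _) hebar
    rw [← map_sub, Ideal.mem_jacobson_bot]
    intro y
    obtain ⟨y₀, rfl⟩ := Ideal.Quotient.mk_surjective y
    have h2 : e - b₀ ∈ K.map (algebraMap A B) := Ideal.Quotient.eq.mp hee
    have h3 : IsUnit ((e - b₀) * y₀ + 1) := (Ideal.mem_jacobson_bot.mp (hjacB h2)) y₀
    have h4 := h3.map (Ideal.Quotient.mk (K'.map (algebraMap A B)))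
    rwa [map_add, map_mul, map_one] at h4

theorem Gabber.radical {A : Type u} [CommRing A] {K : Ideal A} (hG : Gabber A K) :
    Gabber A K.radical :=
  hG.of_le_of_nil Ideal.le_radical fun _ hx => hx

theorem Gabber.of_radical_eq {A : Type u} [CommRing A] {K K' : Ideal A} (hG : Gabber A K)
    (h : K.radical = K'.radical) : Gabber A K' :=
  (hG.radical).of_le (h ▸ Ideal.le_radical)

theorem henselianRing_of_radical_eq {A : Type u} [CommRing A] {K K' : Ideal A}
    (hK : HenselianRing A K) (h : K.radical = K'.radical) : HenselianRing A K' :=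
  ((Gabber.of_henselianRing hK).of_radical_eq h).henselianRing

theorem henselianRing_radical {A : Type u} [CommRing A] {K : Ideal A}
    (hK : HenselianRing A K) : HenselianRing A K.radical :=
  ((Gabber.of_henselianRing hK).radical).henselianRing

theorem radical_map_eq_of_radical_eq {A B : Type*} [CommRing A] [CommRing B] (f : A →+* B)
    {I J : Ideal A} (h : I.radical = J.radical) : (I.map f).radical = (J.map f).radical := by
  have key : ∀ {I J : Ideal A}, I ≤ J.radical → I.map f ≤ (J.map f).radical := by
    intro I J hIJ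
    rw [Ideal.map_le_iff_le_comap]
    intro a ha
    obtain ⟨n, hn⟩ := hIJ ha
    exact ⟨n, by rw [← map_pow]; exact Ideal.mem_map_of_mem _ hn⟩
  apply le_antisymm
  · exact Ideal.radical_le_radical_iff.mpr (key (h ▸ Ideal.le_radical))
  · exact Ideal.radical_le_radical_iff.mpr (key (h ▸ Ideal.le_radical))

end Groth.Agent.Helper7.Hensel
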