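import Groth.Agent.Lib.Helper7.Hensel.FiniteLocal
import Groth.Agent.Lib.Helper7.Hensel.Basic

/-!
# Finite algebras over henselian local rings are products of local rings
-/

namespace Groth.Agent.Helper7.Hensel

universe u

/-- Fitting-type decomposition: in an artinian commutative ring, for every element `a` there is an
idempotent `ε ∈ (a)` with `a ^ N * ε = a ^ N` for some `N`. -/
theorem artinian_exists_idempotent (T : Type*) [CommRing T] [IsArtinianRing T] (a : T) :
    ∃ ε : T, IsIdempotentElem ε ∧ ε ∈ Ideal.span {a} ∧ ∃ N : ℕ, a ^ N * ε = a ^ N := by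
  obtain ⟨n, hn⟩ := IsArtinian.range_smul_pow_stabilizes T a
  have h1 : LinearMap.range (a ^ (n + 1) • LinearMap.id : T →ₗ[T] T)
      = LinearMap.range (a ^ (2 * (n + 1)) • LinearMap.id : T →ₗ[T] T) := by
    rw [← hn (n + 1) (by omega), ← hn (2 * (n + 1)) (by omega)]
  have h2 : a ^ (n + 1) ∈ LinearMap.range (a ^ (n + 1) • LinearMap.id : T →ₗ[T] T) :=
    ⟨1, by simp⟩
  rw [h1] at h2
  obtain ⟨y, hy⟩ := h2
  simp only [LinearMap.smul_apply, LinearMap.id_coe, id_eq, smul_eq_mul] at hy
  refine ⟨y * a ^ (n + 1), ?_, ?_, n + 1, ?_⟩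
  · show y * a ^ (n + 1) * (y * a ^ (n + 1)) = y * a ^ (n + 1)
    calc y * a ^ (n + 1) * (y * a ^ (n + 1)) = y * (a ^ (2 * (n + 1)) * y) := by ring
      _ = y * a ^ (n + 1) := by rw [hy]
  · rw [Ideal.mem_span_singleton]
    exact Dvd.dvd.mul_left (dvd_pow_self a (by omega)) y
  · calc a ^ (n + 1) * (y * a ^ (n + 1)) = a ^ (2 * (n + 1)) * y := by ring
      _ = a ^ (n + 1) := hy

theorem map_maximalIdeal_le_of_isMaximal {R S : Type*} [CommRing R] [CommRing S]
    [IsLocalRing R] [Algebra R S] [Algebra.IsIntegral R S] (M : Ideal S) [hM : M.IsMaximal] :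
    (IsLocalRing.maximalIdeal R).map (algebraMap R S) ≤ M := by
  rw [Ideal.map_le_iff_le_comap]
  have hmax : (M.comap (algebraMap R S)).IsMaximal :=
    Ideal.isMaximal_comap_of_isIntegral_of_isMaximal M
  rw [IsLocalRing.eq_maximalIdeal hmax]

/-- Separating two maximal ideals of a finite algebra over a henselian local ring by an
idempotent. -/
theorem exists_idempotent_mem_of_ne (R : Type u) [CommRing R] [HenselianLocalRing R]
    (S : Type u) [CommRing S] [Algebra R S] [Module.Finite R S] (M₁ M₂ : Ideal S)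
    [h₁ : M₁.IsMaximal] [h₂ : M₂.IsMaximal] (hne : M₁ ≠ M₂) :
    ∃ e : S, IsIdempotentElem e ∧ e ∈ M₁ ∧ 1 - e ∈ M₂ := by
  have hG := Gabber.of_henselianLocalRing R
  have hfin : Module.Finite (R ⧸ IsLocalRing.maximalIdeal R)
      (S ⧸ (IsLocalRing.maximalIdeal R).map (algebraMap R S)) :=
    Module.Finite.of_restrictScalars_finite R _ _
  let _ : Field (R ⧸ IsLocalRing.maximalIdeal R) := Ideal.Quotient.field _
  have hart : IsArtinianRing (S ⧸ (IsLocalRing.maximalIdeal R).map (algebraMap R S)) :=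
    IsArtinianRing.of_finite (R ⧸ IsLocalRing.maximalIdeal R) _
  set J := (IsLocalRing.maximalIdeal R).map (algebraMap R S) with hJ
  have hJ₁ : J ≤ M₁ := map_maximalIdeal_le_of_isMaximal M₁
  have hJ₂ : J ≤ M₂ := map_maximalIdeal_le_of_isMaximal M₂
  have htop := h₁.coprime_of_ne h₂ hne
  obtain ⟨a, ha, b, hb, hab⟩ := Submodule.mem_sup.mp ((Ideal.eq_top_iff_one _).mp htop)
  obtain ⟨ε, hε, hεa, N, hN⟩ := artinian_exists_idempotent (S ⧸ J) (Ideal.Quotient.mk J a)
  obtain ⟨e, he, hee⟩ := hG.exists_idempotent_lift (B := S) ε hε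
  have heM₁ : e ∈ M₁ := by
    rw [Ideal.mem_span_singleton'] at hεa
    obtain ⟨c, hc⟩ := hεa
    obtain ⟨c, rfl⟩ := Ideal.Quotient.mk_surjective c
    rw [← hee, ← map_mul, Ideal.Quotient.eq] at hc
    have : e = c * a - (c * a - e) := by ring
    rw [this]
    exact M₁.sub_mem (M₁.mul_mem_left _ ha) (hJ₁ hc)
  refine ⟨e, he, heM₁, ?_⟩
  have h0 : e * (1 - e) ∈ M₂ := by
    have : e * (1 - e) = 0 := by rw [mul_sub, mul_one, he.eq, sub_self]
    rw [this]; exact M₂.zero_mem
  refine (h₂.isPrime.mem_or_mem h0).resolve_left fun heM₂ => ?_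
  rw [← hee, ← map_pow, ← map_mul, Ideal.Quotient.eq] at hN
  have h3 : a ^ N ∈ M₂ := by
    have : a ^ N = a ^ N * e - (a ^ N * e - a ^ N) := by ring
    rw [this]
    exact M₂.sub_mem (M₂.mul_mem_left _ heM₂) (hJ₂ hN)
  have h4 : a ∈ M₂ := h₂.isPrime.mem_of_pow_mem N h3
  apply h₂.ne_top
  rw [Ideal.eq_top_iff_one, ← hab]
  exact M₂.add_mem h4 hb

/-- A finite algebra over a local ring has finitely many maximal ideals. -/
theorem finite_maximalSpectrum (R : Type*) [CommRing R] [IsLocalRing R]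
    (S : Type*) [CommRing S] [Algebra R S] [Module.Finite R S] : Finite (MaximalSpectrum S) := by
  have hfin := Algebra.QuasiFinite.finite_comap_preimage_singleton (R := R) (S := S)
    (IsLocalRing.closedPoint R)
  let f : MaximalSpectrum S → (PrimeSpectrum.comap (algebraMap R S) ⁻¹' {IsLocalRing.closedPoint R}) :=
    fun M => ⟨M.toPrimeSpectrum, by
      have hmax : (M.asIdeal.comap (algebraMap R S)).IsMaximal :=
        Ideal.isMaximal_comap_of_isIntegral_of_isMaximal M.asIdeal
      rw [Set.mem_preimage, Set.mem_singleton_iff]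
      ext1
      exact IsLocalRing.eq_maximalIdeal hmax⟩
  have hf : Function.Injective f := by
    intro M M' h
    have := congrArg (fun x => x.1.asIdeal) h
    exact MaximalSpectrum.ext this
  have := hfin.to_subtype
  exact Finite.of_injective f hf

end Groth.Agent.Helper7.Hensel
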