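import Mathlib
import Groth.Agent.Lib.Helper7.Hensel.FiniteDecomp
import Groth.Agent.Lib.Helper7.Hensel.FiniteLocal
import Groth.Agent.Lib.Helper7.Hensel.Integral
import Groth.Agent.Lib.Helper7.Hensel.Local

/-!
# Integral domains over henselian local rings are henselian local
-/

namespace Groth.Agent.Helper7.Hensel

universe u

/-- A domain integral over a henselian local ring has at most one maximal ideal. -/
theorem maximal_eq_of_isIntegral_domain (A B : Type u) [CommRing A] [HenselianLocalRing A]
    [CommRing B] [IsDomain B] [Algebra A B] [Algebra.IsIntegral A B]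
    (M₁ M₂ : Ideal B) [h₁ : M₁.IsMaximal] [h₂ : M₂.IsMaximal] : M₁ = M₂ := by
  by_contra hne
  have hnle : ¬ M₁ ≤ M₂ := fun hle => hne (h₁.eq_of_le h₂.ne_top hle)
  obtain ⟨x, hx₁, hx₂⟩ := Set.not_subset.mp hnle
  let S : Subalgebra A B := Algebra.adjoin A {x}
  have hfin : Module.Finite A S := by
    have : (Algebra.adjoin A ({x} : Set B)).toSubmodule.FG :=
      (Algebra.IsIntegral.isIntegral x).fg_adjoin_singleton
    exact ⟨(Submodule.fg_top _).mpr this⟩
  have hint : Algebra.IsIntegral S B := Algebra.IsIntegral.tower_top (R := A)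
  let N₁ : Ideal S := M₁.comap (algebraMap S B)
  let N₂ : Ideal S := M₂.comap (algebraMap S B)
  have hN₁ : N₁.IsMaximal := Ideal.isMaximal_comap_of_isIntegral_of_isMaximal M₁
  have hN₂ : N₂.IsMaximal := Ideal.isMaximal_comap_of_isIntegral_of_isMaximal M₂
  have hxS : x ∈ S := Algebra.subset_adjoin (Set.mem_singleton x)
  have hneN : N₁ ≠ N₂ := by
    intro h
    have h1 : (⟨x, hxS⟩ : S) ∈ N₁ := hx₁
    rw [h] at h1
    exact hx₂ h1
  obtain ⟨e, he, he₁, he₂⟩ := exists_idempotent_mem_of_ne A S N₁ N₂ hneN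
  rcases (IsIdempotentElem.iff_eq_zero_or_one.mp he) with h0 | h1
  · rw [h0, sub_zero] at he₂
    exact hN₂.ne_top ((Ideal.eq_top_iff_one _).mpr he₂)
  · rw [h1] at he₁
    exact hN₁.ne_top ((Ideal.eq_top_iff_one _).mpr he₁)

theorem isLocalRing_of_isIntegral_domain (A B : Type u) [CommRing A] [HenselianLocalRing A]
    [CommRing B] [IsDomain B] [Algebra A B] [Algebra.IsIntegral A B] : IsLocalRing B := by
  obtain ⟨M, hM⟩ := Ideal.exists_maximal B
  apply IsLocalRing.of_unique_max_ideal
  refine ⟨M, hM, fun M' hM' => ?_⟩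
  exact maximal_eq_of_isIntegral_domain A B M' M

theorem pow_mem_map_maximalIdeal_of_mem_maximalIdeal {A B : Type u} [CommRing A] [IsLocalRing A]
    [CommRing B] [IsLocalRing B] [Algebra A B] [Algebra.IsIntegral A B] (x : B)
    (hx : x ∈ IsLocalRing.maximalIdeal B) :
    ∃ n : ℕ, x ^ n ∈ (IsLocalRing.maximalIdeal A).map (algebraMap A B) := by
  let S : Subalgebra A B := Algebra.adjoin A {x}
  have hfin : Module.Finite A S := by
    have : (Algebra.adjoin A ({x} : Set B)).toSubmodule.FG :=
      (Algebra.IsIntegral.isIntegral x).fg_adjoin_singleton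
    exact ⟨(Submodule.fg_top _).mpr this⟩
  have hint : Algebra.IsIntegral S B := Algebra.IsIntegral.tower_top (R := A)
  have hxS : x ∈ S := Algebra.subset_adjoin (Set.mem_singleton x)
  have hjac : (⟨x, hxS⟩ : S) ∈ Ideal.jacobson (⊥ : Ideal S) := by
    rw [Ideal.jacobson, Ideal.mem_sInf]
    rintro N ⟨-, hN⟩
    obtain ⟨M, hMmax, hMN⟩ := Ideal.exists_ideal_over_maximal_of_isIntegral (S := B) N
      (by
        have hinj : Function.Injective (algebraMap S B) := Subtype.val_injective
        rw [(RingHom.injective_iff_ker_eq_bot _).mp hinj]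
        exact bot_le)
    have hM : M = IsLocalRing.maximalIdeal B := IsLocalRing.eq_maximalIdeal hMmax
    rw [← hMN, hM]
    exact hx
  obtain ⟨n, hn⟩ := exists_pow_mem_map_maximalIdeal_of_mem_jacobson (R := A) (S := S) _ hjac
  refine ⟨n, ?_⟩
  have h1 := Ideal.mem_map_of_mem (algebraMap S B) hn
  rw [Ideal.map_map, ← IsScalarTower.algebraMap_eq] at h1
  simpa using h1

theorem henselianLocalRing_of_isIntegral_of_isLocalRing (A B : Type u) [CommRing A]
    [HenselianLocalRing A] [CommRing B] [IsLocalRing B] [Algebra A B] [Algebra.IsIntegral A B] :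
    HenselianLocalRing B := by
  apply henselianLocalRing_of_gabber
  have hG : Gabber B ((IsLocalRing.maximalIdeal A).map (algebraMap A B)) :=
    (Gabber.of_henselianLocalRing A).of_isIntegral
  exact hG.of_le_of_nil map_maximalIdeal_le_maximalIdeal
    fun x hx => pow_mem_map_maximalIdeal_of_mem_maximalIdeal x hx

theorem isLocalHom_of_isIntegral {A B : Type u} [CommRing A] [IsLocalRing A] [CommRing B]
    [IsLocalRing B] [Algebra A B] [Algebra.IsIntegral A B] : IsLocalHom (algebraMap A B) := by
  constructor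
  intro a ha
  by_contra hna
  have h1 : a ∈ IsLocalRing.maximalIdeal A := (IsLocalRing.mem_maximalIdeal a).mpr hna
  have h2 : algebraMap A B a ∈ IsLocalRing.maximalIdeal B :=
    map_maximalIdeal_le_maximalIdeal (Ideal.mem_map_of_mem _ h1)
  exact (IsLocalRing.mem_maximalIdeal _).mp h2 ha

end Groth.Agent.Helper7.Hensel
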