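import Groth.Agent.Lib.Helper7.Hensel.GlobalZMT
import Groth.Agent.Lib.Helper7.Hensel.FiniteDecomp

/-!
# Splitting off the finite part of a finite type algebra over a henselian local ring
-/

namespace Groth.Agent.Helper7.Hensel

universe u v

/-- Global choice of the element `Δ` of Zariski's main theorem, avoiding finitely many primes at
which the algebra is quasi-finite. -/
theorem exists_integral_elem_avoiding {R : Type u} {S : Type v} [CommRing R] [CommRing S]
    [Algebra R S] [Algebra.FiniteType R S] (F : Finset (PrimeSpectrum S))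
    (hF : ∀ q ∈ F, Algebra.QuasiFiniteAt R q.asIdeal) :
    ∃ Δ : S, IsIntegral R Δ ∧ (∀ x : S, ∃ m : ℕ, IsIntegral R (Δ ^ m * x)) ∧
      ∀ q ∈ F, Δ ∉ q.asIdeal := by
  classical
  rcases F.eq_empty_or_nonempty with rfl | ⟨q₀, hq₀⟩
  · exact ⟨0, isIntegral_zero, fun x => ⟨1, by simp [isIntegral_zero]⟩, by simp⟩
  let T' : Ideal (integralClosure R S) :=
    { carrier := {t | ∀ x : S, ∃ n : ℕ, IsIntegral R ((t : S) ^ n * x)}
      zero_mem' := fun x => ⟨1, by simp [isIntegral_zero]⟩
      add_mem' := by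
        intro t₁ t₂ h₁ h₂ x
        obtain ⟨m₁, hm₁⟩ := h₁ x
        obtain ⟨m₂, hm₂⟩ := h₂ x
        exact ⟨m₁ + m₂, zmt_add t₁.2 t₂.2 x m₁ m₂ hm₁ hm₂⟩
      smul_mem' := by
        intro c t ht x
        obtain ⟨n, hn⟩ := ht x
        refine ⟨n, ?_⟩
        have : ((c • t : integralClosure R S) : S) ^ n * x = (c : S) ^ n * ((t : S) ^ n * x) := by
          rw [smul_eq_mul, Subalgebra.coe_mul, mul_pow, mul_assoc]
        rw [this]
        exact (c.2.pow n).mul hn }
  let f : PrimeSpectrum S → Ideal (integralClosure R S) :=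
    fun q => q.asIdeal.comap (integralClosure R S).val.toRingHom
  have hprime : ∀ q ∈ F, q ≠ q₀ → q ≠ q₀ → (f q).IsPrime := fun q _ _ _ =>
    Ideal.comap_isPrime _ _
  have hnot : ¬ ((T' : Set (integralClosure R S)) ⊆ ⋃ q ∈ (↑F : Set (PrimeSpectrum S)), f q) := by
    intro hsub
    obtain ⟨q, hq, hle⟩ := (Ideal.subset_union_prime q₀ q₀ hprime).mp hsub
    have := hF q hq
    obtain ⟨r, hrq, hr1, hr2⟩ := Algebra.zariskisMainProperty_iff.mp
      (Algebra.ZariskisMainProperty.of_finiteType (R := R) q.asIdeal)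
    have hmem : (⟨r, hr1⟩ : integralClosure R S) ∈ T' := hr2
    exact hrq (hle hmem)
  obtain ⟨Δ', hΔ', hΔ''⟩ := Set.not_subset.mp hnot
  refine ⟨Δ'.1, Δ'.2, hΔ', fun q hq hmem => hΔ'' ?_⟩
  exact Set.mem_biUnion (Finset.mem_coe.mpr hq) hmem

end Groth.Agent.Helper7.Hensel

namespace Groth.Agent.Helper7.Hensel

universe u

theorem val_mem_map_of_mem_map {R S : Type*} [CommRing R] [CommRing S] [Algebra R S]
    (S'' : Subalgebra R S) (m : Ideal R) (x : S'') (hx : x ∈ m.map (algebraMap R S'')) :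
    (x : S) ∈ m.map (algebraMap R S) := by
  have h1 : S''.val.toRingHom x ∈ (m.map (algebraMap R S'')).map S''.val.toRingHom :=
    Ideal.mem_map_of_mem _ hx
  rw [Ideal.map_map] at h1
  have h2 : S''.val.toRingHom.comp (algebraMap R S'') = algebraMap R S := by
    ext r; rfl
  rw [h2] at h1
  exact h1

/-- **Splitting lemma**: for a finite type algebra `S` over a henselian local ring and finitely
many primes at which `S` is quasi-finite, there is an idempotent `e` such that `S/(1-e)` is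
finite and `e` lies in none of the given primes lying over the maximal ideal. -/
theorem exists_idempotent_split (R : Type u) [CommRing R] [HenselianLocalRing R]
    (S : Type u) [CommRing S] [Algebra R S] [Algebra.FiniteType R S]
    (F : Finset (PrimeSpectrum S)) (hF : ∀ q ∈ F, Algebra.QuasiFiniteAt R q.asIdeal) :
    ∃ e : S, IsIdempotentElem e ∧ Module.Finite R (S ⧸ Ideal.span {1 - e}) ∧
      ∀ q ∈ F, (IsLocalRing.maximalIdeal R).map (algebraMap R S) ≤ q.asIdeal →
        e ∉ q.asIdeal := by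
  classical
  obtain ⟨Δ, hΔint, hΔm, hΔF⟩ := exists_integral_elem_avoiding F hF
  obtain ⟨S'', hfg, Δ'', hΔ'', hbij⟩ := exists_fg_subalgebra_awayMap_bijective Δ hΔint hΔm
  have hfin : Module.Finite R S'' := ⟨(Submodule.fg_top _).mpr hfg⟩
  have hG := Gabber.of_henselianLocalRing R
  have hfin' : Module.Finite (R ⧸ IsLocalRing.maximalIdeal R)
      (S'' ⧸ (IsLocalRing.maximalIdeal R).map (algebraMap R S'')) :=
    Module.Finite.of_restrictScalars_finite R _ _
  let _ : Field (R ⧸ IsLocalRing.maximalIdeal R) := Ideal.Quotient.field _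
  have hart : IsArtinianRing (S'' ⧸ (IsLocalRing.maximalIdeal R).map (algebraMap R S'')) :=
    IsArtinianRing.of_finite (R ⧸ IsLocalRing.maximalIdeal R) _
  set J := (IsLocalRing.maximalIdeal R).map (algebraMap R S'') with hJ
  obtain ⟨ε, hε, hεΔ, N, hN⟩ := artinian_exists_idempotent (S'' ⧸ J) (Ideal.Quotient.mk J Δ'')
  obtain ⟨e'', he'', hee⟩ := hG.exists_idempotent_lift (B := S'') ε hε
  have ha : ∃ c : S'', e'' - c * Δ'' ∈ J := by
    rw [Ideal.mem_span_singleton'] at hεΔ
    obtain ⟨c, hc⟩ := hεΔ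
    obtain ⟨c, rfl⟩ := Ideal.Quotient.mk_surjective c
    rw [← hee, ← map_mul, Ideal.Quotient.eq] at hc
    exact ⟨c, by simpa using J.neg_mem hc⟩
  have hb : Δ'' ^ N * e'' - Δ'' ^ N ∈ J := by
    rw [← hee, ← map_pow, ← map_mul, Ideal.Quotient.eq] at hN
    exact hN
  -- `Δ''` is invertible modulo `1 - e''`
  have hw : ∃ w : S'', Δ'' * w - 1 ∈ Ideal.span {1 - e''} := by
    obtain ⟨c, hc⟩ := ha
    have hjacQ : (IsLocalRing.maximalIdeal R).map
        (algebraMap R (S'' ⧸ Ideal.span {1 - e''})) ≤ Ideal.jacobson ⊥ :=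
      map_le_jacobson_of_isIntegral hG.1
    have hmk1 : Ideal.Quotient.mk (Ideal.span {1 - e''}) e'' = 1 := by
      rw [eq_comm, ← sub_eq_zero, ← map_one (Ideal.Quotient.mk (Ideal.span {1 - e''})),
        ← map_sub]
      exact Ideal.Quotient.eq_zero_iff_mem.mpr (Ideal.mem_span_singleton_self _)
    have hunit : IsUnit (Ideal.Quotient.mk (Ideal.span {1 - e''}) (c * Δ'')) := by
      apply isUnit_of_sub_one_mem hjacQ
      have h1 : Ideal.Quotient.mk (Ideal.span {1 - e''}) (c * Δ'') - 1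
          = - Ideal.Quotient.mk (Ideal.span {1 - e''}) (e'' - c * Δ'') := by
        rw [map_sub, hmk1]; ring
      rw [h1]
      apply neg_mem
      have h2 : Ideal.Quotient.mk (Ideal.span {1 - e''}) (e'' - c * Δ'')
          ∈ J.map (Ideal.Quotient.mk (Ideal.span {1 - e''})) := Ideal.mem_map_of_mem _ hc
      rw [hJ, Ideal.map_map] at h2
      exact h2
    obtain ⟨u, hu⟩ := hunit.exists_right_inv
    obtain ⟨u, rfl⟩ := Ideal.Quotient.mk_surjective u
    refine ⟨c * u, ?_⟩
    rw [← Ideal.Quotient.eq_zero_iff_mem, map_sub, map_one, sub_eq_zero, ← hu, ← map_mul]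
    congr 1; ring
  obtain ⟨w, hw⟩ := hw
  have heS : IsIdempotentElem (e'' : S) := by
    have := congrArg Subtype.val he''.eq
    exact this
  have hΔS : (Δ'' : S) = Δ := hΔ''
  refine ⟨(e'' : S), heS, ?_, ?_⟩
  · -- finiteness
    let g : S'' →ₐ[R] S ⧸ Ideal.span {1 - (e'' : S)} :=
      (Ideal.Quotient.mkₐ R _).comp S''.val
    have hΔw : Ideal.Quotient.mk (Ideal.span {1 - (e'' : S)}) ((Δ'' : S) * (w : S)) = 1 := by
      rw [← sub_eq_zero, ← map_one (Ideal.Quotient.mk (Ideal.span {1 - (e'' : S)})), ← map_sub,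
        Ideal.Quotient.eq_zero_iff_mem]
      rw [Ideal.mem_span_singleton'] at hw ⊢
      obtain ⟨t, ht⟩ := hw
      refine ⟨(t : S), ?_⟩
      have := congrArg Subtype.val ht
      simpa using this
    have hsurj : Function.Surjective g := by
      intro y
      obtain ⟨x, rfl⟩ := Ideal.Quotient.mk_surjective y
      obtain ⟨b, k, hbk⟩ := Localization.awayMap_surjective_iff.mp hbij.2 x
      refine ⟨w ^ k * b, ?_⟩
      show Ideal.Quotient.mk _ ((w ^ k * b : S'') : S) = _
      have h1 : ((w ^ k * b : S'') : S) = (w : S) ^ k * ((Δ'' : S) ^ k * x) := by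
        rw [Subalgebra.coe_mul, Subalgebra.coe_pow]
        congr 1
      rw [h1]
      have h2 : (w : S) ^ k * ((Δ'' : S) ^ k * x) = ((Δ'' : S) * (w : S)) ^ k * x := by ring
      rw [h2, map_mul, map_pow, hΔw, one_pow, one_mul]
    exact Module.Finite.of_surjective g.toLinearMap hsurj
  · intro q hq hle hmem
    apply hΔF q hq
    have h1 : ((Δ'' ^ N * e'' - Δ'' ^ N : S'') : S) ∈ q.asIdeal :=
      hle (val_mem_map_of_mem_map S'' _ _ hb)
    have h2 : ((Δ'' ^ N * e'' - Δ'' ^ N : S'') : S) = Δ ^ N * (e'' : S) - Δ ^ N := by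
      rw [← hΔS]; simp
    rw [h2] at h1
    have h3 : Δ ^ N ∈ q.asIdeal := by
      have : Δ ^ N = Δ ^ N * (e'' : S) - (Δ ^ N * (e'' : S) - Δ ^ N) := by ring
      rw [this]
      exact q.asIdeal.sub_mem (q.asIdeal.mul_mem_left _ hmem) h1
    exact q.isPrime.mem_of_pow_mem N h3

end Groth.Agent.Helper7.Hensel
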