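import Mathlib

/-! helper7: generation of a quotient of `R[X]/(f)` over a local ring by low powers of the root (Nakayama) -/

open Polynomial

namespace Groth.Agent.Helper7.Hensel.NonMonic

universe u

theorem aeval_mem_map_of_coeff_mem {R : Type*} [CommRing R] (I : Ideal R) {A : Type*} [CommRing A]
    [Algebra R A] (x : A) (ψ : R[X]) (hψ : ∀ i, ψ.coeff i ∈ I) :
    aeval x ψ ∈ I.map (algebraMap R A) := by
  rw [aeval_eq_sum_range]
  refine Ideal.sum_mem _ fun i _ => ?_
  rw [Algebra.smul_def]
  exact Ideal.mul_mem_right _ _ (Ideal.mem_map_of_mem _ (hψ i))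

theorem top_le_span_sup {R : Type*} [CommRing R] [IsLocalRing R] (f : R[X])
    (hf : f.map (IsLocalRing.residue R) ≠ 0) {A : Type*} [CommRing A] [Algebra R A] (x : A)
    (hx : aeval x f = 0) (hsurj : Function.Surjective (aeval (R := R) x)) :
    (⊤ : Submodule R A) ≤
      Submodule.span R (Set.range fun i : Fin (f.map (IsLocalRing.residue R)).natDegree =>
        x ^ (i : ℕ)) ⊔ (IsLocalRing.maximalIdeal R) • (⊤ : Submodule R A) := by
  classical
  set fb := f.map (IsLocalRing.residue R) with hfb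
  set n' := fb.natDegree with hn'
  have hlc : fb.leadingCoeff ≠ 0 := leadingCoeff_ne_zero.mpr hf
  obtain ⟨u, hu⟩ := IsLocalRing.residue_surjective (R := R) (fb.leadingCoeff)⁻¹
  set f₁ := C (fb.leadingCoeff)⁻¹ * fb with hf₁
  have hf₁m : f₁.Monic := by
    rw [hf₁, mul_comm]
    exact monic_mul_leadingCoeff_inv hf
  have hf₁d : f₁.natDegree = n' := by
    rw [hf₁, natDegree_C_mul (inv_ne_zero hlc)]
  have hlift : f₁ ∈ lifts (IsLocalRing.residue R) := by
    obtain ⟨q, hq⟩ := map_surjective (IsLocalRing.residue R) IsLocalRing.residue_surjective f₁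
    exact (mem_lifts _).mpr ⟨q, hq⟩
  obtain ⟨φ, hφ, hφd, hφm⟩ := lifts_and_natDegree_eq_and_monic hlift hf₁m
  set ψ := φ - C u * f with hψ
  have hψ0 : ψ.map (IsLocalRing.residue R) = 0 := by
    rw [hψ, Polynomial.map_sub, Polynomial.map_mul, map_C, hφ, hu, hf₁, sub_self]
  have hψc : ∀ i, ψ.coeff i ∈ IsLocalRing.maximalIdeal R := by
    intro i
    have := congrArg (fun p => p.coeff i) hψ0
    simp only [coeff_map, coeff_zero] at this
    exact (IsLocalRing.residue_eq_zero_iff _).mp this
  have hφx : aeval x φ ∈ (IsLocalRing.maximalIdeal R).map (algebraMap R A) := by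
    have h1 : aeval x φ = aeval x ψ := by
      rw [hψ, map_sub, map_mul, hx, mul_zero, sub_zero]
    rw [h1]
    exact aeval_mem_map_of_coeff_mem _ x ψ hψc
  intro a _
  obtain ⟨q, rfl⟩ := hsurj a
  have hdiv := modByMonic_add_div q φ
  rw [← hdiv, map_add, map_mul]
  refine Submodule.add_mem_sup ?_ ?_
  · set r := q %ₘ φ with hr
    by_cases hr0 : r = 0
    · rw [hr0, map_zero]; exact Submodule.zero_mem _
    · have hdeg : r.natDegree < n' := by
        rw [← hf₁d, ← hφd]
        exact natDegree_lt_natDegree hr0 (degree_modByMonic_lt q hφm)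
      rw [aeval_eq_sum_range' hdeg]
      refine Submodule.sum_mem _ fun i hi => ?_
      exact Submodule.smul_mem _ _ (Submodule.subset_span ⟨⟨i, Finset.mem_range.mp hi⟩, rfl⟩)
  · rw [Ideal.smul_top_eq_map]
    exact Ideal.mul_mem_right _ _ hφx

theorem exists_monic_aeval_eq_zero {R : Type*} [CommRing R] [IsLocalRing R] (f : R[X])
    (hf : f.map (IsLocalRing.residue R) ≠ 0) {A : Type*} [CommRing A] [Algebra R A]
    [Module.Finite R A] (x : A)
    (hx : aeval x f = 0) (hsurj : Function.Surjective (aeval (R := R) x)) :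
    ∃ p : R[X], p.Monic ∧ p.natDegree = (f.map (IsLocalRing.residue R)).natDegree ∧
      aeval x p = 0 := by
  classical
  set n' := (f.map (IsLocalRing.residue R)).natDegree with hn'
  have h1 := top_le_span_sup f hf x hx hsurj
  have h2 : (⊤ : Submodule R A) ≤
      Submodule.span R (Set.range fun i : Fin n' => x ^ (i : ℕ)) :=
    Submodule.le_of_le_smul_of_le_jacobson_bot Module.Finite.fg_top
      (IsLocalRing.maximalIdeal_le_jacobson _) h1
  have h3 : x ^ n' ∈ Submodule.span R (Set.range fun i : Fin n' => x ^ (i : ℕ)) :=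
    h2 Submodule.mem_top
  obtain ⟨c, hc⟩ := (Submodule.mem_span_range_iff_exists_fun R).mp h3
  set s : R[X] := ∑ i : Fin n', C (c i) * X ^ (i : ℕ) with hs
  have hsdeg : s.degree < n' := degree_sum_fin_lt c
  have hmonic : (X ^ n' - s).Monic :=
    (monic_X_pow n').sub_of_left (by rwa [degree_X_pow])
  refine ⟨X ^ n' - s, hmonic, ?_, ?_⟩
  · have : (X ^ n' - s).degree = (n' : WithBot ℕ) := by
      rw [degree_sub_eq_left_of_degree_lt (by rwa [degree_X_pow]), degree_X_pow]
    exact natDegree_eq_of_degree_eq_some this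
  · rw [map_sub, map_pow, aeval_X, hs, map_sum, ← hc, sub_eq_zero]
    refine Finset.sum_congr rfl fun i _ => ?_
    rw [map_mul, aeval_C, map_pow, aeval_X, Algebra.smul_def]

end Groth.Agent.Helper7.Hensel.NonMonic
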