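import Mathlib

/-!
# The quasi-finite points of a fibre
-/

namespace Groth.Agent.Helper7.Hensel

universe u v

/-- For a finite type algebra, the set of primes over a given prime at which the algebra is
quasi-finite is finite. -/
theorem finite_quasiFiniteAt_over {R : Type u} {S : Type v} [CommRing R] [CommRing S]
    [Algebra R S] [Algebra.FiniteType R S] (p : PrimeSpectrum R) :
    {q : PrimeSpectrum S | q ∈ PrimeSpectrum.comap (algebraMap R S) ⁻¹' {p} ∧
      Algebra.QuasiFiniteAt R q.asIdeal}.Finite := by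
  have hN : IsNoetherianRing (p.asIdeal.Fiber S) :=
    Algebra.FiniteType.isNoetherianRing p.asIdeal.ResidueField _
  have hNS : TopologicalSpace.NoetherianSpace
      (PrimeSpectrum.comap (algebraMap R S) ⁻¹' {p}) :=
    (TopologicalSpace.noetherianSpace_iff_of_homeomorph
      (PrimeSpectrum.preimageHomeomorphFiber R S p)).mpr inferInstance
  have hcomp : IsCompact {q : PrimeSpectrum S | q ∈ PrimeSpectrum.comap (algebraMap R S) ⁻¹' {p} ∧
      Algebra.QuasiFiniteAt R q.asIdeal} :=
    (TopologicalSpace.noetherianSpace_set_iff _).mp hNS _ (fun q hq => hq.1)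
  refine hcomp.finite (isDiscrete_iff_forall_mem_exists_isOpen.mpr ?_)
  rintro q ⟨hqp, hqf⟩
  have hlies : q.asIdeal.LiesOver p.asIdeal := ⟨by
    have := congrArg PrimeSpectrum.asIdeal (Set.mem_singleton_iff.mp hqp)
    exact this.symm⟩
  obtain ⟨s, hsq, hs⟩ := Ideal.exists_not_mem_forall_mem_of_ne_of_liesOver p.asIdeal q.asIdeal
  refine ⟨PrimeSpectrum.basicOpen s, (PrimeSpectrum.basicOpen s).isOpen, ?_⟩
  ext q'
  simp only [Set.mem_inter_iff, Set.mem_ofPred_eq, Set.mem_singleton_iff]
  constructor
  · rintro ⟨hq's, hq'p, -⟩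
    by_contra hne
    have hlies' : q'.asIdeal.LiesOver p.asIdeal := ⟨by
      have := congrArg PrimeSpectrum.asIdeal (Set.mem_singleton_iff.mp hq'p)
      exact this.symm⟩
    exact hq's (hs q'.asIdeal q'.isPrime (fun h => hne (PrimeSpectrum.ext h)) hlies')
  · rintro rfl
    exact ⟨hsq, hqp, hqf⟩

/-- Quasi-finiteness at a prime of the quotient by an idempotent implies quasi-finiteness at
the corresponding prime. -/
theorem quasiFiniteAt_comap_of_idempotent {R : Type u} {S : Type v} [CommRing R] [CommRing S]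
    [Algebra R S] (e : S) (he : IsIdempotentElem e) (N : Ideal (S ⧸ Ideal.span {e})) [N.IsPrime]
    [hN : Algebra.QuasiFiniteAt R N] (q : Ideal S) [q.IsPrime]
    (hq : q = N.comap (Ideal.Quotient.mk (Ideal.span {e}))) :
    Algebra.QuasiFiniteAt R q := by
  have heq : e ∈ q := by
    rw [hq, Ideal.mem_comap, Ideal.Quotient.eq_zero_iff_mem.mpr (Ideal.mem_span_singleton_self e)]
    exact N.zero_mem
  have h1e : 1 - e ∉ q := fun h => by
    apply (inferInstance : q.IsPrime).ne_top
    rw [Ideal.eq_top_iff_one]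
    have := q.add_mem heq h
    simpa using this
  have hzero : algebraMap S (Localization.AtPrime q) e = 0 := by
    rw [IsLocalization.map_eq_zero_iff q.primeCompl]
    exact ⟨⟨1 - e, h1e⟩, by simp [sub_mul, he.eq]⟩
  let g : S ⧸ Ideal.span {e} →ₐ[R] Localization.AtPrime q :=
    Ideal.Quotient.liftₐ (Ideal.span {e}) (IsScalarTower.toAlgHom R S (Localization.AtPrime q))
      (fun a ha => by
        obtain ⟨c, rfl⟩ := Ideal.mem_span_singleton'.mp ha
        simp [hzero])
  have hg : ∀ x : S, g (Ideal.Quotient.mk _ x) = algebraMap S (Localization.AtPrime q) x :=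
    fun x => rfl
  let f : Localization.AtPrime N →ₐ[R] Localization.AtPrime q :=
    IsLocalization.liftAlgHom (M := N.primeCompl) (f := g) (by
      rintro ⟨y, hy⟩
      obtain ⟨x, rfl⟩ := Ideal.Quotient.mk_surjective y
      show IsUnit (g (Ideal.Quotient.mk _ x))
      rw [hg]
      refine IsLocalization.map_units (M := q.primeCompl) _ ⟨x, ?_⟩
      intro hx
      apply hy
      rw [hq] at hx
      exact hx)
  have hf : ∀ y, f (algebraMap _ _ y) = g y := fun y => IsLocalization.lift_eq _ y
  refine Algebra.QuasiFinite.of_forall_exists_mul_mem_range f fun x => ?_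
  obtain ⟨x, ⟨s, hs⟩, rfl⟩ := IsLocalization.exists_mk'_eq q.primeCompl x
  refine ⟨algebraMap _ _ (Ideal.Quotient.mk (Ideal.span {e}) s), ?_,
    algebraMap _ _ (Ideal.Quotient.mk (Ideal.span {e}) x), ?_⟩
  · rw [hf, hg]
    exact IsLocalization.map_units (M := q.primeCompl) _ ⟨s, hs⟩
  · show f (algebraMap _ _ (Ideal.Quotient.mk (Ideal.span {e}) x)) = _
    rw [hf, hg, hf, hg, IsLocalization.mk'_spec_mk]

end Groth.Agent.Helper7.Hensel
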