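import Mathlib
import Groth.Agent.Lib.Helper7.Hensel.NonMonicA
import Groth.Agent.Lib.Helper7.Hensel.QuasiFiniteSplit
import Groth.Agent.Lib.Helper7.Hensel.QuasiFiniteLocus
import Groth.Agent.Lib.Helper7.Hensel.Factor
import Groth.Agent.Lib.Helper7.Hensel.Local
import Groth.Agent.Lib.Helper7.Hensel.IdemLift

/-! helper7: the closed fibre of `R[X]/(f)` over a local ring is artinian when the reduction of `f` is nonzero; quasi-finiteness at its points -/

open Polynomial

namespace Groth.Agent.Helper7.Hensel.NonMonic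

universe u

theorem isArtinianRing_quot {R : Type u} [CommRing R] [IsLocalRing R] (f : R[X])
    (hf : f.map (IsLocalRing.residue R) ≠ 0) :
    IsArtinianRing (AdjoinRoot f ⧸ (IsLocalRing.maximalIdeal R).map (algebraMap R (AdjoinRoot f))) := by
  set m := IsLocalRing.maximalIdeal R
  let _ : Field (R ⧸ m) := Ideal.Quotient.field _
  have hf' : f.map (Ideal.Quotient.mk m) ≠ 0 := hf
  have hfin0 : Module.Finite (R ⧸ m) (AdjoinRoot (f.map (Ideal.Quotient.mk m))) :=
    (AdjoinRoot.powerBasis hf').finite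
  have hfin1 : Module.Finite R (AdjoinRoot (f.map (Ideal.Quotient.mk m))) :=
    Module.Finite.trans (R ⧸ m) _
  have hfin1' : Module.Finite R
      ((R ⧸ m)[X] ⧸ Ideal.span ({f.map (Ideal.Quotient.mk m)} : Set (R ⧸ m)[X])) := hfin1
  have e := AdjoinRoot.quotEquivQuotMap f m
  have hfin2 : Module.Finite R (AdjoinRoot f ⧸ m.map (algebraMap R (AdjoinRoot f))) :=
    Module.Finite.equiv e.symm.toLinearEquiv
  have hfin3 : Module.Finite (R ⧸ m) (AdjoinRoot f ⧸ m.map (algebraMap R (AdjoinRoot f))) :=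
    Module.Finite.of_restrictScalars_finite R _ _
  exact IsArtinianRing.of_finite (R ⧸ m) _

theorem quasiFiniteAt_of_map_ne_zero {R : Type u} [CommRing R] [IsLocalRing R] (f : R[X])
    (hf : f.map (IsLocalRing.residue R) ≠ 0) (q : PrimeSpectrum (AdjoinRoot f))
    (hq : q.comap (algebraMap R (AdjoinRoot f)) = IsLocalRing.closedPoint R) :
    Algebra.QuasiFiniteAt R q.asIdeal := by
  set m := IsLocalRing.maximalIdeal R
  set J : Ideal (AdjoinRoot f) := m.map (algebraMap R (AdjoinRoot f)) with hJ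
  have hart : IsArtinianRing (AdjoinRoot f ⧸ J) := isArtinianRing_quot f hf
  have hsurj : Function.Surjective (Ideal.Quotient.mk J) := Ideal.Quotient.mk_surjective
  have hemb := PrimeSpectrum.isClosedEmbedding_comap_of_surjective (AdjoinRoot f ⧸ J)
    (Ideal.Quotient.mk J) hsurj
  have hrange : Set.range (PrimeSpectrum.comap (Ideal.Quotient.mk J)) =
      PrimeSpectrum.zeroLocus (J : Set (AdjoinRoot f)) := by
    rw [range_comap_of_surjective _ _ hsurj, Ideal.mk_ker]
  have hmem : ∀ q' : PrimeSpectrum (AdjoinRoot f),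
      q'.comap (algebraMap R (AdjoinRoot f)) = q.comap (algebraMap R (AdjoinRoot f)) →
      q' ∈ Set.range (PrimeSpectrum.comap (Ideal.Quotient.mk J)) := by
    intro q' hq'
    rw [hrange, PrimeSpectrum.mem_zeroLocus, SetLike.coe_subset_coe, hJ,
      Ideal.map_le_iff_le_comap]
    have := congrArg PrimeSpectrum.asIdeal (hq'.trans hq)
    exact this.ge
  obtain ⟨qb, hqb⟩ := hmem q rfl
  have hopen : IsOpen ({qb} : Set (PrimeSpectrum (AdjoinRoot f ⧸ J))) := isOpen_discrete _
  obtain ⟨U, hU, hUq⟩ := hemb.isInducing.isOpen_iff.mp hopen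
  apply Algebra.QuasiFiniteAt.of_isOpen_singleton_fiber q
  rw [isOpen_induced_iff]
  refine ⟨U, hU, ?_⟩
  ext ⟨q', hq'⟩
  simp only [Set.mem_preimage, Set.mem_singleton_iff, Subtype.mk.injEq]
  constructor
  · intro hq'U
    obtain ⟨qb', rfl⟩ := hmem q' hq'
    have h1 : qb' ∈ PrimeSpectrum.comap (Ideal.Quotient.mk J) ⁻¹' U := hq'U
    rw [hUq] at h1
    rw [Set.mem_singleton_iff.mp h1, hqb]
  · rintro rfl
    have h1 : qb ∈ PrimeSpectrum.comap (Ideal.Quotient.mk J) ⁻¹' U := by rw [hUq]; rfl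
    rw [← hqb]; exact h1

theorem map_mk' {R S : Type*} [CommRing R] [CommRing S] (i : R →+* S) (p : R[X]) (q : S[X])
    (h : q ∣ p.map i) (r : R[X]) :
    AdjoinRoot.map i p q h (AdjoinRoot.mk p r) = AdjoinRoot.mk q (r.map i) := by
  induction r using Polynomial.induction_on' with
  | add r₁ r₂ h₁ h₂ => rw [map_add, map_add, h₁, h₂, Polynomial.map_add, map_add]
  | monomial n a =>
    rw [← C_mul_X_pow_eq_monomial]
    simp only [map_mul, map_pow, Polynomial.map_mul, Polynomial.map_pow, map_C, map_X,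
      AdjoinRoot.mk_X, AdjoinRoot.mk_C, AdjoinRoot.map_root, AdjoinRoot.map_of]

/-- The idempotent splitting off the finite part of `R[X]/(f)` reduces to `1` in the closed
fibre. -/
theorem map_dvd_one_sub {R : Type u} [CommRing R] [IsLocalRing R] (f : R[X])
    (hfb : f.map (IsLocalRing.residue R) ≠ 0)
    (F : Finset (PrimeSpectrum (AdjoinRoot f)))
    (hFmem : ∀ q : PrimeSpectrum (AdjoinRoot f),
      q.comap (algebraMap R (AdjoinRoot f)) = IsLocalRing.closedPoint R →
      Algebra.QuasiFiniteAt R q.asIdeal → q ∈ F)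
    (e : AdjoinRoot f) (he : IsIdempotentElem e)
    (hF : ∀ q ∈ F, (IsLocalRing.maximalIdeal R).map (algebraMap R (AdjoinRoot f)) ≤ q.asIdeal →
        e ∉ q.asIdeal)
    (et : R[X]) (het : AdjoinRoot.mk f et = e) :
    f.map (IsLocalRing.residue R) ∣ 1 - et.map (IsLocalRing.residue R) := by
  set res := IsLocalRing.residue R with hres
  let ρ : AdjoinRoot f →+* AdjoinRoot (f.map res) := AdjoinRoot.map res f (f.map res) dvd_rfl
  have hε : IsIdempotentElem (ρ e) := he.map ρ
  have hunit : IsUnit (ρ e) := by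
    by_contra hnu
    obtain ⟨M, hM, hεM⟩ := exists_max_ideal_of_mem_nonunits hnu
    have hMp : M.IsPrime := hM.isPrime
    let q : PrimeSpectrum (AdjoinRoot f) := ⟨M.comap ρ, Ideal.comap_isPrime _ _⟩
    have hmq : (IsLocalRing.maximalIdeal R).map (algebraMap R (AdjoinRoot f)) ≤ q.asIdeal := by
      rw [Ideal.map_le_iff_le_comap]
      intro r hr
      change ρ (algebraMap R (AdjoinRoot f) r) ∈ M
      have h0 : ρ (algebraMap R (AdjoinRoot f) r) = 0 := by
        rw [AdjoinRoot.algebraMap_eq]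
        change AdjoinRoot.map res f (f.map res) dvd_rfl (AdjoinRoot.of f r) = 0
        rw [AdjoinRoot.map_of, (IsLocalRing.residue_eq_zero_iff r).mpr hr, map_zero]
      rw [h0]; exact M.zero_mem
    have hqc : q.comap (algebraMap R (AdjoinRoot f)) = IsLocalRing.closedPoint R := by
      ext1
      have hp : (q.asIdeal.comap (algebraMap R (AdjoinRoot f))).IsPrime :=
        Ideal.comap_isPrime _ _
      exact ((IsLocalRing.maximalIdeal.isMaximal R).eq_of_le hp.ne_top
        (Ideal.map_le_iff_le_comap.mp hmq)).symm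
    have hqF : q ∈ F := hFmem q hqc (quasiFiniteAt_of_map_ne_zero f hfb q hqc)
    exact hF q hqF hmq hεM
  have hε1 : ρ e = 1 := by
    have h1 := hε.eq
    exact (IsUnit.mul_right_inj hunit).mp (by rw [h1, mul_one])
  have h2 : AdjoinRoot.mk (f.map res) (1 - et.map res) = 0 := by
    rw [map_sub, map_one, ← map_mk' res f (f.map res) dvd_rfl et, het]
    change 1 - ρ e = 0
    rw [hε1, sub_self]
  exact AdjoinRoot.mk_eq_zero.mp h2

end Groth.Agent.Helper7.Hensel.NonMonic
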