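import Mathlib
import Groth.Agent.Lib.Helper7.Hensel.NonMonicB

/-! helper7: over a henselian local ring a factorisation of the reduction of an arbitrary polynomial into a monic factor and a coprime factor lifts, with the monic factor staying monic -/

open Polynomial

namespace Groth.Agent.Helper7.Hensel.NonMonic

universe u

theorem exists_factorization_of_henselian (R : Type u) [CommRing R] [HenselianLocalRing R]
    (f : R[X]) (g₀ h₀ : (IsLocalRing.ResidueField R)[X]) (hg : g₀.Monic)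
    (hc : IsCoprime g₀ h₀) (hf : f.map (IsLocalRing.residue R) = g₀ * h₀) :
    ∃ g h : R[X], f = g * h ∧ g.Monic ∧ g.map (IsLocalRing.residue R) = g₀ ∧
      h.map (IsLocalRing.residue R) = h₀ := by
  classical
  set res := IsLocalRing.residue R with hres
  by_cases hd : g₀.natDegree = 0
  · have h1 : g₀ = 1 := hg.natDegree_eq_zero.mp hd
    exact ⟨1, f, by simp, monic_one, by simp [h1], by simpa [h1] using hf⟩
  have hg0 : g₀ ≠ 0 := hg.ne_zero
  have hh0 : h₀ ≠ 0 := by
    rintro rfl
    have h1 : IsUnit g₀ := isCoprime_zero_right.mp hc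
    exact hd (natDegree_eq_zero_of_isUnit h1)
  have hfb : f.map res ≠ 0 := by rw [hf]; exact mul_ne_zero hg0 hh0
  have hfinF := finite_quasiFiniteAt_over (R := R) (S := AdjoinRoot f) (IsLocalRing.closedPoint R)
  obtain ⟨e, he, hfin, hF⟩ := exists_idempotent_split R (AdjoinRoot f) hfinF.toFinset
    (fun q hq => ((Set.Finite.mem_toFinset _).mp hq).2)
  set I₁ : Ideal (AdjoinRoot f) := Ideal.span {1 - e} with hI₁
  set x₁ : AdjoinRoot f ⧸ I₁ := Ideal.Quotient.mk I₁ (AdjoinRoot.root f) with hx₁def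
  have haev : ∀ q : R[X], aeval x₁ q = Ideal.Quotient.mk I₁ (AdjoinRoot.mk f q) := by
    intro q
    rw [← AdjoinRoot.aeval_eq]
    exact aeval_algHom_apply (Ideal.Quotient.mkₐ R I₁) (AdjoinRoot.root f) q
  have hx₁ : aeval x₁ f = 0 := by rw [haev, AdjoinRoot.mk_self, map_zero]
  have hsurj₁ : Function.Surjective (aeval (R := R) x₁) := by
    intro a
    obtain ⟨s, rfl⟩ := Ideal.Quotient.mk_surjective a
    obtain ⟨q, rfl⟩ := AdjoinRoot.mk_surjective s
    exact ⟨q, haev q⟩
  obtain ⟨p, hpm, hpd, hpx⟩ := exists_monic_aeval_eq_zero f hfb x₁ hx₁ hsurj₁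
  have hp1 : AdjoinRoot.mk f p ∈ I₁ := by
    rw [haev] at hpx
    exact Ideal.Quotient.eq_zero_iff_mem.mp hpx
  obtain ⟨et, het⟩ := AdjoinRoot.mk_surjective e
  obtain ⟨s, hs⟩ := Ideal.mem_span_singleton'.mp hp1
  obtain ⟨b, rfl⟩ := AdjoinRoot.mk_surjective s
  have h2 : f ∣ p - b * (1 - et) := by
    rw [← AdjoinRoot.mk_eq_zero, map_sub, map_mul, map_sub, map_one, het, hs, sub_self]
  obtain ⟨a, ha⟩ := h2
  have h3 : f ∣ et * et - et := by
    rw [← AdjoinRoot.mk_eq_zero, map_sub, map_mul, het, he.eq, sub_self]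
  obtain ⟨c, hc'⟩ := h3
  have hK : f.map res ∣ 1 - et.map res :=
    map_dvd_one_sub f hfb hfinF.toFinset
      (fun q hq1 hq2 => (Set.Finite.mem_toFinset _).mpr ⟨hq1, hq2⟩) e he hF et het
  have hpeq : p = f * a + b * (1 - et) := by linear_combination ha
  -- the reduction of `p`
  set lc := (f.map res).leadingCoeff with hlcdef
  have hlc : lc ≠ 0 := leadingCoeff_ne_zero.mpr hfb
  set f₁ := C lc⁻¹ * f.map res with hf₁
  have hf₁m : f₁.Monic := by
    rw [hf₁, mul_comm]
    exact monic_mul_leadingCoeff_inv hfb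
  have hf₁d : f₁.natDegree = (f.map res).natDegree := by
    rw [hf₁, natDegree_C_mul (inv_ne_zero hlc)]
  have hpb : p.map res = f₁ := by
    have h1 : f.map res ∣ p.map res := by
      rw [hpeq]
      simp only [Polynomial.map_add, Polynomial.map_mul, Polynomial.map_sub, Polynomial.map_one]
      exact dvd_add (dvd_mul_right _ _) (Dvd.dvd.mul_left hK _)
    have h2 : f₁ ∣ f.map res := by
      refine ⟨C lc, ?_⟩
      rw [hf₁, mul_comm (C lc⁻¹), mul_assoc, ← C_mul, inv_mul_cancel₀ hlc, C_1, mul_one]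
    refine eq_of_monic_of_dvd_of_natDegree_le hf₁m (hpm.map res) (h2.trans h1) ?_
    rw [hpm.natDegree_map, hpd, hf₁d]
  have hlceq : lc = h₀.leadingCoeff := by
    rw [hlcdef, hf, leadingCoeff_mul, hg.leadingCoeff, one_mul]
  set h₁ := C lc⁻¹ * h₀ with hh₁
  have hh₁m : h₁.Monic := by
    rw [hh₁, mul_comm, hlceq]
    exact monic_mul_leadingCoeff_inv hh0
  have hf₁eq : f₁ = g₀ * h₁ := by rw [hf₁, hh₁, hf]; ring
  have hunitC : IsUnit (C lc⁻¹ : (IsLocalRing.ResidueField R)[X]) :=
    isUnit_C.mpr (IsUnit.mk0 _ (inv_ne_zero hlc))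
  have hcop₁ : IsCoprime g₀ h₁ := (isCoprime_mul_unit_left_right hunitC g₀ h₀).mpr hc
  have hG := Gabber.of_henselianLocalRing R
  obtain ⟨g, h', hgm, hh'm, hcop, hpgh, hgb, hh'b⟩ :=
    hG.exists_factorization p hpm g₀ h₁ hg hh₁m hcop₁ (hpb.trans hf₁eq)
  have hgb' : g.map res = g₀ := hgb
  have hh'b' : h'.map res = h₁ := hh'b
  have hid : et * g * h' = (a * et - b * c) * f := by
    rw [mul_assoc, ← hpgh, hpeq]
    linear_combination (-b) * hc'
  set w := a * et - b * c with hw
  clear_value w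
  have hidb : et.map res * g₀ * h₁ = w.map res * (g₀ * h₀) := by
    have := congrArg (Polynomial.map res) hid
    simpa only [Polynomial.map_mul, hgb', hh'b', hf] using this
  have hcancel : et.map res * h₁ = w.map res * h₀ := by
    apply mul_left_cancel₀ hg0
    linear_combination hidb
  have hcop_et : IsCoprime g₀ (et.map res) := by
    obtain ⟨t, ht⟩ := hK
    rw [hf] at ht
    exact ⟨h₀ * t, 1, by linear_combination (-1 : (IsLocalRing.ResidueField R)[X]) * ht⟩
  have hcop_w : IsCoprime (w.map res) g₀ := by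
    have h1 : IsCoprime g₀ (et.map res * h₁) := hcop_et.mul_right hcop₁
    rw [hcancel] at h1
    exact h1.of_mul_right_left.symm
  obtain ⟨ub, vb, huv⟩ := hcop_w
  obtain ⟨ut, rfl⟩ := map_surjective res IsLocalRing.residue_surjective ub
  obtain ⟨vt, rfl⟩ := map_surjective res IsLocalRing.residue_surjective vb
  set μ := ut * w + vt * g - 1 with hμ
  clear_value μ
  have hμ0 : μ.map res = 0 := by
    rw [hμ, Polynomial.map_sub, Polynomial.map_add, Polynomial.map_mul, Polynomial.map_mul,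
      Polynomial.map_one, hgb', huv, sub_self]
  have hμc : ∀ i, μ.coeff i ∈ IsLocalRing.maximalIdeal R := by
    intro i
    have := congrArg (fun p => p.coeff i) hμ0
    simp only [coeff_map, coeff_zero] at this
    exact (IsLocalRing.residue_eq_zero_iff _).mp this
  have hfinT : Module.Finite R (AdjoinRoot g) := hgm.finite_adjoinRoot
  have hintT : Algebra.IsIntegral R (AdjoinRoot g) := Algebra.IsIntegral.of_finite R _
  have hjac : (IsLocalRing.maximalIdeal R).map (algebraMap R (AdjoinRoot g)) ≤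
      Ideal.jacobson ⊥ :=
    map_le_jacobson_of_isIntegral (IsLocalRing.maximalIdeal_le_jacobson _)
  have hμT : AdjoinRoot.mk g μ ∈ (IsLocalRing.maximalIdeal R).map
      (algebraMap R (AdjoinRoot g)) := by
    rw [← AdjoinRoot.aeval_eq]
    exact aeval_mem_map_of_coeff_mem _ _ μ hμc
  have hunitw : IsUnit (AdjoinRoot.mk g w) := by
    have h1 : AdjoinRoot.mk g ut * AdjoinRoot.mk g w - 1 = AdjoinRoot.mk g μ := by
      rw [hμ, map_sub, map_add, map_mul, map_mul, AdjoinRoot.mk_self, mul_zero, add_zero,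
        map_one]
    have h2 : IsUnit (AdjoinRoot.mk g ut * AdjoinRoot.mk g w) :=
      isUnit_of_sub_one_mem hjac _ (h1 ▸ hμT)
    exact isUnit_of_mul_isUnit_right h2
  have hgf : g ∣ f := by
    rw [← AdjoinRoot.mk_eq_zero]
    have h1 : AdjoinRoot.mk g w * AdjoinRoot.mk g f = 0 := by
      rw [← map_mul, ← hid, map_mul, map_mul, AdjoinRoot.mk_self, mul_zero, zero_mul]
    exact (hunitw.mul_right_eq_zero).mp h1
  obtain ⟨h, hh⟩ := hgf
  refine ⟨g, h, hh, hgm, hgb', ?_⟩
  apply mul_left_cancel₀ hg0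
  rw [← hf, hh, Polynomial.map_mul, hgb']

end Groth.Agent.Helper7.Hensel.NonMonic
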