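import Mathlib

/-!
# `A[T₁,…,Tₙ]/(P₁,…,Pₙ)` localised at the Jacobian determinant is étale
-/

open MvPolynomial

namespace Groth.Agent.Helper7.Hensel

universe u

section

variable {A : Type u} [CommRing A] {ι : Type} [Fintype ι] [DecidableEq ι]
  (P : ι → MvPolynomial ι A)

/-- The Jacobian determinant of a square system of polynomials. -/
noncomputable def jacDet : MvPolynomial ι A :=
  Matrix.det (Matrix.of fun i j : ι => (P j).pderiv i)

/-- The quotient `A[T]/(P)`. -/
abbrev JacQuot : Type u := MvPolynomial ι A ⧸ Ideal.span (Set.range P)

/-- The image of the Jacobian determinant in `A[T]/(P)`. -/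
noncomputable def jacDetQuot : JacQuot P := Ideal.Quotient.mk _ (jacDet P)

theorem naive_jacobian :
    (Algebra.PreSubmersivePresentation.naive (R := A) (v := P) id Function.injective_id).jacobian
      = jacDetQuot P := by
  rw [Algebra.PreSubmersivePresentation.jacobian_eq_jacobiMatrix_det]
  have : (Algebra.PreSubmersivePresentation.naive (R := A) (v := P) id
      Function.injective_id).jacobiMatrix = Matrix.of fun i j : ι => (P j).pderiv i := by
    ext i j : 2
    rw [Algebra.PreSubmersivePresentation.jacobiMatrix_naive]
    rfl
  rw [this]
  rfl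

theorem etale_away_jacDet (S : Type u) [CommRing S] [Algebra (JacQuot P) S] [Algebra A S]
    [IsScalarTower A (JacQuot P) S] [IsLocalization.Away (jacDetQuot P) S] :
    Algebra.Etale A S := by
  rw [Algebra.Etale.iff_isStandardSmoothOfRelativeDimension_zero]
  let P₁ := Algebra.PreSubmersivePresentation.naive (R := A) (v := P) id Function.injective_id
  let P₂ := Algebra.PreSubmersivePresentation.localizationAway S (jacDetQuot P)
  let P₃ := P₂.comp P₁
  have hjac : IsUnit P₃.jacobian := by
    rw [Algebra.PreSubmersivePresentation.comp_jacobian_eq_jacobian_smul_jacobian,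
      Algebra.smul_def, IsUnit.mul_iff]
    constructor
    · rw [naive_jacobian]
      exact IsLocalization.Away.algebraMap_isUnit _
    · rw [Algebra.PreSubmersivePresentation.localizationAway_jacobian]
      exact IsLocalization.Away.algebraMap_isUnit _
  let P₄ : Algebra.SubmersivePresentation A S _ _ := ⟨P₃, hjac⟩
  apply P₄.isStandardSmoothOfRelativeDimension
  simp [Algebra.Presentation.dimension]

end

end Groth.Agent.Helper7.Hensel
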