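import Mathlib

/-!
# Solutions of polynomial systems and algebra maps out of the quotient algebra
-/

namespace Groth.Agent.Helper7.Hensel

variable {R : Type*} [CommRing R] {σ : Type*} (P : σ → MvPolynomial σ R)
  (B : Type*) [CommRing B] [Algebra R B]

/-- The algebra map out of `R[X]/(P)` attached to a solution of the system `P`. -/
noncomputable def solHom (b : σ → B) (hb : ∀ i, MvPolynomial.aeval b (P i) = 0) :
    (MvPolynomial σ R ⧸ Ideal.span (Set.range P)) →ₐ[R] B :=
  Ideal.Quotient.liftₐ _ (MvPolynomial.aeval b) (by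
    intro a ha
    have hle : Ideal.span (Set.range P) ≤
        RingHom.ker (MvPolynomial.aeval b : MvPolynomial σ R →ₐ[R] B).toRingHom :=
      Ideal.span_le.mpr (by rintro _ ⟨i, rfl⟩; exact hb i)
    exact hle ha)

@[simp]
theorem solHom_mk (b : σ → B) (hb : ∀ i, MvPolynomial.aeval b (P i) = 0)
    (p : MvPolynomial σ R) :
    solHom P B b hb (Ideal.Quotient.mk _ p) = MvPolynomial.aeval b p := rfl

variable {P B}

theorem aeval_of_algHom (f : (MvPolynomial σ R ⧸ Ideal.span (Set.range P)) →ₐ[R] B)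
    (p : MvPolynomial σ R) :
    MvPolynomial.aeval (fun i => f (Ideal.Quotient.mk _ (MvPolynomial.X i))) p
      = f (Ideal.Quotient.mk _ p) := by
  have : MvPolynomial.aeval (fun i => f (Ideal.Quotient.mk _ (MvPolynomial.X i)))
      = f.comp (Ideal.Quotient.mkₐ R (Ideal.span (Set.range P))) := by
    apply MvPolynomial.algHom_ext
    intro i
    simp
  rw [this]
  rfl

theorem aeval_of_algHom_eq_zero (f : (MvPolynomial σ R ⧸ Ideal.span (Set.range P)) →ₐ[R] B)
    (i : σ) :
    MvPolynomial.aeval (fun i => f (Ideal.Quotient.mk _ (MvPolynomial.X i))) (P i) = 0 := by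
  have hmem : P i ∈ Ideal.span (Set.range P) := Ideal.subset_span ⟨i, rfl⟩
  rw [aeval_of_algHom, Ideal.Quotient.eq_zero_iff_mem.mpr hmem, map_zero]

theorem algHom_ext_of_X {f g : (MvPolynomial σ R ⧸ Ideal.span (Set.range P)) →ₐ[R] B}
    (h : ∀ i, f (Ideal.Quotient.mk _ (MvPolynomial.X i)) = g (Ideal.Quotient.mk _ (MvPolynomial.X i))) :
    f = g := by
  apply Ideal.Quotient.algHom_ext
  apply MvPolynomial.algHom_ext
  intro i
  exact h i

end Groth.Agent.Helper7.Hensel
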