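import Mathlib
import Groth.Agent.Lib.Helper7.Hensel.JacobianEtale
import Groth.Agent.Lib.Helper7.Hensel.MvSolutions
import Groth.Agent.Lib.Helper7.Hensel.EtaleLift

/-!
# Multivariate Hensel lemma for henselian pairs
-/

open MvPolynomial

namespace Groth.Agent.Helper7.Hensel

universe u

theorem aeval_mk_comp {A : Type u} [CommRing A] (I : Ideal A) {ι : Type*} (a₀ : ι → A)
    (p : MvPolynomial ι A) :
    MvPolynomial.aeval (fun i => Ideal.Quotient.mk I (a₀ i)) p
      = Ideal.Quotient.mk I (MvPolynomial.eval a₀ p) := by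
  have : (MvPolynomial.aeval (fun i => Ideal.Quotient.mk I (a₀ i)) : MvPolynomial ι A →ₐ[A] A ⧸ I)
      = (Ideal.Quotient.mkₐ A I).comp (MvPolynomial.aeval a₀) := by
    apply MvPolynomial.algHom_ext
    intro i
    simp
  rw [this]
  rfl

theorem Gabber.exists_solution {A : Type u} [CommRing A] {I : Ideal A} (hG : Gabber A I)
    {ι : Type} [Fintype ι] [DecidableEq ι] (P : ι → MvPolynomial ι A) (a₀ : ι → A)
    (h₀ : ∀ i, MvPolynomial.eval a₀ (P i) ∈ I)
    (hJ : IsUnit (Ideal.Quotient.mk I (MvPolynomial.eval a₀ (jacDet P)))) :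
    ∃ a : ι → A, (∀ i, MvPolynomial.eval a (P i) = 0) ∧ ∀ j, a j - a₀ j ∈ I := by
  set b₀ : ι → A ⧸ I := fun i => Ideal.Quotient.mk I (a₀ i) with hb₀def
  have hb₀ : ∀ i, MvPolynomial.aeval b₀ (P i) = 0 := by
    intro i
    rw [hb₀def, aeval_mk_comp, Ideal.Quotient.eq_zero_iff_mem]
    exact h₀ i
  set s₀ : JacQuot P →ₐ[A] A ⧸ I := solHom P (A ⧸ I) b₀ hb₀ with hs₀
  have hs₀Δ : s₀ (jacDetQuot P) = Ideal.Quotient.mk I (MvPolynomial.eval a₀ (jacDet P)) := by
    rw [hs₀, jacDetQuot, solHom_mk, hb₀def, aeval_mk_comp]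
  have hEt : Algebra.Etale A (Localization.Away (jacDetQuot P)) :=
    etale_away_jacDet P (Localization.Away (jacDetQuot P))
  have hunit : ∀ y : Submonoid.powers (jacDetQuot P), IsUnit (s₀ (y : JacQuot P)) := by
    rintro ⟨_, n, rfl⟩
    rw [map_pow, hs₀Δ]
    exact hJ.pow n
  let s : Localization.Away (jacDetQuot P) →ₐ[A] A ⧸ I :=
    IsLocalization.liftAlgHom (M := Submonoid.powers (jacDetQuot P)) (f := s₀) hunit
  have hs : ∀ x : JacQuot P, s (algebraMap (JacQuot P) (Localization.Away (jacDetQuot P)) x)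
      = s₀ x := fun x => IsLocalization.lift_eq _ x
  obtain ⟨τ, hτ⟩ := hG.exists_lift_of_etale (Localization.Away (jacDetQuot P)) s
  set t₀ : JacQuot P →ₐ[A] A :=
    τ.comp (IsScalarTower.toAlgHom A (JacQuot P) (Localization.Away (jacDetQuot P))) with ht₀
  refine ⟨fun i => t₀ (Ideal.Quotient.mk _ (MvPolynomial.X i)), ?_, ?_⟩
  · intro i
    have := aeval_of_algHom_eq_zero (P := P) t₀ i
    rw [MvPolynomial.aeval_eq_eval] at this
    exact this
  · intro j
    rw [← Ideal.Quotient.eq]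
    have h1 : Ideal.Quotient.mk I (t₀ (Ideal.Quotient.mk _ (MvPolynomial.X j)))
        = s (algebraMap (JacQuot P) (Localization.Away (jacDetQuot P))
          (Ideal.Quotient.mk _ (MvPolynomial.X j))) := by
      rw [← hτ]
      rfl
    rw [h1, hs, hs₀, solHom_mk, MvPolynomial.aeval_X]

end Groth.Agent.Helper7.Hensel
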