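import Groth.Agent.Lib.Helper7.Hensel.EtaleLift
import Groth.Agent.Lib.Helper7.Hensel.Integral
import Groth.Agent.Lib.Helper7.Hensel.Local

/-!
# Homomorphisms of finite étale algebras over a henselian pair
-/

open TensorProduct

namespace Groth.Agent.Helper7.Hensel

universe u

theorem Gabber.bijective_map_of_finite_etale {A : Type u} [CommRing A] {I : Ideal A}
    (hG : Gabber A I) (B₁ B₂ : Type u) [CommRing B₁] [CommRing B₂] [Algebra A B₁] [Algebra A B₂]
    [Algebra.Etale A B₁] [Module.Finite A B₂] :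
    Function.Bijective (fun φ : B₁ →ₐ[A] B₂ =>
      Algebra.TensorProduct.map (AlgHom.id (A ⧸ I) (A ⧸ I)) φ) := by
  have hint : Algebra.IsIntegral A B₂ := inferInstance
  let e₂ := Algebra.TensorProduct.quotIdealMapEquivQuotTensor B₂ I
  constructor
  · intro φ₁ φ₂ h
    apply algHom_eq_of_formallyUnramified (I.map (algebraMap A B₂))
      (map_le_jacobson_of_isIntegral hG.1)
    intro x
    have h1 := AlgHom.congr_fun h ((1 : A ⧸ I) ⊗ₜ[A] x)
    simp only [Algebra.TensorProduct.map_tmul, AlgHom.coe_id, id_eq] at h1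
    rw [← Ideal.Quotient.eq]
    apply e₂.injective
    exact h1
  · intro ψ
    let ψ' : B₁ →ₐ[A] B₂ ⧸ I.map (algebraMap A B₂) :=
      ((e₂.symm.toAlgHom.restrictScalars A).comp (ψ.restrictScalars A)).comp
        Algebra.TensorProduct.includeRight
    let σ : B₂ ⊗[A] B₁ →ₐ[B₂] B₂ ⧸ I.map (algebraMap A B₂) :=
      Algebra.TensorProduct.lift (Algebra.ofId B₂ _) ψ' (fun _ _ => Commute.all _ _)
    have hG₂ : Gabber B₂ (I.map (algebraMap A B₂)) := hG.of_isIntegral
    obtain ⟨τ, hτ⟩ := hG₂.exists_lift_of_etale (B₂ ⊗[A] B₁) σ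
    refine ⟨(τ.restrictScalars A).comp Algebra.TensorProduct.includeRight, ?_⟩
    apply Algebra.TensorProduct.ext
    · ext
    · ext x
      simp only [AlgHom.comp_apply, AlgHom.restrictScalars_apply,
        Algebra.TensorProduct.includeRight_apply, Algebra.TensorProduct.map_tmul, AlgHom.coe_id,
        id_eq]
      have h1 := AlgHom.congr_fun hτ ((1 : B₂) ⊗ₜ[A] x)
      have h2 : σ ((1 : B₂) ⊗ₜ[A] x) = e₂.symm (ψ ((1 : A ⧸ I) ⊗ₜ[A] x)) := by
        simp [σ, ψ']
      rw [h2] at h1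
      rw [← e₂.apply_symm_apply (ψ ((1 : A ⧸ I) ⊗ₜ[A] x)), ← h1]
      rfl

end Groth.Agent.Helper7.Hensel
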