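import Groth.Agent.Lib.Helper7.Hensel.ResidueSepClosed
import Groth.Agent.Lib.Helper7.Hensel.EtaleLift
import Groth.Agent.Lib.Helper7.Hensel.Local

/-!
# Points of étale algebras over strictly henselian local rings
-/

open IsLocalRing

namespace Groth.Agent.Helper7.Hensel

universe u v

theorem bijective_comp_ofId (R : Type u) [CommRing R] [HenselianLocalRing R]
    [IsSepClosed (ResidueField R)] (S : Type v) [CommRing S] [IsLocalRing S] [Algebra R S]
    [IsLocalHom (algebraMap R S)] (E : Type u) [CommRing E] [Algebra R E] [Algebra.Etale R E] :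
    Function.Bijective (fun τ : E →ₐ[R] R => (Algebra.ofId R S).comp τ) := by
  have hG := Gabber.of_henselianLocalRing R
  have hjacS : maximalIdeal S ≤ Ideal.jacobson ⊥ := by
    rw [IsLocalRing.jacobson_eq_maximalIdeal ⊥ bot_ne_top]
  constructor
  · intro τ₁ τ₂ h
    apply algHom_eq_of_formallyUnramified (maximalIdeal R) hG.1
    intro x
    have h1 := AlgHom.congr_fun h x
    simp only [AlgHom.comp_apply, Algebra.ofId_apply] at h1
    rw [mem_maximalIdeal, mem_nonunits_iff]
    intro hu
    have h2 := hu.map (algebraMap R S)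
    rw [map_sub, h1, sub_self] at h2
    exact not_isUnit_zero h2
  · intro f
    let h : E →ₐ[R] ResidueField S := (IsScalarTower.toAlgHom R S (ResidueField S)).comp f
    let ι : ResidueField R →ₐ[R] ResidueField S := IsScalarTower.toAlgHom R _ _
    have hι : Function.Injective ι := (algebraMap (ResidueField R) (ResidueField S)).injective
    have hmem : ∀ x, h x ∈ ι.range := by
      intro x
      obtain ⟨r, hr⟩ := exists_residue_eq R S E f x
      exact ⟨residue R r, hr.symm⟩
    let h₀ : E →ₐ[R] R ⧸ maximalIdeal R :=
      (AlgEquiv.ofInjective ι hι).symm.toAlgHom.comp (h.codRestrict ι.range hmem)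
    have hh₀ : ∀ x, ι (h₀ x) = h x := by
      intro x
      have := (AlgEquiv.ofInjective ι hι).apply_symm_apply (h.codRestrict ι.range hmem x)
      exact congrArg Subtype.val this
    obtain ⟨τ, hτ⟩ := hG.exists_lift_of_etale E h₀
    refine ⟨τ, ?_⟩
    apply algHom_eq_of_formallyUnramified (maximalIdeal S) hjacS
    intro x
    rw [← residue_eq_zero_iff, map_sub, sub_eq_zero]
    have h1 : residue R (τ x) = h₀ x := AlgHom.congr_fun hτ x
    show residue S (algebraMap R S (τ x)) = residue S (f x)
    have h2 : residue S (algebraMap R S (τ x)) = ι (residue R (τ x)) := rfl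
    rw [h2, h1, hh₀]
    rfl

end Groth.Agent.Helper7.Hensel
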