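import Groth.Agent.Lib.Helper7.Hensel.FiniteEtaleHom

/-! helper7: finite etale algebras over a henselian pair are determined by their reductions. -/

set_option autoImplicit false
set_option linter.style.haveILetI false
set_option linter.unusedVariables false
set_option linter.unusedSectionVars false

open TensorProduct

namespace Groth.Agent.Helper7.Hensel

universe u

/-- Finite etale algebras over a henselian pair with isomorphic reductions are isomorphic. -/
theorem Gabber.nonempty_algEquiv_of_reduction {A : Type u} [CommRing A] {I : Ideal A}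
    (hG : Gabber A I) (B₁ B₂ : Type u) [CommRing B₁] [CommRing B₂] [Algebra A B₁] [Algebra A B₂]
    [Algebra.Etale A B₁] [Module.Finite A B₁] [Algebra.Etale A B₂] [Module.Finite A B₂]
    (Ψ : (A ⧸ I) ⊗[A] B₁ ≃ₐ[A ⧸ I] (A ⧸ I) ⊗[A] B₂) : Nonempty (B₁ ≃ₐ[A] B₂) := by
  obtain ⟨φ, hφ⟩ := (hG.bijective_map_of_finite_etale B₁ B₂).2 Ψ.toAlgHom
  obtain ⟨φ', hφ'⟩ := (hG.bijective_map_of_finite_etale B₂ B₁).2 Ψ.symm.toAlgHom
  have h1 : φ'.comp φ = AlgHom.id A B₁ := by
    apply (hG.bijective_map_of_finite_etale B₁ B₁).1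
    show Algebra.TensorProduct.map (AlgHom.id (A ⧸ I) (A ⧸ I)) (φ'.comp φ) =
      Algebra.TensorProduct.map (AlgHom.id (A ⧸ I) (A ⧸ I)) (AlgHom.id A B₁)
    have e1 : Algebra.TensorProduct.map (AlgHom.id (A ⧸ I) (A ⧸ I)) (φ'.comp φ) =
        (Algebra.TensorProduct.map (AlgHom.id (A ⧸ I) (A ⧸ I)) φ').comp
          (Algebra.TensorProduct.map (AlgHom.id (A ⧸ I) (A ⧸ I)) φ) := by
      apply Algebra.TensorProduct.ext
      · ext
      · ext x
        simp
    rw [e1]
    simp only at hφ hφ'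
    rw [hφ, hφ']
    ext x
    simp
  have h2 : φ.comp φ' = AlgHom.id A B₂ := by
    apply (hG.bijective_map_of_finite_etale B₂ B₂).1
    show Algebra.TensorProduct.map (AlgHom.id (A ⧸ I) (A ⧸ I)) (φ.comp φ') =
      Algebra.TensorProduct.map (AlgHom.id (A ⧸ I) (A ⧸ I)) (AlgHom.id A B₂)
    have e1 : Algebra.TensorProduct.map (AlgHom.id (A ⧸ I) (A ⧸ I)) (φ.comp φ') =
        (Algebra.TensorProduct.map (AlgHom.id (A ⧸ I) (A ⧸ I)) φ).comp
          (Algebra.TensorProduct.map (AlgHom.id (A ⧸ I) (A ⧸ I)) φ') := by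
      apply Algebra.TensorProduct.ext
      · ext
      · ext x
        simp
    rw [e1]
    simp only at hφ hφ'
    rw [hφ, hφ']
    ext x
    simp
  exact ⟨AlgEquiv.ofAlgHom φ φ' h2 h1⟩

end Groth.Agent.Helper7.Hensel
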