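import Mathlib

/-!
# Lifting of sections of étale algebras implies henselian
-/

open Polynomial

namespace Groth.Agent.Helper7.Hensel

universe u

theorem henselianRing_of_etale_lift {A : Type u} [CommRing A] (I : Ideal A)
    (H : ∀ (A' : Type u) [CommRing A'] [Algebra A A'] [Algebra.Etale A A']
      (σ : A' →ₐ[A] A ⧸ I), ∃ τ : A' →ₐ[A] A, (Ideal.Quotient.mkₐ A I).comp τ = σ) :
    HenselianRing A I := by
  refine ⟨fun y hy => ?_, fun f hf a₀ h₁ h₂ => ?_⟩
  · rw [Ideal.mem_jacobson_bot]
    intro a
    have hu : IsUnit (algebraMap A (A ⧸ I) (y * a + 1)) := by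
      have : algebraMap A (A ⧸ I) (y * a + 1) = 1 := by
        rw [map_add, map_one, add_eq_right]
        exact Ideal.Quotient.eq_zero_iff_mem.mpr (I.mul_mem_right _ hy)
      rw [this]; exact isUnit_one
    let σ : Localization.Away (y * a + 1) →ₐ[A] A ⧸ I :=
      IsLocalization.liftAlgHom (M := Submonoid.powers (y * a + 1)) (f := Algebra.ofId A (A ⧸ I)) (by
        rintro ⟨_, n, rfl⟩
        show IsUnit (algebraMap A (A ⧸ I) ((y * a + 1) ^ n))
        rw [map_pow]
        exact hu.pow n)
    have : Algebra.Etale A (Localization.Away (y * a + 1)) :=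
      Algebra.Etale.of_isLocalizationAway (y * a + 1)
    obtain ⟨τ, -⟩ := H (Localization.Away (y * a + 1)) σ
    have := (IsLocalization.Away.algebraMap_isUnit (y * a + 1)
      (S := Localization.Away (y * a + 1))).map τ
    simpa using this
  · let P : StandardEtalePair A := ⟨f, hf, derivative f, 1, 0, 1, by simp⟩
    have hmap : P.HasMap (Ideal.Quotient.mk I a₀) := by
      refine ⟨?_, ?_⟩
      · show aeval (Ideal.Quotient.mk I a₀) f = 0
        rw [← Ideal.Quotient.mkₐ_eq_mk A, aeval_algHom_apply, Ideal.Quotient.mkₐ_eq_mk]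
        exact Ideal.Quotient.eq_zero_iff_mem.mpr (by simpa using h₁)
      · show IsUnit (aeval (Ideal.Quotient.mk I a₀) (derivative f))
        rw [← Ideal.Quotient.mkₐ_eq_mk A, aeval_algHom_apply, Ideal.Quotient.mkₐ_eq_mk]
        simpa using h₂
    obtain ⟨τ, hτ⟩ := H P.Ring (P.lift _ hmap)
    refine ⟨τ P.X, ?_, ?_⟩
    · have := (P.hasMap_X.map τ).1
      simpa using this
    · rw [← Ideal.Quotient.mk_eq_mk_iff_sub_mem]
      have := congr($hτ P.X)
      simpa using this

end Groth.Agent.Helper7.Hensel
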