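import Groth.Agent.Lib.Helper7.Hensel.Iff
import Groth.Agent.Lib.Helper7.Hensel.IdemLift
import Groth.Agent.Lib.Helper7.Hensel.RankOne
import Groth.Agent.Lib.Helper7.Hensel.Basic

/-!
# Lifting of (not necessarily monic) coprime factorizations implies henselian
-/

open Polynomial IsLocalRing

namespace Groth.Agent.Helper7.Hensel

universe u

theorem henselianLocalRing_of_factor_lift (R : Type u) [CommRing R] [IsLocalRing R]
    (h : ∀ f : R[X], f.Monic → ∀ g₀ h₀ : (ResidueField R)[X], IsCoprime g₀ h₀ →
      f.map (residue R) = g₀ * h₀ →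
      ∃ g h : R[X], f = g * h ∧ g.map (residue R) = g₀ ∧ h.map (residue R) = h₀) :
    HenselianLocalRing R := by
  classical
  constructor
  intro f hf a₀ h₁ h₂
  have hjacR : maximalIdeal R ≤ Ideal.jacobson ⊥ := by
    rw [IsLocalRing.jacobson_eq_maximalIdeal ⊥ bot_ne_top]
  have hfbar_root : (f.map (residue R)).IsRoot (residue R a₀) := by
    rw [IsRoot.def, eval_map_apply, residue_eq_zero_iff]
    exact h₁
  obtain ⟨q₀, hq₀⟩ : ∃ q₀, q₀ = f.map (residue R) /ₘ (X - C (residue R a₀)) := ⟨_, rfl⟩
  have hfq : f.map (residue R) = (X - C (residue R a₀)) * q₀ := by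
    rw [hq₀]
    exact (mul_divByMonic_eq_iff_isRoot.mpr hfbar_root).symm
  have hq₀u : IsUnit (q₀.eval (residue R a₀)) := by
    have hder : (f.map (residue R)).derivative.eval (residue R a₀) = q₀.eval (residue R a₀) := by
      rw [hfq]
      simp
    rw [← hder, derivative_map, eval_map_apply]
    exact h₂.map _
  have hcop : IsCoprime (X - C (residue R a₀)) q₀ :=
    isCoprime_X_sub_C_of_isUnit_eval _ _ hq₀u
  obtain ⟨g, hh, hfgh, hg, hhh⟩ := h f hf _ _ hcop hfq
  -- the finite free algebra `B = R[X]/(f)`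
  have hfinB : Module.Finite R (AdjoinRoot f) := hf.finite_adjoinRoot
  obtain ⟨x, hx⟩ : ∃ x : AdjoinRoot f, x = AdjoinRoot.root f := ⟨_, rfl⟩
  have hfx : aeval x f = 0 := by rw [hx, AdjoinRoot.aeval_eq, AdjoinRoot.mk_self]
  have hjacB : (maximalIdeal R).map (algebraMap R (AdjoinRoot f)) ≤ Ideal.jacobson ⊥ :=
    map_le_jacobson_of_isIntegral hjacR
  -- evaluation at the residue class of `a₀`
  let ev : AdjoinRoot f →+* ResidueField R :=
    AdjoinRoot.lift (residue R) (residue R a₀) (by rw [eval₂_eq_eval_map]; exact hfbar_root)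
  have hev : ∀ p : R[X], ev (aeval x p) = (p.map (residue R)).eval (residue R a₀) := by
    intro p
    rw [hx, AdjoinRoot.aeval_eq, AdjoinRoot.lift_mk, eval₂_eq_eval_map]
  have hevR : ∀ r : R, ev (algebraMap R (AdjoinRoot f) r) = residue R r := by
    intro r
    have := hev (C r)
    simpa using this
  -- coprimality in `B`
  obtain ⟨ubar, vbar, huv⟩ := hcop
  obtain ⟨u, rfl⟩ := map_surjective (residue R) residue_surjective ubar
  obtain ⟨v, rfl⟩ := map_surjective (residue R) residue_surjective vbar
  have hp : ∀ i, (u * g + v * hh - 1).coeff i ∈ maximalIdeal R := by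
    intro i
    rw [← residue_eq_zero_iff, ← coeff_map]
    simp [Polynomial.map_sub, Polynomial.map_add, Polynomial.map_mul, hg, hhh, huv]
  have hw : IsUnit (aeval x (u * g + v * hh)) := by
    apply isUnit_of_sub_one_mem hjacB
    have := aeval_mem_map_of_coeff_mem (maximalIdeal R) x _ hp
    simpa using this
  obtain ⟨w, hw'⟩ := hw.exists_left_inv
  obtain ⟨gx, hgx⟩ : ∃ gx, gx = aeval x g := ⟨_, rfl⟩
  obtain ⟨hx', hhx⟩ : ∃ hx', hx' = aeval x hh := ⟨_, rfl⟩
  have hgh : gx * hx' = 0 := by rw [hgx, hhx, ← map_mul, ← hfgh, hfx]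
  have hw'' : w * (aeval x u * gx + aeval x v * hx') = 1 := by
    rw [hgx, hhx, ← map_mul, ← map_mul, ← map_add]; exact hw'
  obtain ⟨e, he⟩ : ∃ e, e = w * aeval x u * gx := ⟨_, rfl⟩
  have he1 : 1 - e = w * aeval x v * hx' := by
    rw [he, ← hw'']; ring
  have hee : e * (1 - e) = 0 := by
    rw [he1, he]
    calc w * aeval x u * gx * (w * aeval x v * hx')
        = (w * aeval x u * w * aeval x v) * (gx * hx') := by ring
      _ = 0 := by rw [hgh, mul_zero]
  have hidem : IsIdempotentElem (1 - e) := by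
    show (1 - e) * (1 - e) = 1 - e
    have : (1 - e) * (1 - e) = (1 - e) - e * (1 - e) := by ring
    rw [this, hee, sub_zero]
  have hevg : ev gx = 0 := by rw [hgx, hev, hg]; simp
  have hne : 1 - e ∉ (maximalIdeal R).map (algebraMap R (AdjoinRoot f)) := by
    intro hmem
    have h0 : 1 - e = 0 := eq_zero_of_isIdempotentElem_of_mem_jacobson hidem (hjacB hmem)
    have h1 : ev e = 0 := by rw [he, map_mul, hevg, mul_zero]
    have h2 : ev (1 - e) = 1 := by rw [map_sub, map_one, h1, sub_zero]
    rw [h0, map_zero] at h2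
    exact zero_ne_one h2
  -- freeness: `1 - e` has trivial annihilator in `R`
  have hfree : ∀ r : R, r • (1 - e) = 0 → r = 0 := by
    intro r hr
    by_contra hr0
    apply hne
    have hc : ∀ i, (AdjoinRoot.powerBasis' hf).basis.repr (1 - e) i ∈ maximalIdeal R := by
      intro i
      by_contra hi
      have hu : IsUnit ((AdjoinRoot.powerBasis' hf).basis.repr (1 - e) i) := by
        rwa [mem_maximalIdeal, mem_nonunits_iff, not_not] at hi
      have h0 : r * (AdjoinRoot.powerBasis' hf).basis.repr (1 - e) i = 0 := by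
        have := congrArg (fun b => (AdjoinRoot.powerBasis' hf).basis.repr b i) hr
        simpa using this
      exact hr0 (hu.mul_left_eq_zero.mp h0)
    rw [← (AdjoinRoot.powerBasis' hf).basis.sum_repr (1 - e)]
    refine Ideal.sum_mem _ fun i _ => ?_
    rw [Algebra.smul_def]
    exact Ideal.mul_mem_right _ _ (Ideal.mem_map_of_mem _ (hc i))
  -- Nakayama: `B = R + (g(x))`
  have hnak : ∀ b : AdjoinRoot f, ∃ r : R, ∃ c : AdjoinRoot f,
      b = algebraMap R (AdjoinRoot f) r + gx * c := by
    have htop : (⊤ : Submodule R (AdjoinRoot f)) ≤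
        LinearMap.range (Algebra.linearMap R (AdjoinRoot f)) ⊔
          (Ideal.span {gx}).restrictScalars R := by
      apply Submodule.le_of_le_smul_of_le_jacobson_bot (I := maximalIdeal R)
        Module.Finite.fg_top hjacR
      intro b _
      obtain ⟨q, rfl⟩ := AdjoinRoot.mk_surjective (g := f) b
      have hq : q = (X - C a₀) * (q /ₘ (X - C a₀)) + C (q.eval a₀) := by
        have := modByMonic_add_div q (X - C a₀)
        rw [modByMonic_X_sub_C_eq_C_eval] at this
        conv_lhs => rw [← this]
        ring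
      have hdiff : ∀ i, (X - C a₀ - g).coeff i ∈ maximalIdeal R := by
        intro i
        rw [← residue_eq_zero_iff, ← coeff_map]
        simp [Polynomial.map_sub, hg]
      have hmem := aeval_mem_map_of_coeff_mem (maximalIdeal R) x _ hdiff
      have hb : AdjoinRoot.mk f q = algebraMap R (AdjoinRoot f) (q.eval a₀)
          + gx * aeval x (q /ₘ (X - C a₀))
          + aeval x (X - C a₀ - g) * aeval x (q /ₘ (X - C a₀)) := by
        rw [← AdjoinRoot.aeval_eq, ← hx]
        conv_lhs => rw [hq]
        rw [hgx]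
        simp only [map_add, map_mul, map_sub, aeval_X, aeval_C]
        ring
      rw [hb]
      refine Submodule.add_mem_sup (Submodule.add_mem_sup ⟨_, rfl⟩ ?_) ?_
      · exact Ideal.mul_mem_right _ _ (Ideal.mem_span_singleton_self gx)
      · rw [Ideal.smul_top_eq_map]
        exact Ideal.mul_mem_right _ _ hmem
    intro b
    obtain ⟨y, hy, z, hz, rfl⟩ := Submodule.mem_sup.mp (htop (Submodule.mem_top (x := b)))
    obtain ⟨r, rfl⟩ := hy
    obtain ⟨c, rfl⟩ := Ideal.mem_span_singleton'.mp hz
    exact ⟨r, c, by simp [mul_comm]⟩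
  obtain ⟨a, c, hxa⟩ := hnak x
  -- polynomial congruence modulo `g(x)`
  have hpoly : ∀ p : R[X], ∃ d : AdjoinRoot f,
      aeval x p = algebraMap R (AdjoinRoot f) (p.eval a) + gx * d := by
    intro p
    obtain ⟨d, hd⟩ := Polynomial.sub_dvd_eval_sub x (algebraMap R (AdjoinRoot f) a)
      (p.map (algebraMap R (AdjoinRoot f)))
    refine ⟨c * d, ?_⟩
    have h1 : (p.map (algebraMap R (AdjoinRoot f))).eval x = aeval x p := by
      rw [eval_map, aeval_def]
    have h2 : (p.map (algebraMap R (AdjoinRoot f))).eval (algebraMap R (AdjoinRoot f) a)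
        = algebraMap R (AdjoinRoot f) (p.eval a) := by
      rw [eval_map, eval₂_at_apply]
    rw [h1, h2] at hd
    have h3 : x - algebraMap R (AdjoinRoot f) a = gx * c := by rw [hxa]; ring
    rw [h3] at hd
    rw [← sub_eq_iff_eq_add', hd]; ring
  have hkill : ∀ d : AdjoinRoot f, gx * d * (1 - e) = 0 := by
    intro d
    rw [he1]
    calc gx * d * (w * aeval x v * hx') = (d * w * aeval x v) * (gx * hx') := by ring
      _ = 0 := by rw [hgh, mul_zero]
  have hroot : f.eval a = 0 := by
    obtain ⟨d, hd⟩ := hpoly f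
    rw [hfx] at hd
    apply hfree
    rw [Algebra.smul_def]
    have : algebraMap R (AdjoinRoot f) (f.eval a) = - (gx * d) := by
      rw [eq_neg_iff_add_eq_zero]; exact hd.symm
    rw [this, neg_mul, hkill, neg_zero]
  refine ⟨a, hroot, ?_⟩
  have h4 := congrArg ev hxa
  rw [map_add, map_mul, hevg, zero_mul, add_zero, hevR] at h4
  have h5 : ev x = residue R a₀ := by
    have := hev X
    simpa using this
  rw [h5] at h4
  rw [← residue_eq_zero_iff, map_sub, h4, sub_self]

end Groth.Agent.Helper7.Hensel
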