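import Mathlib
import Groth.Agent.Lib.Helper7.Hensel.Iff
import Groth.Agent.Lib.Helper7.Hensel.Local
import Groth.Agent.Lib.Helper7.Hens.Abstract

set_option autoImplicit false
set_option linter.style.haveILetI false
set_option linter.unusedVariables false
set_option linter.unusedSectionVars false

open Polynomial IsLocalRing

/-! helper7: a local ring all of whose finite type algebras split off a finite part is henselian (via Gabber criterion). -/

namespace Groth.Agent.Helper7.FinSplitConv

open Groth.Agent.Helper7.Hensel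

universe u

section Poly

variable {R : Type u} [CommRing R] [IsLocalRing R]

theorem monic_gabberPoly (n : ℕ) (p : R[X]) (hp : p.natDegree ≤ n) :
    (X ^ n * (X - 1) + p : R[X]).Monic := by
  have h1 : (X ^ n * (X - 1) : R[X]).Monic := (monic_X_pow n).mul (monic_X_sub_C 1)
  have hd : (X ^ n * (X - 1) : R[X]).natDegree = n + 1 := by
    have := ((monic_X_pow (R := R) n).natDegree_mul (monic_X_sub_C (1 : R)))
    rw [natDegree_X_pow, natDegree_X_sub_C, map_one] at this
    exact this
  apply h1.add_of_left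
  rw [degree_eq_natDegree h1.ne_zero, hd]
  exact lt_of_le_of_lt degree_le_natDegree (by exact_mod_cast Nat.lt_succ_of_le hp)

/-- Evaluating a polynomial with coefficients in `m` lands in `m S`. -/
theorem aeval_mem_map {S : Type u} [CommRing S] [Algebra R S] (p : R[X])
    (hpI : ∀ i, p.coeff i ∈ maximalIdeal R) (s : S) :
    aeval s p ∈ (maximalIdeal R).map (algebraMap R S) := by
  rw [aeval_def, eval₂_eq_sum_range]
  exact Ideal.sum_mem _ fun i _ => Ideal.mul_mem_right _ _ (Ideal.mem_map_of_mem _ (hpI i))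

/-- The polynomial of Gabber's criterion. -/
noncomputable def gPoly (n : ℕ) (p : R[X]) : R[X] := X ^ n * (X - 1) + p

theorem aeval_gPoly {S : Type u} [CommRing S] [Algebra R S] (n : ℕ) (p : R[X]) (s : S) :
    aeval s (gPoly n p) = s ^ n * (s - 1) + aeval s p := by
  unfold gPoly
  simp only [map_add, map_mul, map_pow, aeval_X, map_sub, map_one]

end Poly

section Main

variable (R : Type u) [CommRing R] [IsLocalRing R]

theorem exists_root
    (h : ∀ (S : Type u) [CommRing S] [Algebra R S] [Algebra.FiniteType R S],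
      ∃ e : S, IsIdempotentElem e ∧ Module.Finite R (S ⧸ Ideal.span ({1 - e} : Set S)) ∧
        ∀ (q : Ideal (S ⧸ Ideal.span ({e} : Set S))) [q.IsPrime],
          q.LiesOver (IsLocalRing.maximalIdeal R) → ¬ Algebra.QuasiFiniteAt R q)
    (n : ℕ) (hn : 0 < n) (p : R[X]) (hp : p.natDegree ≤ n)
    (hpI : ∀ i, p.coeff i ∈ maximalIdeal R) :
    ∃ α : R, α - 1 ∈ maximalIdeal R ∧ (X ^ n * (X - 1) + p : R[X]).IsRoot α := by
  classical
  let f : R[X] := gPoly n p
  have hmonic : f.Monic := monic_gabberPoly n p hp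
  haveI : Module.Finite R (AdjoinRoot f) := hmonic.finite_adjoinRoot
  haveI : Module.Free R (AdjoinRoot f) := hmonic.free_adjoinRoot
  let t₀ : AdjoinRoot f := AdjoinRoot.root f
  let S := Localization.Away t₀
  haveI : Algebra.FiniteType (AdjoinRoot f) S :=
    IsLocalization.finiteType_of_monoid_fg (Submonoid.powers t₀) S
  haveI : Algebra.FiniteType R S := Algebra.FiniteType.trans
    (inferInstance : Algebra.FiniteType R (AdjoinRoot f)) inferInstance
  let t : S := algebraMap (AdjoinRoot f) S t₀
  have htunit : IsUnit t := IsLocalization.Away.algebraMap_isUnit t₀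
  let mS : Ideal S := (maximalIdeal R).map (algebraMap R S)
  have hft : aeval t f = 0 := by
    have h1 : aeval t f = algebraMap (AdjoinRoot f) S (aeval t₀ f) :=
      aeval_algebraMap_apply S t₀ f
    rw [h1, AdjoinRoot.aeval_eq, AdjoinRoot.mk_self, map_zero]
  have ht1 : t - 1 ∈ mS := by
    have h1 : t ^ n * (t - 1) + aeval t p = 0 := by
      rw [← aeval_gPoly]
      exact hft
    have h2 : t ^ n * (t - 1) ∈ mS := by
      rw [eq_neg_of_add_eq_zero_left h1]
      exact Ideal.neg_mem_iff _ |>.mpr (aeval_mem_map p hpI t)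
    exact (Ideal.unit_mul_mem_iff_mem mS (htunit.pow n)).mp h2
  -- every element of `S` is congruent to a constant modulo `mS`
  have hP : ∀ s : S, ∃ r : R, s - algebraMap R S r ∈ mS := by
    have hmul : ∀ s₁ s₂ : S, (∃ r : R, s₁ - algebraMap R S r ∈ mS) →
        (∃ r : R, s₂ - algebraMap R S r ∈ mS) → ∃ r : R, s₁ * s₂ - algebraMap R S r ∈ mS := by
      rintro s₁ s₂ ⟨r₁, h₁⟩ ⟨r₂, h₂⟩
      refine ⟨r₁ * r₂, ?_⟩
      have : s₁ * s₂ - algebraMap R S (r₁ * r₂) =
          s₁ * (s₂ - algebraMap R S r₂) + (s₁ - algebraMap R S r₁) * algebraMap R S r₂ := by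
        rw [map_mul]; ring
      rw [this]
      exact Ideal.add_mem _ (Ideal.mul_mem_left _ _ h₂) (Ideal.mul_mem_right _ _ h₁)
    have hadd : ∀ s₁ s₂ : S, (∃ r : R, s₁ - algebraMap R S r ∈ mS) →
        (∃ r : R, s₂ - algebraMap R S r ∈ mS) → ∃ r : R, s₁ + s₂ - algebraMap R S r ∈ mS := by
      rintro s₁ s₂ ⟨r₁, h₁⟩ ⟨r₂, h₂⟩
      refine ⟨r₁ + r₂, ?_⟩
      have : s₁ + s₂ - algebraMap R S (r₁ + r₂) =
          (s₁ - algebraMap R S r₁) + (s₂ - algebraMap R S r₂) := by
        rw [map_add]; ring
      rw [this]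
      exact Ideal.add_mem _ h₁ h₂
    have hconst : ∀ r : R, ∃ r' : R, algebraMap R S r - algebraMap R S r' ∈ mS :=
      fun r => ⟨r, by rw [sub_self]; exact Ideal.zero_mem _⟩
    have ht : ∃ r : R, t - algebraMap R S r ∈ mS := ⟨1, by rw [map_one]; exact ht1⟩
    have hpow : ∀ (s : S), (∃ r : R, s - algebraMap R S r ∈ mS) → ∀ j : ℕ,
        ∃ r : R, s ^ j - algebraMap R S r ∈ mS := by
      intro s hs j
      induction j with
      | zero => exact ⟨1, by rw [pow_zero, map_one, sub_self]; exact Ideal.zero_mem _⟩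
      | succ j ih => rw [pow_succ]; exact hmul _ _ ih hs
    have hS₀ : ∀ x : AdjoinRoot f, ∃ r : R, algebraMap (AdjoinRoot f) S x - algebraMap R S r ∈ mS := by
      intro x
      induction x using AdjoinRoot.induction_on with
      | ih q =>
        induction q using Polynomial.induction_on with
        | C a =>
          have : algebraMap (AdjoinRoot f) S (AdjoinRoot.mk f (C a)) = algebraMap R S a := by
            rw [AdjoinRoot.mk_C, IsScalarTower.algebraMap_apply R (AdjoinRoot f) S]
            rfl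
          rw [this]; exact hconst a
        | add q₁ q₂ h₁ h₂ => rw [map_add, map_add]; exact hadd _ _ h₁ h₂
        | monomial k a ih =>
          have : algebraMap (AdjoinRoot f) S (AdjoinRoot.mk f (C a * X ^ (k + 1))) =
              algebraMap (AdjoinRoot f) S (AdjoinRoot.mk f (C a * X ^ k)) * t := by
            rw [← map_mul]
            congr 1
            rw [pow_succ, ← mul_assoc, map_mul (AdjoinRoot.mk f) _ X, AdjoinRoot.mk_X]
          rw [this]
          exact hmul _ _ ih ht
    have hinv : ∃ r : R, (IsLocalization.Away.invSelf t₀ : S) - algebraMap R S r ∈ mS := by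
      refine ⟨1, ?_⟩
      have h1 : t * IsLocalization.Away.invSelf t₀ = 1 := IsLocalization.Away.mul_invSelf t₀
      have : (IsLocalization.Away.invSelf t₀ : S) - algebraMap R S 1 =
          -(IsLocalization.Away.invSelf t₀ : S) * (t - 1) := by
        rw [map_one]
        linear_combination (1 : S) * h1
      rw [this]
      exact Ideal.mul_mem_left _ _ ht1
    intro s
    obtain ⟨x, ⟨_, j, rfl⟩, rfl⟩ := IsLocalization.exists_mk'_eq (Submonoid.powers t₀) s
    have : IsLocalization.mk' S x (⟨t₀ ^ j, j, rfl⟩ : Submonoid.powers t₀) =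
        algebraMap (AdjoinRoot f) S x * (IsLocalization.Away.invSelf t₀ : S) ^ j := by
      rw [IsLocalization.mk'_eq_iff_eq_mul]
      have h1 : t * IsLocalization.Away.invSelf t₀ = 1 := IsLocalization.Away.mul_invSelf t₀
      show algebraMap (AdjoinRoot f) S x = _ * algebraMap (AdjoinRoot f) S (t₀ ^ j)
      rw [map_pow, mul_assoc, ← mul_pow, mul_comm (IsLocalization.Away.invSelf t₀ : S), h1, one_pow,
        mul_one]
    rw [this]
    exact hmul _ _ (hS₀ x) (hpow _ hinv j)
  -- a point with values in the residue field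
  have hmk : (maximalIdeal R).map (algebraMap R (ResidueField R)) = ⊥ := by
    rw [eq_bot_iff, Ideal.map_le_iff_le_comap]
    intro x hx
    rw [Ideal.mem_comap]
    exact (Ideal.mem_bot).mpr ((residue_eq_zero_iff x).mpr hx)
  have hχ0 : eval₂ (Algebra.ofId R (ResidueField R)) (1 : ResidueField R) f = 0 := by
    have h1 : aeval (1 : ResidueField R) f = 0 := by
      rw [aeval_gPoly, sub_self, mul_zero, zero_add]
      have := aeval_mem_map p hpI (1 : ResidueField R)
      rw [hmk] at this
      exact (Ideal.mem_bot).mp this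
    exact h1
  let χ₀ : AdjoinRoot f →ₐ[R] ResidueField R :=
    AdjoinRoot.liftAlgHom f (Algebra.ofId R (ResidueField R)) 1 hχ0
  have hχ₀t : χ₀ t₀ = 1 := AdjoinRoot.liftAlgHom_root _ _ _ _
  let χ : S →ₐ[R] ResidueField R :=
    IsLocalization.liftAlgHom (M := Submonoid.powers t₀) (f := χ₀) (by
      rintro ⟨_, j, rfl⟩
      show IsUnit (χ₀ (t₀ ^ j))
      rw [map_pow, hχ₀t, one_pow]
      exact isUnit_one)
  have hχm : ∀ x ∈ mS, χ x = 0 := by
    intro x hx
    have := Groth.Agent.Helper7.Hens.algHom_mem_map χ hx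
    rw [hmk] at this
    exact (Ideal.mem_bot).mp this
  -- apply the hypothesis
  obtain ⟨e, he, hfinA, hB⟩ := h S
  haveI := hfinA
  have hmB : (maximalIdeal R).map (algebraMap R (S ⧸ Ideal.span ({e} : Set S))) = ⊤ := by
    by_contra hne
    obtain ⟨q, hq, hle⟩ := Ideal.exists_le_maximal _ hne
    haveI hqp : q.IsPrime := hq.isPrime
    have hlies : q.LiesOver (maximalIdeal R) := by
      constructor
      have h1 : maximalIdeal R ≤ q.comap (algebraMap R (S ⧸ Ideal.span ({e} : Set S))) := by
        rw [← Ideal.map_le_iff_le_comap]; exact hle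
      have h2 : q.comap (algebraMap R (S ⧸ Ideal.span ({e} : Set S))) ≠ ⊤ :=
        (Ideal.comap_isPrime _ q).ne_top
      exact (maximalIdeal.isMaximal R).eq_of_le h2 h1
    haveI : Algebra.QuasiFinite R (AdjoinRoot f) := inferInstance
    haveI : Algebra.QuasiFinite R S := inferInstance
    haveI : Algebra.QuasiFinite R (S ⧸ Ideal.span ({e} : Set S)) := inferInstance
    exact hB q hlies inferInstance
  have hχe : χ e = 1 := by
    have h1 : (1 : S ⧸ Ideal.span ({e} : Set S)) ∈
        (maximalIdeal R).map (algebraMap R (S ⧸ Ideal.span ({e} : Set S))) := by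
      rw [hmB]; trivial
    have h2 : (maximalIdeal R).map (algebraMap R (S ⧸ Ideal.span ({e} : Set S))) =
        mS.map (Ideal.Quotient.mk (Ideal.span ({e} : Set S))) := by
      rw [Ideal.map_map]; rfl
    rw [h2] at h1
    obtain ⟨x, hx, hx1⟩ := (Ideal.mem_map_iff_of_surjective _ Ideal.Quotient.mk_surjective).mp h1
    have h3 : x - 1 ∈ Ideal.span ({e} : Set S) := by
      rw [← Ideal.Quotient.eq, hx1, map_one]
    obtain ⟨y, hy⟩ := Ideal.mem_span_singleton'.mp h3
    have h4 : χ y * χ e = -1 := by
      rw [← map_mul, hy, map_sub, hχm x hx, map_one, zero_sub]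
    have h5 : IsIdempotentElem (χ e) := he.map χ
    rcases (IsIdempotentElem.iff_eq_zero_or_one.mp h5) with h6 | h6
    · rw [h6, mul_zero] at h4
      exact absurd h4 (by norm_num)
    · exact h6
  let χA : (S ⧸ Ideal.span ({1 - e} : Set S)) →ₐ[R] ResidueField R :=
    Ideal.Quotient.liftₐ _ χ (by
      intro a ha
      obtain ⟨y, rfl⟩ := Ideal.mem_span_singleton'.mp ha
      rw [map_mul, map_sub, map_one, hχe, sub_self, mul_zero])
  haveI : Nontrivial (S ⧸ Ideal.span ({1 - e} : Set S)) := by
    refine ⟨⟨0, 1, fun h01 => ?_⟩⟩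
    have := congrArg χA h01
    rw [map_zero, map_one] at this
    exact zero_ne_one this
  -- surjectivity of `R → A`
  have hsurj : Function.Surjective (algebraMap R (S ⧸ Ideal.span ({1 - e} : Set S))) := by
    let N : Submodule R (S ⧸ Ideal.span ({1 - e} : Set S)) :=
      LinearMap.range (Algebra.linearMap R (S ⧸ Ideal.span ({1 - e} : Set S)))
    have hle : (⊤ : Submodule R (S ⧸ Ideal.span ({1 - e} : Set S))) ≤
        N ⊔ maximalIdeal R • (⊤ : Submodule R (S ⧸ Ideal.span ({1 - e} : Set S))) := by
      intro a _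
      obtain ⟨s, rfl⟩ := Ideal.Quotient.mk_surjective a
      obtain ⟨r, hr⟩ := hP s
      have h1 : Ideal.Quotient.mk (Ideal.span ({1 - e} : Set S)) s =
          algebraMap R _ r + Ideal.Quotient.mk _ (s - algebraMap R S r) := by
        rw [map_sub]
        have : Ideal.Quotient.mk (Ideal.span ({1 - e} : Set S)) (algebraMap R S r) =
            algebraMap R (S ⧸ Ideal.span ({1 - e} : Set S)) r := rfl
        rw [this]; ring
      rw [h1]
      refine Submodule.add_mem_sup ⟨r, rfl⟩ ?_
      rw [Ideal.smul_top_eq_map]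
      show _ ∈ (maximalIdeal R).map (algebraMap R (S ⧸ Ideal.span ({1 - e} : Set S)))
      have h2 : (maximalIdeal R).map (algebraMap R (S ⧸ Ideal.span ({1 - e} : Set S))) =
          mS.map (Ideal.Quotient.mk (Ideal.span ({1 - e} : Set S))) := by
        rw [Ideal.map_map]; rfl
      rw [h2]
      exact Ideal.mem_map_of_mem _ hr
    have hN := Submodule.le_of_le_smul_of_le_jacobson_bot
      (Module.Finite.fg_top (R := R) (M := S ⧸ Ideal.span ({1 - e} : Set S)))
      (IsLocalRing.maximalIdeal_le_jacobson ⊥) hle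
    intro a
    obtain ⟨r, hr⟩ := hN (Submodule.mem_top : a ∈ ⊤)
    exact ⟨r, hr⟩
  -- flatness and freeness
  haveI : IsLocalization.Away e (S ⧸ Ideal.span ({1 - e} : Set S)) :=
    IsLocalization.Away.quotient_of_isIdempotentElem he
  haveI : Module.Flat S (S ⧸ Ideal.span ({1 - e} : Set S)) :=
    IsLocalization.flat _ (Submonoid.powers e)
  haveI : Module.Flat (AdjoinRoot f) S := IsLocalization.flat _ (Submonoid.powers t₀)
  haveI : Module.Flat R S := Module.Flat.trans R (AdjoinRoot f) S
  haveI : Module.Flat R (S ⧸ Ideal.span ({1 - e} : Set S)) := Module.Flat.trans R S _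
  haveI : Module.Free R (S ⧸ Ideal.span ({1 - e} : Set S)) := Module.free_of_flat_of_isLocalRing
  have hinj : Function.Injective (algebraMap R (S ⧸ Ideal.span ({1 - e} : Set S))) := by
    rw [injective_iff_map_eq_zero]
    intro x hx
    let b := Module.Free.chooseBasis R (S ⧸ Ideal.span ({1 - e} : Set S))
    obtain ⟨i⟩ := b.index_nonempty
    have h1 : x • b i = 0 := by
      rw [← smul_one_mul, ← Algebra.algebraMap_eq_smul_one, hx, zero_mul]
    have h2 := congrArg (fun v => b.repr v i) h1
    simpa using h2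
  let ε : R ≃ₐ[R] (S ⧸ Ideal.span ({1 - e} : Set S)) :=
    AlgEquiv.ofBijective (Algebra.ofId R _) ⟨hinj, hsurj⟩
  let ψ : S →ₐ[R] R := ε.symm.toAlgHom.comp (Ideal.Quotient.mkₐ R _)
  refine ⟨ψ t, ?_, ?_⟩
  · have := Groth.Agent.Helper7.Hens.algHom_mem_map ψ ht1
    rw [Algebra.algebraMap_self, Ideal.map_id, map_sub, map_one] at this
    exact this
  · show eval (ψ t) f = 0
    rw [← Polynomial.coe_aeval_eq_eval, Polynomial.aeval_algHom_apply, hft, map_zero]

theorem S12222_main
    (h : ∀ (S : Type u) [CommRing S] [Algebra R S] [Algebra.FiniteType R S],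
      ∃ e : S, IsIdempotentElem e ∧ Module.Finite R (S ⧸ Ideal.span ({1 - e} : Set S)) ∧
        ∀ (q : Ideal (S ⧸ Ideal.span ({e} : Set S))) [q.IsPrime],
          q.LiesOver (IsLocalRing.maximalIdeal R) → ¬ Algebra.QuasiFiniteAt R q) :
    HenselianLocalRing R := by
  apply henselianLocalRing_of_henselianRing
  apply Gabber.henselianRing
  refine ⟨IsLocalRing.maximalIdeal_le_jacobson ⊥, fun n hn p hp hpI => ?_⟩
  exact exists_root R h n hn p hp hpI

end Main

end Groth.Agent.Helper7.FinSplitConv
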