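import Mathlib
import Groth.Agent.Lib.Helper3.MonoSep

/-! Lifting finite étale algebras over the residue field of a local ring to finite étale
algebras over the ring (no henselian hypothesis needed for existence). -/

open scoped TensorProduct Polynomial
open Polynomial

namespace Groth.Agent.Helper7.FiniteEtaleLift

universe u

variable (R : Type u) [CommRing R] [IsLocalRing R]

local notation "κ" => IsLocalRing.ResidueField R

/-- A finite separable field extension of the residue field lifts. -/
theorem exists_lift_field (L : Type u) [Field L] [Algebra κ L] [Module.Finite κ L]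
    [Algebra.IsSeparable κ L] :
    ∃ (S : Type u) (_ : CommRing S) (_ : Algebra R S), Module.Finite R S ∧ Algebra.Etale R S ∧
      Nonempty (κ ⊗[R] S ≃ₐ[κ] L) := by
  obtain ⟨α, hα⟩ := Field.exists_primitive_element κ L
  have hint : IsIntegral κ α := Algebra.IsIntegral.isIntegral α
  set gb : κ[X] := minpoly κ α with hgb
  have hgbm : gb.Monic := minpoly.monic hint
  have hgbs : gb.Separable := Algebra.IsSeparable.isSeparable κ α
  have hlift : gb ∈ Polynomial.lifts (IsLocalRing.residue R) :=
    (Polynomial.mem_lifts _).mpr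
      (Polynomial.map_surjective _ IsLocalRing.residue_surjective gb)
  obtain ⟨g, hg, hgdeg, hgm⟩ := Polynomial.lifts_and_natDegree_eq_and_monic hlift hgbm
  have hgs : g.Separable :=
    Groth.Agent.Helper3.MonoSep.separable_of_map_residue g hgm (by rw [hg]; exact hgbs)
  let _ : Algebra R L := ((algebraMap κ L).comp (algebraMap R κ)).toAlgebra
  have _ : IsScalarTower R κ L := IsScalarTower.of_algebraMap_eq (fun _ => rfl)
  have hfin : Module.Finite R (AdjoinRoot g) := hgm.finite_adjoinRoot
  have hfree : Module.Free R (AdjoinRoot g) := hgm.free_adjoinRoot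
  have het : Algebra.Etale R (AdjoinRoot g) :=
    Algebra.Etale.of_equiv (Groth.Agent.Helper3.MonoSep.pairRingEquiv g hgm hgs)
  refine ⟨AdjoinRoot g, inferInstance, inferInstance, hfin, het, ?_⟩
  -- the comparison map
  have hroot : Polynomial.eval₂ (algebraMap R L) α g = 0 := by
    have h1 : algebraMap R L = (algebraMap κ L).comp (IsLocalRing.residue R) := rfl
    rw [h1, ← Polynomial.eval₂_map, hg]
    exact minpoly.aeval κ α
  let ψ : AdjoinRoot g →ₐ[R] L := AdjoinRoot.liftAlgHom g (Algebra.ofId R L) α hroot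
  let φ : κ ⊗[R] AdjoinRoot g →ₐ[κ] L :=
    Algebra.TensorProduct.lift (Algebra.ofId κ L) ψ (fun _ _ => Commute.all _ _)
  have hφα : φ (1 ⊗ₜ AdjoinRoot.root g) = α := by
    simp [φ, ψ]
  have hsurj : Function.Surjective φ := by
    rw [← AlgHom.range_eq_top, eq_top_iff]
    have hadj : Algebra.adjoin κ {α} = ⊤ := by
      have h1 := IntermediateField.adjoin_simple_toSubalgebra_of_isAlgebraic hint.isAlgebraic
      rw [hα] at h1
      rw [← h1]
      rfl
    rw [← hadj]
    refine Algebra.adjoin_le ?_
    rintro _ rfl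
    exact ⟨_, hφα⟩
  have hrank : Module.finrank κ (κ ⊗[R] AdjoinRoot g) = Module.finrank κ L := by
    rw [Module.finrank_baseChange, (AdjoinRoot.powerBasis' hgm).finrank,
      AdjoinRoot.powerBasis'_dim, hgdeg,
      (Field.primitive_element_iff_minpoly_natDegree_eq κ α).mp hα]
  have hinj : Function.Injective φ :=
    (LinearMap.injective_iff_surjective_of_finrank_eq_finrank (f := φ.toLinearMap) hrank).mpr hsurj
  exact ⟨AlgEquiv.ofBijective φ ⟨hinj, hsurj⟩⟩

/-- Every finite étale algebra over the residue field of a local ring is the base change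
of a finite étale algebra over the ring. -/
theorem exists_lift (A : Type u) [CommRing A] [Algebra κ A] [Module.Finite κ A]
    [Algebra.Etale κ A] :
    ∃ (S : Type u) (_ : CommRing S) (_ : Algebra R S), Module.Finite R S ∧ Algebra.Etale R S ∧
      Nonempty (κ ⊗[R] S ≃ₐ[κ] A) := by
  classical
  obtain ⟨I, hI, Ai, hf, ha, e, hAi⟩ :=
    (Algebra.Etale.iff_exists_algEquiv_prod κ A).mp inferInstance
  have _ := Fintype.ofFinite I
  have key : ∀ i, ∃ (S : Type u) (_ : CommRing S) (_ : Algebra R S), Module.Finite R S ∧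
      Algebra.Etale R S ∧ Nonempty (κ ⊗[R] S ≃ₐ[κ] Ai i) := by
    intro i
    have _ := (hAi i).1
    have _ := (hAi i).2
    exact exists_lift_field R (Ai i)
  choose Si hc hal hfin het heq using key
  let _ : ∀ i, CommRing (Si i) := hc
  let _ : ∀ i, Algebra R (Si i) := hal
  have _ : ∀ i, Module.Finite R (Si i) := hfin
  have _ : ∀ i, Algebra.Etale R (Si i) := het
  refine ⟨∀ i, Si i, inferInstance, inferInstance, inferInstance, inferInstance, ?_⟩
  let e1 : κ ⊗[R] (∀ i, Si i) ≃ₐ[κ] ∀ i, κ ⊗[R] Si i :=
    Algebra.TensorProduct.piRight R κ κ Si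
  let e2 : (∀ i, κ ⊗[R] Si i) ≃ₐ[κ] ∀ i, Ai i :=
    AlgEquiv.piCongrRight (fun i => (heq i).some)
  exact ⟨(e1.trans e2).trans e.symm⟩

end Groth.Agent.Helper7.FiniteEtaleLift
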