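import Mathlib

/-!
# The image of an idempotent matrix: a finite projective module, compatible with base change
-/

open TensorProduct

namespace Groth.Agent.Helper7.Hensel

section Retracts

variable {S : Type*} [CommRing S] {M₁ M₂ N : Type*} [AddCommGroup M₁] [AddCommGroup M₂]
  [AddCommGroup N] [Module S M₁] [Module S M₂] [Module S N]

/-- Two retracts of the same module with the same associated idempotent are isomorphic. -/
noncomputable def linearEquivOfRetracts (i₁ : M₁ →ₗ[S] N) (p₁ : N →ₗ[S] M₁)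
    (h₁ : p₁ ∘ₗ i₁ = LinearMap.id) (i₂ : M₂ →ₗ[S] N) (p₂ : N →ₗ[S] M₂)
    (h₂ : p₂ ∘ₗ i₂ = LinearMap.id) (h : i₁ ∘ₗ p₁ = i₂ ∘ₗ p₂) : M₁ ≃ₗ[S] M₂ :=
  LinearEquiv.ofLinearMap (p₂ ∘ₗ i₁) (p₁ ∘ₗ i₂)
    (by
      have : (p₂ ∘ₗ i₁) ∘ₗ (p₁ ∘ₗ i₂) = p₂ ∘ₗ (i₁ ∘ₗ p₁) ∘ₗ i₂ := by
        simp only [LinearMap.comp_assoc]
      rw [this, h]
      have : p₂ ∘ₗ (i₂ ∘ₗ p₂) ∘ₗ i₂ = (p₂ ∘ₗ i₂) ∘ₗ (p₂ ∘ₗ i₂) := by
        simp only [LinearMap.comp_assoc]
      rw [this, h₂, LinearMap.comp_id])
    (by
      have : (p₁ ∘ₗ i₂) ∘ₗ (p₂ ∘ₗ i₁) = p₁ ∘ₗ (i₂ ∘ₗ p₂) ∘ₗ i₁ := by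
        simp only [LinearMap.comp_assoc]
      rw [this, ← h]
      have : p₁ ∘ₗ (i₁ ∘ₗ p₁) ∘ₗ i₁ = (p₁ ∘ₗ i₁) ∘ₗ (p₁ ∘ₗ i₁) := by
        simp only [LinearMap.comp_assoc]
      rw [this, h₁, LinearMap.comp_id])

end Retracts

variable {R : Type*} [CommRing R] {n : Type*} [Fintype n] [DecidableEq n]

/-- The image of a matrix acting on column vectors. -/
abbrev idemRange (E : Matrix n n R) : Submodule R (n → R) := LinearMap.range (Matrix.toLin' E)

/-- The retraction onto the image of an idempotent matrix. -/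
noncomputable abbrev idemRetr (E : Matrix n n R) : (n → R) →ₗ[R] idemRange E :=
  (Matrix.toLin' E).rangeRestrict

theorem idemRetr_comp_subtype (E : Matrix n n R) (hE : IsIdempotentElem E) :
    idemRetr E ∘ₗ (idemRange E).subtype = LinearMap.id := by
  ext ⟨p, v, rfl⟩ : 2
  show Matrix.toLin' E (Matrix.toLin' E v) = Matrix.toLin' E v
  rw [← LinearMap.comp_apply, ← Matrix.toLin'_mul, hE.eq]

theorem subtype_comp_idemRetr (E : Matrix n n R) :
    (idemRange E).subtype ∘ₗ idemRetr E = Matrix.toLin' E := by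
  ext v : 1
  rfl

instance idemRange_finite (E : Matrix n n R) : Module.Finite R (idemRange E) :=
  Module.Finite.range _

theorem idemRange_projective (E : Matrix n n R) (hE : IsIdempotentElem E) :
    Module.Projective R (idemRange E) :=
  Module.Projective.of_split (idemRange E).subtype (idemRetr E) (idemRetr_comp_subtype E hE)

/-- Base change of the image of an idempotent matrix. -/
noncomputable def idemRangeBaseChange (S : Type*) [CommRing S] [Algebra R S] (E : Matrix n n R)
    (hE : IsIdempotentElem E) :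
    S ⊗[R] idemRange E ≃ₗ[S] idemRange (E.map (algebraMap R S)) :=
  linearEquivOfRetracts
    ((TensorProduct.piScalarRight R S S n).toLinearMap ∘ₗ (idemRange E).subtype.baseChange S)
    ((idemRetr E).baseChange S ∘ₗ (TensorProduct.piScalarRight R S S n).symm.toLinearMap)
    (by
      have : ((idemRetr E).baseChange S ∘ₗ (TensorProduct.piScalarRight R S S n).symm.toLinearMap)
          ∘ₗ ((TensorProduct.piScalarRight R S S n).toLinearMap ∘ₗ
            (idemRange E).subtype.baseChange S)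
          = (idemRetr E).baseChange S ∘ₗ (idemRange E).subtype.baseChange S := by
        refine LinearMap.ext fun x => ?_
        simp only [LinearMap.comp_apply, LinearEquiv.coe_coe, LinearEquiv.symm_apply_apply]
      rw [this, ← LinearMap.baseChange_comp, idemRetr_comp_subtype E hE, LinearMap.baseChange_id])
    (idemRange (E.map (algebraMap R S))).subtype (idemRetr (E.map (algebraMap R S)))
    (idemRetr_comp_subtype _ (by
      show E.map (algebraMap R S) * E.map (algebraMap R S) = E.map (algebraMap R S)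
      rw [← Matrix.map_mul, hE.eq]))
    (by
      rw [subtype_comp_idemRetr]
      have : ((TensorProduct.piScalarRight R S S n).toLinearMap ∘ₗ
            (idemRange E).subtype.baseChange S) ∘ₗ
          ((idemRetr E).baseChange S ∘ₗ (TensorProduct.piScalarRight R S S n).symm.toLinearMap)
          = (TensorProduct.piScalarRight R S S n).toLinearMap ∘ₗ
            (Matrix.toLin' E).baseChange S ∘ₗ
              (TensorProduct.piScalarRight R S S n).symm.toLinearMap := by
        rw [← subtype_comp_idemRetr E, LinearMap.baseChange_comp]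
        simp only [LinearMap.comp_assoc]
      rw [this]
      apply LinearMap.pi_ext'
      intro j
      apply LinearMap.ext_ring
      ext i
      simp [Matrix.toLin'_apply, Algebra.smul_def])

/-- A retract of a finite free module is the image of an idempotent matrix. -/
noncomputable def linearEquivIdemRange {Q : Type*} [AddCommGroup Q] [Module R Q]
    (f : (n → R) →ₗ[R] Q) (g : Q →ₗ[R] (n → R)) (hfg : f ∘ₗ g = LinearMap.id) :
    Q ≃ₗ[R] idemRange (LinearMap.toMatrix' (g ∘ₗ f)) :=
  linearEquivOfRetracts g f hfg (idemRange _).subtype (idemRetr _)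
    (idemRetr_comp_subtype _ (by
      show LinearMap.toMatrix' (g ∘ₗ f) * LinearMap.toMatrix' (g ∘ₗ f)
        = LinearMap.toMatrix' (g ∘ₗ f)
      rw [← LinearMap.toMatrix'_comp]
      have : (g ∘ₗ f) ∘ₗ (g ∘ₗ f) = g ∘ₗ (f ∘ₗ g) ∘ₗ f := by simp only [LinearMap.comp_assoc]
      rw [this, hfg, LinearMap.id_comp]))
    (by rw [subtype_comp_idemRetr, Matrix.toLin'_toMatrix'])

theorem isIdempotentElem_toMatrix' {Q : Type*} [AddCommGroup Q] [Module R Q]
    (f : (n → R) →ₗ[R] Q) (g : Q →ₗ[R] (n → R)) (hfg : f ∘ₗ g = LinearMap.id) :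
    IsIdempotentElem (LinearMap.toMatrix' (g ∘ₗ f)) := by
  show LinearMap.toMatrix' (g ∘ₗ f) * LinearMap.toMatrix' (g ∘ₗ f)
    = LinearMap.toMatrix' (g ∘ₗ f)
  rw [← LinearMap.toMatrix'_comp]
  have : (g ∘ₗ f) ∘ₗ (g ∘ₗ f) = g ∘ₗ (f ∘ₗ g) ∘ₗ f := by simp only [LinearMap.comp_assoc]
  rw [this, hfg, LinearMap.id_comp]

end Groth.Agent.Helper7.Hensel
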