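import Groth.Agent.Lib.Helper7.Hensel.MatrixIdem
import Groth.Agent.Lib.Helper7.Hensel.IdemRange
import Groth.Agent.Lib.Helper7.Hensel.Factor

/-!
# Lifting finite projective modules over a henselian pair
-/

open Polynomial TensorProduct

namespace Groth.Agent.Helper7.Hensel

universe u

theorem isCoprime_X_pow_X_sub_one_pow (S : Type*) [CommRing S] (N M : ℕ) :
    IsCoprime ((X : S[X]) ^ N) ((X - 1) ^ M) := by
  apply IsCoprime.pow
  exact ⟨1, -1, by ring⟩

theorem exists_matrix_lift {R : Type*} [CommRing R] (I : Ideal R) {n : Type*}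
    (Ebar : Matrix n n (R ⧸ I)) :
    ∃ E₀ : Matrix n n R, E₀.map (Ideal.Quotient.mk I) = Ebar := by
  refine ⟨Matrix.of fun i j => (Ideal.Quotient.mk_surjective (Ebar i j)).choose, ?_⟩
  ext i j
  exact (Ideal.Quotient.mk_surjective (Ebar i j)).choose_spec

theorem Gabber.exists_idempotent_matrix_lift {R : Type u} [CommRing R] {I : Ideal R}
    (hG : Gabber R I) {n : Type*} [Fintype n] [DecidableEq n] (Ebar : Matrix n n (R ⧸ I))
    (hE : IsIdempotentElem Ebar) :
    ∃ E : Matrix n n R, IsIdempotentElem E ∧ E.map (Ideal.Quotient.mk I) = Ebar := by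
  obtain ⟨E₀, hE₀⟩ := exists_matrix_lift I Ebar
  have hc : (E₀ * E₀ - E₀).map (Ideal.Quotient.mk I) = 0 := by
    rw [Matrix.map_sub (Ideal.Quotient.mk I) (fun a b => map_sub _ a b), Matrix.map_mul, hE₀,
      hE.eq, sub_self]
  obtain ⟨f, hf, hf0, hfmap⟩ := exists_monic_annihilator (Ideal.Quotient.mk I) E₀ hc
  have hmon : ((X - 1 : (R ⧸ I)[X]) ^ (Fintype.card n + 1)).Monic := by
    have := (monic_X_sub_C (1 : R ⧸ I)).pow (Fintype.card n + 1)
    simpa using this
  obtain ⟨g, h, -, -, ⟨u, v, huv⟩, hfgh, hg, hh⟩ := hG.exists_factorization f hf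
    (X ^ (Fintype.card n + 1)) ((X - 1) ^ (Fintype.card n + 1)) (monic_X_pow _) hmon
    (isCoprime_X_pow_X_sub_one_pow _ _ _) hfmap
  refine ⟨aeval E₀ (u * g), isIdempotentElem_aeval_of_factorization E₀ f g h u v hf0 hfgh huv, ?_⟩
  rw [map_aeval_eq_of_idempotent (Ideal.Quotient.mk I) E₀ (Fintype.card n) g h u v
    (by rw [hE₀]; exact hE) hg hh huv, hE₀]

theorem Gabber.exists_projective_lift {R : Type u} [CommRing R] {I : Ideal R} (hG : Gabber R I)
    (Q : Type u) [AddCommGroup Q] [Module (R ⧸ I) Q] [Module.Finite (R ⧸ I) Q]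
    [Module.Projective (R ⧸ I) Q] :
    ∃ (P : Type u) (_ : AddCommGroup P) (_ : Module R P), Module.Finite R P ∧
      Module.Projective R P ∧ Nonempty (TensorProduct R (R ⧸ I) P ≃ₗ[R ⧸ I] Q) := by
  classical
  obtain ⟨n, f, g, -, -, hfg⟩ := Module.Finite.exists_comp_eq_id_of_projective (R ⧸ I) Q
  have hEbar := isIdempotentElem_toMatrix' f g hfg
  obtain ⟨E, hE, hEmap⟩ := hG.exists_idempotent_matrix_lift _ hEbar
  refine ⟨idemRange E, inferInstance, inferInstance, inferInstance, idemRange_projective E hE, ?_⟩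
  have e1 := idemRangeBaseChange (R ⧸ I) E hE
  have hmap : E.map (algebraMap R (R ⧸ I)) = LinearMap.toMatrix' (g ∘ₗ f) := hEmap
  rw [hmap] at e1
  exact ⟨e1.trans (linearEquivIdemRange f g hfg).symm⟩

end Groth.Agent.Helper7.Hensel
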