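import Groth.Agent.Lib.Helper7.Hensel.IdemConverse2
import Groth.Agent.Lib.Helper7.Hensel.Iff
import Groth.Agent.Lib.Helper7.Hensel.ProjectiveLift

/-!
# Henselian pairs from idempotent lifting in the algebras `A[T]/(p)`, `p ≡ (T^2 - T)^m`
-/

open Polynomial

namespace Groth.Agent.Helper7.Hensel

universe u

theorem henselianRing_of_idempotents_lift_sq_sub_pow (A : Type u) [CommRing A]
    (I : Ideal A) (hI : I ≤ Ideal.jacobson ⊥)
    (h : ∀ (m : ℕ) (p : A[X]), p.Monic →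
      p.map (Ideal.Quotient.mk I) = ((X ^ 2 - X) ^ m : A[X]).map (Ideal.Quotient.mk I) →
      Set.SurjOn (Ideal.Quotient.mk (Ideal.map (algebraMap A (AdjoinRoot p)) I))
        {e : AdjoinRoot p | IsIdempotentElem e} {e | IsIdempotentElem e}) :
    HenselianRing A I := by
  apply Gabber.henselianRing
  apply gabber_of_idempotent_adjoinRoot I hI
  intro n hn p hp hpI
  rcases subsingleton_or_nontrivial A with hA | hA
  · have : Subsingleton (AdjoinRoot (X ^ n * (X - 1) + p)) := Module.subsingleton A _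
    exact ⟨0, IsIdempotentElem.zero, by rw [Subsingleton.elim (0 - _ : AdjoinRoot _) 0]; simp⟩
  obtain ⟨k, rfl⟩ : ∃ k, n = k + 1 := ⟨n - 1, by omega⟩
  obtain ⟨F, hF⟩ : ∃ F : A[X], F = X ^ (k + 1) * (X - 1) + p := ⟨_, rfl⟩
  rw [← hF]
  have hFm : F.Monic := hF ▸ monic_gabber_poly (k + 1) p hp
  have hmon1 : ((X - 1 : A[X]) ^ k).Monic := by
    have := (monic_X_sub_C (1 : A)).pow k
    simpa using this
  obtain ⟨P, hP⟩ : ∃ P : A[X], P = F * (X - 1) ^ k := ⟨_, rfl⟩
  have hPm : P.Monic := hP ▸ hFm.mul hmon1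
  have hpmap : p.map (Ideal.Quotient.mk I) = 0 := by
    ext i
    rw [coeff_map, coeff_zero]
    exact Ideal.Quotient.eq_zero_iff_mem.mpr (hpI i)
  have hPmap : P.map (Ideal.Quotient.mk I)
      = ((X ^ 2 - X) ^ (k + 1) : A[X]).map (Ideal.Quotient.mk I) := by
    rw [hP, hF]
    simp only [Polynomial.map_mul, Polynomial.map_add, Polynomial.map_pow, Polynomial.map_sub,
      Polynomial.map_one, map_X, hpmap, add_zero]
    have hsq : (X ^ 2 - X : (A ⧸ I)[X]) = X * (X - 1) := by ring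
    rw [hsq, mul_pow, pow_succ (X - 1 : (A ⧸ I)[X]) k]
    ring
  have hsurj := h (k + 1) P hPm hPmap
  obtain ⟨u, v, huv⟩ := isCoprime_X_pow_X_sub_one_pow A (k + 1) (k + 1)
  -- notation
  obtain ⟨xP, hxP⟩ : ∃ xP : AdjoinRoot P, xP = AdjoinRoot.root P := ⟨_, rfl⟩
  obtain ⟨xF, hxF⟩ : ∃ xF : AdjoinRoot F, xF = AdjoinRoot.root F := ⟨_, rfl⟩
  have hPx : aeval xP P = 0 := by rw [hxP, AdjoinRoot.aeval_eq, AdjoinRoot.mk_self]
  have hFx : aeval xF F = 0 := by rw [hxF, AdjoinRoot.aeval_eq, AdjoinRoot.mk_self]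
  have hpxP : aeval xP p ∈ I.map (algebraMap A (AdjoinRoot P)) :=
    aeval_mem_map_of_coeff_mem I xP p hpI
  have hpxF : aeval xF p ∈ I.map (algebraMap A (AdjoinRoot F)) :=
    aeval_mem_map_of_coeff_mem I xF p hpI
  -- `X^(k+1) (X-1)^(k+1)` vanishes at `xP` modulo `I`
  have hprod : aeval xP (X ^ (k + 1) * (X - 1) ^ (k + 1) : A[X])
      ∈ I.map (algebraMap A (AdjoinRoot P)) := by
    have h1 : (X ^ (k + 1) * (X - 1) ^ (k + 1) : A[X]) = P - p * (X - 1) ^ k := by
      rw [hP, hF]; ring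
    rw [h1, map_sub, hPx, zero_sub, map_mul]
    exact neg_mem (Ideal.mul_mem_right _ _ hpxP)
  -- the idempotent modulo `I`
  have hidem : IsIdempotentElem (Ideal.Quotient.mk (I.map (algebraMap A (AdjoinRoot P)))
      (aeval xP (u * X ^ (k + 1)))) := by
    show _ * _ = _
    rw [← map_mul, Ideal.Quotient.eq]
    have h1 : aeval xP (u * X ^ (k + 1)) * aeval xP (u * X ^ (k + 1)) - aeval xP (u * X ^ (k + 1))
        = - (aeval xP (u * v) * aeval xP (X ^ (k + 1) * (X - 1) ^ (k + 1) : A[X])) := by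
      rw [← map_mul, ← map_mul, ← map_sub, ← map_neg]
      congr 1
      linear_combination (u * X ^ (k + 1)) * huv
    rw [h1]
    exact neg_mem (Ideal.mul_mem_left _ _ hprod)
  obtain ⟨eP, heP, heeP⟩ := hsurj hidem
  have heeP' : eP - aeval xP (u * X ^ (k + 1)) ∈ I.map (algebraMap A (AdjoinRoot P)) :=
    Ideal.Quotient.eq.mp heeP
  -- the map `A[T]/(P) → A[T]/(F)`
  have hFP : eval₂ (Algebra.ofId A (AdjoinRoot F)) xF P = 0 := by
    have : eval₂ (Algebra.ofId A (AdjoinRoot F) : A →+* AdjoinRoot F) xF P = aeval xF P := rfl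
    rw [this, hP, map_mul, hFx, zero_mul]
  let π : AdjoinRoot P →ₐ[A] AdjoinRoot F :=
    AdjoinRoot.liftAlgHom P (Algebra.ofId A (AdjoinRoot F)) xF hFP
  have hπx : π xP = xF := by
    rw [hxP]; exact AdjoinRoot.liftAlgHom_root _ _ _ _
  have hπJ : ∀ z ∈ I.map (algebraMap A (AdjoinRoot P)), π z ∈ I.map (algebraMap A (AdjoinRoot F)) := by
    intro z hz
    have h1 : π.toRingHom z ∈ (I.map (algebraMap A (AdjoinRoot P))).map π.toRingHom :=
      Ideal.mem_map_of_mem _ hz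
    rw [Ideal.map_map] at h1
    have h2 : π.toRingHom.comp (algebraMap A (AdjoinRoot P)) = algebraMap A (AdjoinRoot F) :=
      π.comp_algebraMap
    rw [h2] at h1
    exact h1
  refine ⟨π eP, heP.map π, ?_⟩
  have hu1 : (u - 1).IsRoot 1 := by
    have := congrArg (eval 1) huv
    simp only [eval_add, eval_mul, eval_pow, eval_X, eval_sub, eval_one, one_pow, sub_self,
      ne_eq, Nat.add_eq_zero_iff, one_ne_zero, and_false, not_false_eq_true, zero_pow, mul_zero,
      add_zero, mul_one] at this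
    rw [IsRoot.def, eval_sub, eval_one, this, sub_self]
  have hw : (X - C 1) * ((u - 1) /ₘ (X - C 1)) = u - 1 := mul_divByMonic_eq_iff_isRoot.mpr hu1
  have h3 : aeval xF u * xF ^ (k + 1) - xF ^ (k + 1)
      = - (aeval xF ((u - 1) /ₘ (X - C 1)) * aeval xF p) := by
    have h4 : (u * X ^ (k + 1) - X ^ (k + 1) : A[X])
        = ((u - 1) /ₘ (X - C 1)) * (F - p) := by
      rw [hF]
      calc (u * X ^ (k + 1) - X ^ (k + 1) : A[X]) = (u - 1) * X ^ (k + 1) := by ring
        _ = (X - C 1) * ((u - 1) /ₘ (X - C 1)) * X ^ (k + 1) := by rw [hw]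
        _ = ((u - 1) /ₘ (X - C 1)) * (X ^ (k + 1) * (X - 1) + p - p) := by
          rw [map_one]; ring
    have h5 := congrArg (aeval xF) h4
    simp only [map_sub, map_mul, map_pow, aeval_X, hFx, zero_sub, mul_neg] at h5
    exact h5
  have h6 : π eP - xF ^ (k + 1)
      = π (eP - aeval xP (u * X ^ (k + 1))) + (aeval xF u * xF ^ (k + 1) - xF ^ (k + 1)) := by
    rw [map_sub, ← aeval_algHom_apply, hπx, map_mul, map_pow, aeval_X]; ring
  rw [← hxF, h6, h3]
  exact Ideal.add_mem _ (hπJ _ heeP') (neg_mem (Ideal.mul_mem_left _ _ hpxF))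

end Groth.Agent.Helper7.Hensel
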