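import Groth.Agent.Lib.Helper7.Hensel.Basic

/-!
# Limits of henselian pairs
-/

open Polynomial CategoryTheory CategoryTheory.Limits

namespace Groth.Agent.Helper7.Hensel

universe u

/-- Uniqueness of Hensel roots in a prescribed residue class. -/
theorem root_unique_of_le_jacobson {A : Type*} [CommRing A] {I : Ideal A}
    (hjac : I ≤ Ideal.jacobson ⊥) (f : A[X]) (a₀ a a' : A)
    (hu : IsUnit (Ideal.Quotient.mk I (f.derivative.eval a₀))) (ha : f.IsRoot a)
    (ha' : f.IsRoot a') (h : a - a₀ ∈ I) (h' : a' - a₀ ∈ I) : a = a' := by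
  obtain ⟨k, hk⟩ := f.binomExpansion a (a' - a)
  rw [add_sub_cancel, ha'.eq_zero, ha.eq_zero, zero_add] at hk
  have hdiff : a' - a ∈ I := by
    have : a' - a = (a' - a₀) - (a - a₀) := by ring
    rw [this]; exact I.sub_mem h' h
  have hunit : IsUnit (f.derivative.eval a + k * (a' - a)) := by
    apply isUnit_of_isUnit_mk hjac
    have h1 : Ideal.Quotient.mk I (f.derivative.eval a + k * (a' - a))
        = Ideal.Quotient.mk I (f.derivative.eval a₀) := by
      rw [Ideal.Quotient.eq]
      have h2 : f.derivative.eval a - f.derivative.eval a₀ ∈ I :=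
        Ideal.mem_of_dvd _ (Polynomial.sub_dvd_eval_sub a a₀ f.derivative) h
      have : f.derivative.eval a + k * (a' - a) - f.derivative.eval a₀
          = (f.derivative.eval a - f.derivative.eval a₀) + k * (a' - a) := by ring
      rw [this]
      exact I.add_mem h2 (I.mul_mem_left _ hdiff)
    rw [h1]; exact hu
  have h0 : (a' - a) * (f.derivative.eval a + k * (a' - a)) = 0 := by
    rw [hk]; ring
  have := (hunit.mul_left_eq_zero).mp h0
  exact (sub_eq_zero.mp this).symm

/-- An element of a limit of commutative rings with prescribed compatible projections. -/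
theorem exists_of_sections {J : Type u} [Category.{u} J] (F : J ⥤ CommRingCat.{u})
    (s : ∀ j, F.obj j) (hs : ∀ {i j : J} (φ : i ⟶ j), (F.map φ).hom (s i) = s j) :
    ∃ a : (limit F : CommRingCat.{u}), ∀ j, (limit.π F j).hom a = s j := by
  let t := isLimitOfPreserves (forget CommRingCat.{u}) (limit.isLimit F)
  refine ⟨(Types.isLimitEquivSections t).symm ⟨s, fun φ => hs φ⟩, fun j => ?_⟩
  exact Types.isLimitEquivSections_symm_apply t _ j

end Groth.Agent.Helper7.Hensel
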