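import Groth.Agent.Lib.Helper7.Hensel.Limit

/-!
# Limits of henselian pairs: main theorem
-/

open Polynomial CategoryTheory CategoryTheory.Limits

namespace Groth.Agent.Helper7.Hensel

universe u

theorem henselianRing_limit (J : Type u) [Preorder J] (F : J ⥤ CommRingCat.{u})
    (I : ∀ j : J, Ideal (F.obj j))
    (hI : ∀ (i j : J) (φ : i ⟶ j), Ideal.map (F.map φ).hom (I i) ≤ I j)
    (h : ∀ j : J, HenselianRing (F.obj j) (I j)) :
    HenselianRing ((limit F : CommRingCat.{u}) : Type u)
      (⨅ j : J, Ideal.comap (limit.π F j).hom (I j)) := by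
  have hw : ∀ {i j : J} (φ : i ⟶ j) (a : (limit F : CommRingCat.{u})),
      (F.map φ).hom ((limit.π F i).hom a) = (limit.π F j).hom a := by
    intro i j φ a
    have := limit.w F φ
    rw [← this]
    rfl
  have hmem : ∀ a : (limit F : CommRingCat.{u}),
      a ∈ (⨅ j : J, Ideal.comap (limit.π F j).hom (I j)) ↔ ∀ j, (limit.π F j).hom a ∈ I j := by
    intro a
    simp
  have hImap : ∀ {i j : J} (φ : i ⟶ j) (z : F.obj i), z ∈ I i → (F.map φ).hom z ∈ I j :=
    fun φ z hz => hI _ _ φ (Ideal.mem_map_of_mem _ hz)
  constructor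
  · intro x hx
    rw [Ideal.mem_jacobson_bot]
    intro y
    have hu : ∀ j, IsUnit ((limit.π F j).hom (x * y + 1)) := by
      intro j
      rw [map_add, map_mul, map_one]
      exact (Ideal.mem_jacobson_bot.mp ((h j).jac ((hmem x).mp hx j))) _
    choose u hu' using fun j => (hu j).exists_right_inv
    obtain ⟨v, hv⟩ := exists_of_sections F u (by
      intro i j φ
      have h1 : (limit.π F j).hom (x * y + 1) * (F.map φ).hom (u i) = 1 := by
        rw [← hw φ, ← map_mul, hu' i, map_one]
      calc (F.map φ).hom (u i)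
          = (u j * (limit.π F j).hom (x * y + 1)) * (F.map φ).hom (u i) := by
            rw [mul_comm (u j), hu' j, one_mul]
        _ = u j := by rw [mul_assoc, h1, mul_one])
    refine IsUnit.of_mul_eq_one v ?_
    apply Concrete.limit_ext
    intro j
    show (limit.π F j).hom ((x * y + 1) * v) = (limit.π F j).hom 1
    rw [map_mul, hv, hu' j, map_one]
  · intro f hf a₀ h₁ h₂
    have hunit : ∀ j, IsUnit (Ideal.Quotient.mk (I j)
        ((f.map (limit.π F j).hom).derivative.eval ((limit.π F j).hom a₀))) := by
      intro j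
      rw [derivative_map, eval_map_apply]
      obtain ⟨b, hb⟩ := h₂.exists_right_inv
      obtain ⟨b, rfl⟩ := Ideal.Quotient.mk_surjective b
      rw [← map_mul, ← map_one (Ideal.Quotient.mk _), Ideal.Quotient.eq] at hb
      have h3 := (hmem _).mp hb j
      rw [map_sub, map_mul, map_one] at h3
      refine IsUnit.of_mul_eq_one (Ideal.Quotient.mk (I j) ((limit.π F j).hom b)) ?_
      rw [← map_mul, ← map_one (Ideal.Quotient.mk _), Ideal.Quotient.eq]
      exact h3
    have key : ∀ j, ∃ a : F.obj j, (f.map (limit.π F j).hom).IsRoot a ∧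
        a - (limit.π F j).hom a₀ ∈ I j := by
      intro j
      apply (h j).is_henselian (f.map (limit.π F j).hom) (hf.map _) ((limit.π F j).hom a₀)
      · rw [eval_map_apply]; exact (hmem _).mp h₁ j
      · exact hunit j
    choose r hr hr' using key
    have hfmap : ∀ {i j : J} (φ : i ⟶ j),
        (f.map (limit.π F i).hom).map (F.map φ).hom = f.map (limit.π F j).hom := by
      intro i j φ
      rw [Polynomial.map_map]
      congr 1
      ext a
      exact hw φ a
    obtain ⟨a, ha⟩ := exists_of_sections F r (by
      intro i j φ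
      refine root_unique_of_le_jacobson (h j).jac (f.map (limit.π F j).hom)
        ((limit.π F j).hom a₀) _ _ (hunit j) ?_ (hr j) ?_ (hr' j)
      · rw [← hfmap φ, IsRoot.def, eval_map_apply, (hr i).eq_zero, map_zero]
      · rw [← hw φ a₀, ← map_sub]
        exact hImap φ _ (hr' i))
    refine ⟨a, ?_, ?_⟩
    · apply Concrete.limit_ext
      intro j
      show (limit.π F j).hom (f.eval a) = (limit.π F j).hom 0
      rw [← eval_map_apply, ha, (hr j).eq_zero, map_zero]
    · refine (hmem _).mpr fun j => ?_
      rw [map_sub, ha]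
      exact hr' j

end Groth.Agent.Helper7.Hensel
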