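import Mathlib

/-!
# Lifting idempotent matrices via polynomial factorizations
-/

open Polynomial Matrix

namespace Groth.Agent.Helper7.Hensel

variable {R S : Type*} [CommRing R] [CommRing S] {n : Type*} [Fintype n] [DecidableEq n]

/-- Evaluating polynomials at matrices commutes with entrywise ring homomorphisms. -/
theorem map_aeval_matrix (φ : R →+* S) (E : Matrix n n R) (p : R[X]) :
    (aeval E p).map φ = aeval (E.map φ) (p.map φ) := by
  have h1 : (aeval E p).map φ = φ.mapMatrix (eval₂ (algebraMap R (Matrix n n R)) E p) := rfl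
  rw [h1, hom_eval₂, aeval_def, eval₂_map]
  congr 1
  ext r i j
  by_cases hij : i = j <;> simp [Matrix.algebraMap_matrix_apply, hij]

/-- A monic polynomial annihilating a matrix which is idempotent modulo the kernel of `φ`,
congruent to `X ^ (N+1) * (X - 1) ^ (N+1)`. -/
theorem exists_monic_annihilator (φ : R →+* S) (E₀ : Matrix n n R)
    (hE : (E₀ * E₀ - E₀).map φ = 0) :
    ∃ f : R[X], f.Monic ∧ aeval E₀ f = 0 ∧
      f.map φ = X ^ (Fintype.card n + 1) * (X - 1) ^ (Fintype.card n + 1) := by
  rcases subsingleton_or_nontrivial R with hR | hR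
  · have : Subsingleton S := by
      refine subsingleton_of_zero_eq_one ?_
      rw [← map_zero φ, ← map_one φ, Subsingleton.elim (0 : R) 1]
    exact ⟨1, monic_one, Subsingleton.elim _ _, Subsingleton.elim _ _⟩
  set c := E₀ * E₀ - E₀ with hc
  have hq : (X ^ 2 - X : R[X]).Monic := by
    apply monic_X_pow_sub
    exact lt_of_le_of_lt degree_X_le (by norm_num)
  have hqd : (X ^ 2 - X : R[X]).natDegree ≠ 0 := by
    have : (X ^ 2 - X : R[X]).natDegree = 2 := by
      rw [natDegree_sub_eq_left_of_natDegree_lt] <;> simp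
    rw [this]; norm_num
  refine ⟨(X * c.charpoly).comp (X ^ 2 - X), (monic_X.mul (charpoly_monic c)).comp hq hqd, ?_, ?_⟩
  · rw [aeval_comp]
    have h1 : aeval E₀ (X ^ 2 - X : R[X]) = c := by
      simp [hc, pow_two]
    rw [h1, map_mul, aeval_self_charpoly, mul_zero]
  · rw [Polynomial.map_comp, Polynomial.map_mul, ← charpoly_map, hE, charpoly_zero, map_X]
    simp only [Polynomial.map_sub, Polynomial.map_pow, map_X]
    rw [← pow_succ', pow_comp, X_comp, ← mul_pow]
    congr 1
    ring

/-- A coprime factorization of an annihilating polynomial yields an idempotent. -/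
theorem isIdempotentElem_aeval_of_factorization (E₀ : Matrix n n R) (f g h u v : R[X])
    (hf : aeval E₀ f = 0) (hfgh : f = g * h) (huv : u * g + v * h = 1) :
    IsIdempotentElem (aeval E₀ (u * g)) := by
  have h1 : aeval E₀ (u * g) + aeval E₀ (v * h) = 1 := by
    rw [← map_add, huv, map_one]
  have h2 : aeval E₀ (u * g) * aeval E₀ (v * h) = 0 := by
    rw [← map_mul]
    have : u * g * (v * h) = u * v * f := by rw [hfgh]; ring
    rw [this, map_mul, hf, mul_zero]
  show aeval E₀ (u * g) * aeval E₀ (u * g) = aeval E₀ (u * g)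
  have h3 : aeval E₀ (u * g) = aeval E₀ (u * g) * (aeval E₀ (u * g) + aeval E₀ (v * h)) := by
    rw [h1, mul_one]
  conv_rhs => rw [h3]
  rw [mul_add, h2, add_zero]

/-- The idempotent built from a factorization lifting `X ^ (N+1) * (X-1) ^ (N+1)` reduces to
the original idempotent. -/
theorem map_aeval_eq_of_idempotent (φ : R →+* S) (E₀ : Matrix n n R) (N : ℕ)
    (g h u v : R[X]) (hE : IsIdempotentElem (E₀.map φ)) (hg : g.map φ = X ^ (N + 1))
    (hh : h.map φ = (X - 1) ^ (N + 1)) (huv : u * g + v * h = 1) :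
    (aeval E₀ (u * g)).map φ = E₀.map φ := by
  rw [map_aeval_matrix]
  set Ebar := E₀.map φ with hEbar
  have hpoly : u.map φ * X ^ (N + 2) + (v.map φ * (X - 1) ^ N) * ((X - 1) * X) = X := by
    have := congrArg (Polynomial.map φ) huv
    simp only [Polynomial.map_add, Polynomial.map_mul, Polynomial.map_one, hg, hh] at this
    calc u.map φ * X ^ (N + 2) + (v.map φ * (X - 1) ^ N) * ((X - 1) * X)
        = (u.map φ * X ^ (N + 1) + v.map φ * (X - 1) ^ (N + 1)) * X := by ring
      _ = X := by rw [this, one_mul]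
  have h0 : aeval Ebar ((X - 1) * X : S[X]) = 0 := by
    simp only [map_mul, map_sub, aeval_X, map_one]
    rw [sub_mul, one_mul, hE.eq, sub_self]
  have h1 := congrArg (aeval Ebar) hpoly
  rw [map_add, map_mul (aeval Ebar) (v.map φ * (X - 1) ^ N), h0, mul_zero, add_zero, aeval_X] at h1
  rw [Polynomial.map_mul, hg]
  have h2 : aeval Ebar (u.map φ * X ^ (N + 2)) = aeval Ebar (u.map φ * X ^ (N + 1)) := by
    simp only [map_mul, map_pow, aeval_X]
    rw [hE.pow_succ_eq, hE.pow_succ_eq]
  rw [← h2, h1]

end Groth.Agent.Helper7.Hensel
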