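import Mathlib

/-!
# Lifting idempotents in finite products of local rings
-/

namespace Groth.Agent.Helper7.Hensel

universe u v

/-- In a finite product of rings, an element all of whose components lie in the images of an
ideal lies in the ideal. -/
theorem pi_mem_of_forall_mem_map {ι : Type*} [Finite ι] {A : ι → Type*} [∀ i, CommRing (A i)]
    (J : Ideal (∀ i, A i)) (x : ∀ i, A i)
    (hx : ∀ i, x i ∈ J.map (Pi.evalRingHom A i)) : x ∈ J := by
  classical
  cases nonempty_fintype ι
  have hsum : x = ∑ i, Pi.single i (x i) := by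
    ext j; simp [Finset.sum_apply]
  rw [hsum]
  refine J.sum_mem fun i _ => ?_
  obtain ⟨y, hy, hyi⟩ := (Ideal.mem_map_iff_of_surjective (Pi.evalRingHom A i)
    (fun a => ⟨Pi.single i a, by simp⟩)).mp (hx i)
  have : (Pi.single i (x i) : ∀ i, A i) = y * Pi.single i 1 := by
    ext j
    by_cases hj : j = i
    · subst hj; simpa using hyi.symm
    · simp [hj]
  rw [this]
  exact J.mul_mem_right _ hy

/-- In a finite product of local rings, every element which is idempotent modulo an ideal is
congruent to an idempotent. -/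
theorem pi_exists_idempotent {ι : Type*} [Finite ι] {A : ι → Type*} [∀ i, CommRing (A i)]
    [∀ i, IsLocalRing (A i)] (J : Ideal (∀ i, A i)) (a : ∀ i, A i) (ha : a * a - a ∈ J) :
    ∃ e : ∀ i, A i, IsIdempotentElem e ∧ e - a ∈ J := by
  classical
  refine ⟨fun i => if IsUnit (a i) then 1 else 0, ?_, ?_⟩
  · ext i
    show (if IsUnit (a i) then (1 : A i) else 0) * (if IsUnit (a i) then (1 : A i) else 0) = _
    split_ifs <;> simp
  · refine pi_mem_of_forall_mem_map J _ fun i => ?_
    have hai : a i * a i - a i ∈ J.map (Pi.evalRingHom A i) :=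
      Ideal.mem_map_of_mem (Pi.evalRingHom A i) ha
    show (if IsUnit (a i) then (1 : A i) else 0) - a i ∈ _
    split_ifs with hu
    · -- `a i` is a unit
      have : (1 : A i) - a i = -(↑hu.unit⁻¹ * (a i * a i - a i)) := by
        have h1 : (↑hu.unit⁻¹ : A i) * a i = 1 := hu.val_inv_mul
        linear_combination (a i - 1) * h1
      rw [this]
      exact neg_mem (Ideal.mul_mem_left _ _ hai)
    · have hu' : IsUnit (1 - a i) :=
        (IsLocalRing.isUnit_or_isUnit_one_sub_self (a i)).resolve_left hu
      have : (0 : A i) - a i = ↑hu'.unit⁻¹ * (a i * a i - a i) := by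
        have h1 : (↑hu'.unit⁻¹ : A i) * (1 - a i) = 1 := hu'.val_inv_mul
        linear_combination (a i) * h1
      rw [this]
      exact Ideal.mul_mem_left _ _ hai

/-- Idempotents lift along any quotient of a ring isomorphic to a finite product of local
rings. -/
theorem exists_idempotent_of_ringEquiv_pi {B : Type*} [CommRing B] {ι : Type*} [Finite ι]
    {A : ι → Type*} [∀ i, CommRing (A i)] [∀ i, IsLocalRing (A i)] (φ : B ≃+* (∀ i, A i))
    (J : Ideal B) (b : B) (hb : b * b - b ∈ J) :
    ∃ e : B, IsIdempotentElem e ∧ e - b ∈ J := by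
  obtain ⟨e', he', hmem⟩ := pi_exists_idempotent (J.comap (φ.symm : (∀ i, A i) →+* B)) (φ b) (by
    rw [Ideal.mem_comap]
    simpa using hb)
  refine ⟨φ.symm e', ?_, ?_⟩
  · show φ.symm e' * φ.symm e' = φ.symm e'
    rw [← map_mul, he'.eq]
  · rw [Ideal.mem_comap] at hmem
    simpa using hmem

end Groth.Agent.Helper7.Hensel
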