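import Mathlib

/-!
# Residue classes of points of unramified algebras over a local ring with separably closed
residue field
-/

open TensorProduct IsLocalRing

namespace Groth.Agent.Helper7.Hensel

/-- Let `R` be a local ring with separably closed residue field, `S` a local `R`-algebra and
`E` an unramified `R`-algebra. For every `R`-algebra map `f : E → S`, the residue classes of
the values of `f` come from `R`. -/
theorem exists_residue_eq (R : Type*) [CommRing R] [IsLocalRing R] [IsSepClosed (ResidueField R)]
    (S : Type*) [CommRing S] [IsLocalRing S] [Algebra R S] [IsLocalHom (algebraMap R S)]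
    (E : Type*) [CommRing E] [Algebra R E] [Algebra.FormallyUnramified R E]
    [Algebra.FiniteType R E] (f : E →ₐ[R] S) (x : E) :
    ∃ r : R, residue S (f x) = residue S (algebraMap R S r) := by
  have hfinE : Module.Finite (ResidueField R) (ResidueField R ⊗[R] E) :=
    Algebra.FormallyUnramified.finite_of_free _ _
  let h : E →ₐ[R] ResidueField S := (IsScalarTower.toAlgHom R S (ResidueField S)).comp f
  let g : ResidueField R ⊗[R] E →ₐ[ResidueField R] ResidueField S :=
    Algebra.TensorProduct.lift (Algebra.ofId _ _) h (fun _ _ => Commute.all _ _)
  have hsurj : Function.Surjective g.rangeRestrict := g.rangeRestrict_surjective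
  have hfinL : Module.Finite (ResidueField R) g.range :=
    Module.Finite.of_surjective g.rangeRestrict.toLinearMap hsurj
  have hint : Algebra.IsIntegral (ResidueField R) g.range := inferInstance
  have hfield : IsField g.range :=
    isField_of_isIntegral_of_isField' (Field.toIsField (ResidueField R))
  let _ : Field g.range := hfield.toField
  have hunr : Algebra.FormallyUnramified (ResidueField R) g.range :=
    Algebra.FormallyUnramified.of_surjective g.rangeRestrict hsurj
  have hsep : Algebra.IsSeparable (ResidueField R) g.range :=
    Algebra.FormallyUnramified.isSeparable _ _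
  obtain ⟨c, hc⟩ := IsSepClosed.algebraMap_surjective (ResidueField R) g.range
    ⟨g ((1 : ResidueField R) ⊗ₜ[R] x), ⟨_, rfl⟩⟩
  obtain ⟨r, rfl⟩ := residue_surjective c
  refine ⟨r, ?_⟩
  have h1 : (algebraMap (ResidueField R) g.range (residue R r) : ResidueField S)
      = g ((1 : ResidueField R) ⊗ₜ[R] x) := congrArg Subtype.val hc
  have h2 : g ((1 : ResidueField R) ⊗ₜ[R] x) = residue S (f x) := by
    simp [g, h]
  rw [← h2, ← h1]
  rfl

end Groth.Agent.Helper7.Hensel
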