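import Groth.Agent.Lib.Helper7.Hensel.FiniteLocal

/-!
# Finite local unramified algebras over a local ring with separably closed residue field
-/

namespace Groth.Agent.Helper7.Hensel

open IsLocalRing

theorem surjective_algebraMap_of_unramified_of_isSepClosed (R : Type*) [CommRing R]
    [IsLocalRing R] [IsSepClosed (ResidueField R)] (A : Type*) [CommRing A] [IsLocalRing A]
    [Algebra R A] [Module.Finite R A] [Algebra.FormallyUnramified R A] :
    Function.Surjective (algebraMap R A) := by
  have hloc : IsLocalHom (algebraMap R A) :=
    ((IsLocalRing.local_hom_TFAE _).out 0 2).mpr map_maximalIdeal_le_maximalIdeal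
  have hmap := Algebra.FormallyUnramified.map_maximalIdeal (R := R) (S := A)
  have hsurjk : Function.Surjective (algebraMap (ResidueField R) (ResidueField A)) :=
    IsSepClosed.algebraMap_surjective _ _
  have hjac : maximalIdeal R ≤ Ideal.jacobson ⊥ := by
    rw [IsLocalRing.jacobson_eq_maximalIdeal ⊥ bot_ne_top]
  have htop : (⊤ : Submodule R A) ≤ LinearMap.range (Algebra.linearMap R A) := by
    apply Submodule.le_of_le_smul_of_le_jacobson_bot (I := maximalIdeal R) Module.Finite.fg_top
      hjac
    intro a _
    obtain ⟨rbar, hr⟩ := hsurjk (residue A a)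
    obtain ⟨r, rfl⟩ := residue_surjective rbar
    have h1 : residue A (a - algebraMap R A r) = 0 := by
      rw [map_sub, ← hr]
      exact sub_self _
    rw [residue_eq_zero_iff, ← hmap] at h1
    have h2 : a - algebraMap R A r ∈ (maximalIdeal R • ⊤ : Submodule R A) := by
      rw [Ideal.smul_top_eq_map]
      exact h1
    have : a = algebraMap R A r + (a - algebraMap R A r) := by ring
    rw [this]
    exact Submodule.add_mem_sup ⟨r, rfl⟩ h2
  intro a
  obtain ⟨r, hr⟩ := htop (Submodule.mem_top (x := a))
  exact ⟨r, hr⟩

end Groth.Agent.Helper7.Hensel
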