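import Groth.Agent.Lib.Helper7.Hensel.QuasiFiniteSplit
import Groth.Agent.Lib.Helper7.Hensel.FiniteDecompMain
import Groth.Agent.Lib.Helper7.Hensel.UnramifiedSepClosed

/-!
# Structure of quasi-finite and unramified algebras over (strictly) henselian local rings
-/

namespace Groth.Agent.Helper7.Hensel

universe u

/-- A quasi-finite algebra of finite type over a henselian local ring splits as a product of a
finite algebra and an algebra with empty closed fibre. -/
theorem exists_idempotent_split_of_quasiFinite (R : Type u) [CommRing R] [HenselianLocalRing R]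
    (S : Type u) [CommRing S] [Algebra R S] [Algebra.FiniteType R S] [Algebra.QuasiFinite R S] :
    ∃ e : S, IsIdempotentElem e ∧ Module.Finite R (S ⧸ Ideal.span ({1 - e} : Set S)) ∧
      Ideal.map (algebraMap R (S ⧸ Ideal.span ({e} : Set S))) (IsLocalRing.maximalIdeal R) = ⊤ := by
  classical
  have hfinF := Algebra.QuasiFinite.finite_comap_preimage_singleton (R := R) (S := S)
    (IsLocalRing.closedPoint R)
  obtain ⟨e, he, hfin, hF⟩ := exists_idempotent_split R S
    hfinF.toFinset (fun q _ => inferInstance)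
  refine ⟨e, he, hfin, ?_⟩
  by_contra hne
  obtain ⟨N, hN, hle⟩ := Ideal.exists_le_maximal _ hne
  have hNp : N.IsPrime := hN.isPrime
  let q : Ideal S := N.comap (Ideal.Quotient.mk (Ideal.span ({e} : Set S)))
  have hqp : q.IsPrime := Ideal.comap_isPrime _ _
  have hmq : IsLocalRing.maximalIdeal R ≤ q.comap (algebraMap R S) := by
    intro r hr
    rw [Ideal.mem_comap, Ideal.mem_comap]
    exact hle (Ideal.mem_map_of_mem _ hr)
  have hqc : q.comap (algebraMap R S) = IsLocalRing.maximalIdeal R := by
    have hp : (q.comap (algebraMap R S)).IsPrime := Ideal.comap_isPrime _ _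
    exact ((IsLocalRing.maximalIdeal.isMaximal R).eq_of_le hp.ne_top hmq).symm
  have hqF : (⟨q, hqp⟩ : PrimeSpectrum S) ∈ hfinF.toFinset := by
    rw [Set.Finite.mem_toFinset, Set.mem_preimage, Set.mem_singleton_iff]
    ext1
    exact hqc
  have heq : e ∈ q := by
    rw [Ideal.mem_comap, Ideal.Quotient.eq_zero_iff_mem.mpr (Ideal.mem_span_singleton_self e)]
    exact N.zero_mem
  exact hF ⟨q, hqp⟩ hqF (Ideal.map_le_iff_le_comap.mpr hmq) heq

/-- An unramified algebra over a strictly henselian local ring is a product of quotients of the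
base and an algebra with empty closed fibre. -/
theorem exists_algEquiv_of_unramified (R : Type u) [CommRing R] [HenselianLocalRing R]
    [IsSepClosed (IsLocalRing.ResidueField R)] (S : Type u) [CommRing S] [Algebra R S]
    [Algebra.Unramified R S] :
    ∃ (ι : Type u) (_ : Fintype ι) (A : ι → Type u) (_ : ∀ i, CommRing (A i))
      (_ : ∀ i, Algebra R (A i)) (B : Type u) (_ : CommRing B) (_ : Algebra R B),
      (∀ i, Function.Surjective (algebraMap R (A i))) ∧
      Ideal.map (algebraMap R B) (IsLocalRing.maximalIdeal R) = ⊤ ∧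
      Nonempty (S ≃ₐ[R] ((∀ i, A i) × B)) := by
  classical
  obtain ⟨e, he, hfin, htop⟩ := exists_idempotent_split_of_quasiFinite R S
  have hfinM := finite_maximalSpectrum R (S ⧸ Ideal.span ({1 - e} : Set S))
  have hft : Fintype (MaximalSpectrum (S ⧸ Ideal.span ({1 - e} : Set S))) := Fintype.ofFinite _
  obtain ⟨ε, hε, -, -, hloc⟩ := exists_idempotents_local R (S ⧸ Ideal.span ({1 - e} : Set S))
  let φ : S ≃ₐ[R] (S ⧸ Ideal.span ({1 - e} : Set S)) × (S ⧸ Ideal.span ({e} : Set S)) :=
    AlgEquiv.ofBijective ((Ideal.Quotient.mkₐ R _).prod (Ideal.Quotient.mkₐ R _))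
      (RingHom.prod_bijective_of_isIdempotentElem he.one_sub he (by ring)
        (by rw [sub_mul, one_mul, he.eq, sub_self]))
  let ψ : (S ⧸ Ideal.span ({1 - e} : Set S)) ≃ₐ[R]
      (∀ M : MaximalSpectrum (S ⧸ Ideal.span ({1 - e} : Set S)),
        (S ⧸ Ideal.span ({1 - e} : Set S)) ⧸ Ideal.span {1 - ε M}) :=
    AlgEquiv.ofBijective (AlgHom.pi (fun M => Ideal.Quotient.mkₐ R _)) hε.bijective_pi
  refine ⟨MaximalSpectrum (S ⧸ Ideal.span ({1 - e} : Set S)), hft,
    fun M => (S ⧸ Ideal.span ({1 - e} : Set S)) ⧸ Ideal.span {1 - ε M}, fun _ => inferInstance,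
    fun _ => inferInstance, S ⧸ Ideal.span ({e} : Set S), inferInstance, inferInstance, ?_, htop,
    ⟨φ.trans (AlgEquiv.prodCongr ψ AlgEquiv.refl)⟩⟩
  intro M
  have := hloc M
  have hunr : Algebra.FormallyUnramified R
      ((S ⧸ Ideal.span ({1 - e} : Set S)) ⧸ Ideal.span {1 - ε M}) :=
    Algebra.FormallyUnramified.of_surjective
      ((Ideal.Quotient.mkₐ R (Ideal.span {1 - ε M})).comp
        (Ideal.Quotient.mkₐ R (Ideal.span ({1 - e} : Set S))))
      ((Ideal.Quotient.mkₐ_surjective R _).comp (Ideal.Quotient.mkₐ_surjective R _))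
  exact surjective_algebraMap_of_unramified_of_isSepClosed R _

end Groth.Agent.Helper7.Hensel
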